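import Mathlib
import Cfsg.Agent.Gr.E6
import Cfsg.Agent.Gr.TriV
import Cfsg.Agent.Gr.OutMT
import Cfsg.Agent.Gr6B.I
import Cfsg.Agent.Spor.ESQuot
import Cfsg.Agent.Spor.ESPair2

/-!
Groups with an involution whose centraliser has shape `2^(1+20).U₆(2)`
(see `stubs/Cfsg/Agent/E6R/PLAN.md`).
-/

set_option autoImplicit false

namespace Cfsg.Agent.E6R

open Subgroup Cfsg.Agent.Spor Cfsg.Agent.Spor.Leech Cfsg.Agent.Spor.LC Cfsg.Agent.Gr Cfsg.Agent.Gr.Rk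

section Abstract

variable {X G : Type*} [Group X] [Group G]

/-- The four-group on `z`, `s`. -/
abbrev V4 (z s : X) : Subgroup X := closure {z, s}

/-- A subgroup of the product that is the graph of a map defined on a subgroup of `X`. -/
def Gf (Γ : Subgroup (X × G)) : Prop := ∀ y, (1, y) ∈ Γ → y = 1

theorem Gf.eq {Γ : Subgroup (X × G)} (h : Gf Γ) {x : X} {y y' : G} (a : (x, y) ∈ Γ) (b : (x, y') ∈ Γ) :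
    y = y' := inv_mul_eq_one.1 (h _ (by simpa using mul_mem (inv_mem a) b))

/-- `H` has index at most two in the centraliser of `z`. -/
structure Hf (H : Subgroup G) (z : G) : Prop where
  cen : ∀ h ∈ H, z * h = h * z
  two : ∀ a b, z * a = a * z → z * b = b * z → a ∉ H → b ∉ H → a * b ∈ H

/-- `N` identifies `C(z₁) / ⟨z₁⟩` with `H / ⟨z₂⟩`, and `Δ` is the graph of an isomorphism `Q₁ → Q₂`. -/
structure Mt (Q₁ : Subgroup X) (z₁ : X) (Q₂ H : Subgroup G) (z₂ : G) (N Δ : Subgroup (X × G)) : Prop where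
  es1 : ES2 Q₁ z₁
  lg1 : Lg Q₁ z₁
  es2 : ES2 Q₂ z₂
  lg2 : Lg Q₂ z₂
  hf : Hf H z₂
  le : Δ ≤ N
  mem : ∀ n ∈ N, z₁ * n.1 = n.1 * z₁ ∧ n.2 ∈ H
  on1 : ∀ x, z₁ * x = x * z₁ → ∃ y, (x, y) ∈ N
  on2 : ∀ y ∈ H, ∃ x, (x, y) ∈ N
  k1 : ∀ x, (x, 1) ∈ N → x = 1 ∨ x = z₁
  k2 : ∀ y, (1, y) ∈ N → y = 1 ∨ y = z₂
  hz : (1, z₂) ∈ N
  dm : ∀ d ∈ Δ, d.1 ∈ Q₁ ∧ d.2 ∈ Q₂
  d1 : ∀ p ∈ Q₁, ∃ q, (p, q) ∈ Δ
  d2 : ∀ q ∈ Q₂, ∃ p, (p, q) ∈ Δ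
  dz : (z₁, z₂) ∈ Δ
  dn : (1, z₂) ∉ Δ
  nm : ∀ n ∈ N, ∀ d ∈ Δ, n * d * n⁻¹ ∈ Δ

/-- What a conjugate `p` of `z` in `Q` sees of the second extraspecial group. -/
structure Bg (Q : Subgroup X) (z p : X) (Y : Subgroup X) : Prop where
  pQ : p ∈ Q
  p2 : p * p = 1
  p1 : p ≠ 1
  pz : p ≠ z
  zY : z ∈ Y
  pY : p ∈ Y
  cen : ∀ y ∈ Y, z * y = y * z ∧ p * y = y * p
  norm : ∀ c, z * c = c * z → p * c = c * p → ∀ y ∈ Y, c * y * c⁻¹ ∈ Y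
  sq : ∀ y ∈ Y, y * y ∈ Q
  card : 2 ^ 8 * Nat.card ↥(Y ⊓ Q) ≤ Nat.card Y
  cm1 : ∀ y ∈ Y, ∀ a ∈ Q, p * a = a * p → y * a * y⁻¹ * a⁻¹ ∈ Y
  cm2 : ∀ y ∈ Y, ∀ e ∈ Y ⊓ Q, y * e * y⁻¹ * e⁻¹ ∈ V4 z p

/-- The facts about the model that the comparison uses. -/
structure Md (Q R : Subgroup X) (z s w : X) : Prop where
  pair : ESPair Q R z s
  card : Nat.card Q = 2 ^ 21
  cenE : ∀ c, (∀ e ∈ Q ⊓ R, c * e = e * c) → c ∈ Q ⊓ R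
  wE : w ∈ Q ⊓ R
  wV : w ∉ V4 z s
  wc : ∃ k, z * k = k * z ∧ k * s * k⁻¹ = w
  fix : ∀ e ∈ Q ⊓ R, (∀ d, z * d = d * z → s * d = d * s → d * w * d⁻¹ * w⁻¹ ∈ V4 z s →
    d * e * d⁻¹ * e⁻¹ ∈ V4 z s) → e ∈ V4 z s ∨ e * w⁻¹ ∈ V4 z s
  gen : ∀ T : Subgroup X, V4 z s ≤ T → (∀ d, z * d = d * z → s * d = d * s → d * w * d⁻¹ ∈ T) → Q ⊓ R ≤ T
  mov : ∃ d, z * d = d * z ∧ s * d = d * s ∧ d * w * d⁻¹ * w⁻¹ ∉ V4 z s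
  cm : ∃ a ∈ Q, ∃ b ∈ R, s * a = a * s ∧ z * b = b * z ∧ a * b * a⁻¹ * b⁻¹ * w⁻¹ ∈ V4 z s
  perf : ∀ T : Subgroup X, Q ⊓ centralizer {s} ≤ T → R ⊓ centralizer {z} ≤ T →
    (∀ x y, z * x = x * z → s * x = x * s → z * y = y * z → s * y = y * s → x ∉ T → y ∉ T → x * y ∈ T) →
    ∀ d, z * d = d * z → s * d = d * s → d ∈ T
  big1 : ∀ p Y, Bg Q z p Y → ∃ k, z * k = k * z ∧ k * p * k⁻¹ = s
  big2 : ∀ Y, Bg Q z s Y → w ∈ Y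
  cls : ∀ u : X, u * u = 1 → ∃ g, g * u * g⁻¹ ∈ Q

/-- Compatible graphs over `C(z₁)` and `N(⟨z₁, s₁⟩)`. -/
structure Am (Q₁ R₁ : Subgroup X) (z₁ s₁ : X) (Q₂ R₂ H : Subgroup G) (z₂ s₂ : G)
    (Γ₁ Γ₂ : Subgroup (X × G)) : Prop where
  pair : ESPair Q₂ R₂ z₂ s₂
  card : Nat.card Q₂ = 2 ^ 21
  QH : Q₂ ≤ H
  hf : Hf H z₂
  g1 : Gf Γ₁
  g2 : Gf Γ₂
  inj : ∀ x, (x, 1) ∈ Γ₁ → x = 1
  mem : ∀ p ∈ Γ₁, z₁ * p.1 = p.1 * z₁ ∧ p.2 ∈ H ∧ (p.1 ∈ Q₁ ↔ p.2 ∈ Q₂)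
  on1 : ∀ x, z₁ * x = x * z₁ → ∃ y, (x, y) ∈ Γ₁
  onH : ∀ y ∈ H, ∃ x, (x, y) ∈ Γ₁
  mem2 : ∀ p ∈ Γ₂, p.1 ∈ normalizer (V4 z₁ s₁ : Set X)
  on2 : ∀ x ∈ normalizer (V4 z₁ s₁ : Set X), ∃ y, (x, y) ∈ Γ₂
  onR : ∀ x ∈ R₁, ∃ y ∈ R₂, (x, y) ∈ Γ₂
  onR' : ∀ y ∈ R₂, ∃ x ∈ R₁, (x, y) ∈ Γ₂
  le : ∀ p ∈ Γ₁, p.1 ∈ normalizer (V4 z₁ s₁ : Set X) → p ∈ Γ₂
  zz : (z₁, z₂) ∈ Γ₁
  ss : (s₁, s₂) ∈ Γ₁
  fus : ∀ p ∈ Γ₁, p.1 ∈ Q₁ → IsConj z₂ p.2 → p.1 = z₁ ∨ ∃ k, z₁ * k = k * z₁ ∧ k * p.1 * k⁻¹ = s₁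

/-- Root elements and Weyl group representatives of a group with a BN-pair of type `F₄`. -/
structure Lt (P : BNPair X) (a b c x : X) (n : Fin 4 → X) : Prop where
  S : P.S = Set.range n
  odd : Odd P.B.index
  a1 : a ≠ 1
  a2 : a * a = 1
  Ba : ∀ u ∈ P.B, a * u = u * a
  Bb : ∀ u ∈ P.B, u * b * u⁻¹ = b ∨ u * b * u⁻¹ = a * b
  bc : b * c = c * b
  n0a : n 0 * a * (n 0)⁻¹ = b
  n0c : n 0 * c * (n 0)⁻¹ = c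
  n1a : n 1 * a * (n 1)⁻¹ = a
  n1b : n 1 * b * (n 1)⁻¹ = c
  n2a : n 2 * a * (n 2)⁻¹ = a
  n2b : n 2 * b * (n 2)⁻¹ = b
  n3a : n 3 * a * (n 3)⁻¹ = a
  n3b : n 3 * b * (n 3)⁻¹ = b
  n00 : n 0 * n 0 = 1
  n11 : n 1 * n 1 = 1
  br : (n 0 * n 1) ^ 3 = 1
  xB : x ∈ P.B
  x3 : (n 0 * x) ^ 3 = 1
  xb : x * b * x⁻¹ = a * b
  ya : n 0 * n 1 * x * (n 0 * n 1)⁻¹ * a * (n 0 * n 1 * x * (n 0 * n 1)⁻¹)⁻¹ = a
  yb : n 0 * n 1 * x * (n 0 * n 1)⁻¹ * b * (n 0 * n 1 * x * (n 0 * n 1)⁻¹)⁻¹ = b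
  yc : n 0 * n 1 * x * (n 0 * n 1)⁻¹ * c * (n 0 * n 1 * x * (n 0 * n 1)⁻¹)⁻¹ = b * c

/-- An outer automorphism of order two with `a` in the derived group of a 2-group it centralises. -/
structure Ox (a : X) : Prop where
  out : Nat.card (Cfsg.Out X) = 6
  ex : ∃ (σ : MulAut X) (x b : X), σ * σ = 1 ∧ (∀ g, σ ≠ MulAut.conj g) ∧ σ x = x ∧ σ b = b ∧
    x * x = 1 ∧ b * b = 1 ∧ x * b * x⁻¹ * b⁻¹ = a

/-- The embedding of the model. -/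
structure Emb (Q₁ : Subgroup X) (a : X) (Q H : Subgroup G) (z : G) (φ : X →* G) : Prop where
  es1 : ES2 Q₁ a
  lg1 : Lg Q₁ a
  es : ES2 Q z
  lg : Lg Q z
  hf : Hf H z
  map_z : φ a = z
  le : H ≤ φ.range
  QH : Q ≤ H
  eight : 8 < Nat.card Q
  nwc : ∃ g : G, g * z * g⁻¹ ∈ Q ∧ g * z * g⁻¹ ≠ z
  cen : ∀ x, a * x = x * a → φ x ∈ H
  fus : ∀ g : G, g * z * g⁻¹ ∈ φ.range → ∃ x, φ x * z * (φ x)⁻¹ = g * z * g⁻¹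
  norm : ∀ c, z * c = c * z → ∀ x, c * φ x * c⁻¹ ∈ φ.range

end Abstract

section Lattice

/-- The span of the classes of two vectors; `InR = Sp v1 v2`. -/
def Sp (u w : Λ) (c : LL) : Prop := c = 0 ∨ c = cls u ∨ c = cls w ∨ c = cls u + cls w

theorem sp_iff {c : LL} : Sp v1 v2 c ↔ TriV.InR c := Iff.rfl

/-- The image in the stabiliser of `u`, `w` of a subgroup `Y` with `Bg`; `c` is the class of `p`. -/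
structure Nc (u w : Λ) (c : LL) (N : Subgroup Co0) : Prop where
  card : 2 ^ 8 ≤ Nat.card N
  fix : ∀ n ∈ N, n • u = u ∧ n • w = w
  stab : ∀ n ∈ N, Sp u w (csm n c + c)
  sq : ∀ n ∈ N, n * n = 1
  norm : ∀ k : Co0, k • u = u → k • w = w → Sp u w (csm k c + c) → ∀ n ∈ N, k * n * k⁻¹ ∈ N
  quad : ∀ x : LL, pol x (cls u) = 0 → pol x (cls w) = 0 → pol x c = 0 → ∀ n ∈ N, ∀ m ∈ N,
    Sp u w (csm m (csm n x + x) + (csm n x + x)) ∨ Sp u w (csm m (csm n x + x) + (csm n x + x) + c)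

end Lattice

section Model

theorem SS_le_CE : SS ≤ CE := fun _ hg => GenH.mem_cent2.2 ⟨(mem_SS.1 hg).1, (mem_SS.1 hg).2.1⟩

/-- Elements of `QK` in `CE`. -/
noncomputable def qE (e : ZMod 2) (c : LL) (h1 : pol c (cls v1) = 0) (h2 : pol c (cls v2) = 0) : CE :=
  ⟨tq e c, SS_le_CE (tq_mem_SS.2 ⟨h1, h2⟩)⟩

theorem v12_p1 {c : LL} (h : V12 c) : pol c (cls v1) = 0 := h.pol (v12_v44 _ _ _ _).1

theorem v12_p2 {c : LL} (h : V12 c) : pol c (cls v2) = 0 := h.pol (v12_v44 _ _ _ _).1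

theorem v12_om : V12 (om, 0) := by simpa using v12_smul 1 (φ := 0) (by simp)

noncomputable def zE : CE := ⟨zz, GenH.mem_cent2.2 ⟨zz_comm_t0, CL.es2.z_comm _ (mem_QK.2 ⟨_, _, s0_v2⟩)⟩⟩

noncomputable def oE : CE := qE 1 (om, 0) (v12_p1 v12_om) (v12_p2 v12_om)

noncomputable def wE : CE := qE 0 (clB none (some 2)) (v12_p1 (v12_clB _ _)) (v12_p2 (v12_clB _ _))

noncomputable def tauE : CE := ⟨tau, GenH.mem_cent2.2 ⟨tau_t0, tau_s0⟩⟩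

theorem tauE_conj : tauE * zE * tauE⁻¹ = oE := Subtype.ext tau_conj_zz

variable {X : Type*} [Group X]

/-- `ψ` identifies `CE / ⟨t0, s0⟩` with `X`. -/
structure Mo (ψ : CE →* X) : Prop where
  surj : Function.Surjective ψ
  ker : ∀ x, ψ x = 1 ↔ x = 1 ∨ x = tE ∨ x = sE ∨ x = tE * sE

theorem Mo.conj {ψ : CE →* X} (h : Mo ψ) (g : X) : Mo ((MulAut.conj g).toMonoidHom.comp ψ) :=
  ⟨(MulAut.conj g).surjective.comp h.surj, fun x => by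
    rw [← h.ker]; exact (MulAut.conj g).map_eq_one_iff⟩

/-- The extraspecial group of order `2 ^ 21` with centre `ψ zE`. -/
def QX (ψ : CE →* X) : Subgroup X := (QK.subgroupOf CE).map ψ

/-- The extraspecial group with centre `ψ oE`. -/
noncomputable def RX (ψ : CE →* X) : Subgroup X := (QX ψ).map (MulAut.conj (ψ tauE)).toMonoidHom

theorem mem_QX {ψ : CE →* X} {g : X} : g ∈ QX ψ ↔ ∃ q : CE, (q : K) ∈ QK ∧ ψ q = g := Iff.rfl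

end Model

end Cfsg.Agent.E6R
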