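import Mathlib
import Cfsg.Agent.Gr6B.CB
import Cfsg.Agent.Gr6.RigD

/-!
The invariant quadratic form on the section `⟨v1, v2⟩^⊥ / ⟨v1, v2⟩` of the Leech lattice modulo two is unique.
-/

set_option autoImplicit false

namespace Cfsg.Agent.E6R

open Subgroup Cfsg.Agent.Spor Cfsg.Agent.Spor.Leech Cfsg.Agent.Gr Cfsg.Agent.Gr.TriV Cfsg.Agent.Gr6B
open Cfsg.Agent.Spor.MT hiding cls

/-- Classes orthogonal to those of `v1` and `v2`. -/
def PP2 (c : LL) : Prop := pol c (cls v1) = 0 ∧ pol c (cls v2) = 0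

theorem PP2.add {c d : LL} (a : PP2 c) (b : PP2 d) : PP2 (c + d) :=
  ⟨by rw [pol_add_left, a.1, b.1, add_zero], by rw [pol_add_left, a.2, b.2, add_zero]⟩

theorem PP2.csm {c : LL} (a : PP2 c) {g : Co0} (hg : g ∈ UU) : PP2 (csm g c) :=
  ⟨(pol_fix hg.1 c).trans a.1, by rw [← a.2, ← pol_csm g c, csm_cls, show g • v2 = v2 from hg.2]⟩

theorem pp2_zero : PP2 0 := ⟨pol_zero_left _, pol_zero_left _⟩

theorem pp2_v1 : PP2 (cls v1) := ⟨pol_self _, (pol_comm _ _).trans p21⟩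

theorem pp2_v2 : PP2 (cls v2) := ⟨p21, pol_self _⟩

theorem pp2_of_inR {c : LL} (h : InR c) : PP2 c := ⟨h.pol pp2_v1.1 pp2_v1.2, h.pol pp2_v2.1 pp2_v2.2⟩

theorem pp2_om : PP2 (cls (e8 none)) := ⟨pol_cls_iff.2 (by rw [ip_v1]; simp [e8_apply]),
  pol_cls_iff.2 (by rw [ip_v2]; simp [e8_apply])⟩

theorem not_inR_e8 : ¬ InR (cls (e8 none)) := fun h => by
  obtain ⟨g, hg, o⟩ := exists_odd
  rw [h.csm hg, pol_self] at o
  exact zero_ne_one o

theorem v1_ne_v2 : cls v1 ≠ cls v2 := cls_ne_of_ip nm_v1 nm_v2 (by rw [ip_v1_v2]; norm_num)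

/-- An additive function on `PP2` is a polar form. -/
theorem exists_pol2 {f : LL → ZMod 2} (fa : ∀ c d, PP2 c → PP2 d → f (c + d) = f c + f d) :
    ∃ w, ∀ d, PP2 d → f d = pol w d := by
  obtain ⟨o1, a1, b1⟩ := ActH.exists_pol_sep (cls_ne_zero nm_v1) v1_ne_v2 1
  obtain ⟨o2, a2, b2⟩ := ActH.exists_pol_sep (cls_ne_zero nm_v2) v1_ne_v2.symm 1
  have pr : ∀ d, PP2 (d + (pol d (cls v1) • o1 + pol d (cls v2) • o2)) := fun d => by
    rcases zmod2_cases (pol d (cls v1)) with e | e <;> rcases zmod2_cases (pol d (cls v2)) with e' | e' <;>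
      simp [PP2, e, e', pol_add_left, a1, a2, b1, b2] <;> decide
  obtain ⟨w, hw⟩ := ActH.exists_pol (f := fun d => f (d + (pol d (cls v1) • o1 + pol d (cls v2) • o2))) fun a b => by
    rw [← fa _ _ (pr a) (pr b), pol_add_left, pol_add_left, add_smul, add_smul]
    congr 1
    abel
  exact ⟨w, fun d hd => by rw [← hw, hd.1, hd.2, zero_smul, zero_smul, add_zero, add_zero]⟩

theorem inR_of_pol {w : LL} {g : Co0} (hg : g ∈ UU) (h : ∀ d, PP2 d → pol w (csm g⁻¹ d) = pol w d) :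
    InR (csm g w + w) := mem_span_of_pol fun x h1 h2 => by
  have e := h x ⟨h1, h2⟩
  rw [← pol_csm g, ActH.csm_csm_inv] at e
  rw [pol_add_right, pol_comm x, pol_comm x, e, CharTwo.add_self_eq_zero]

theorem form_eq2 {f : LL → ZMod 2} {β : LL → LL → ZMod 2}
    (fa : ∀ c d, PP2 c → PP2 d → f (c + d) = f c + f d + β c d)
    (ba : ∀ c d e, PP2 c → PP2 d → PP2 e → β c (d + e) = β c d + β c e)
    (b1 : ∀ c d, InR c → PP2 d → β c d = 0)
    (fi : ∀ g ∈ UU, ∀ c, PP2 c → f (csm g c) = f c)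
    (nd : ∃ d, PP2 d ∧ β (cls (e8 none)) d ≠ 0) (f1 : ∀ c, InR c → f c = qL c) {c : LL} (hc : PP2 c) :
    f c = qL c := by
  have sy : ∀ c d, PP2 c → PP2 d → β c d = β d c := fun c d a b => by
    have := fa c d a b
    rwa [add_comm c, fa d c b a, add_comm (f d), add_right_inj, eq_comm] at this
  have bi : ∀ g ∈ UU, ∀ c d, PP2 c → PP2 d → β (csm g c) (csm g d) = β c d := fun g hg c d a b => by
    have := fa _ _ (a.csm hg) (b.csm hg)
    rwa [← csm_add, fi g hg _ (a.add b), fi g hg _ a, fi g hg _ b, fa c d a b, add_right_inj, eq_comm] at this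
  obtain ⟨w, hw⟩ := exists_pol2 (f := β (cls (e8 none))) fun c d a b => ba _ c d pp2_om a b
  obtain ⟨w, rfl⟩ := cls_surjective w
  have b2 : ∀ d, PP2 d → β (cls (e8 none)) d = pol (cls (e8 none)) d := by
    obtain ⟨d0, n1, n2⟩ := nd
    have := (fix_three (w := w) fun c hc a => inR_of_pol (sign_mem hc a) fun d hd => by
      have g := inv_mem (sign_mem hc a)
      have e : csm (sign c hc) (cls (e8 none)) = cls (e8 none) := by rw [csm_cls, sign_e8, if_neg a.1]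
      rw [← hw _ (hd.csm g), ← hw d hd, ← bi _ (sign_mem hc a) _ _ pp2_om (hd.csm g), e,
        ActH.csm_csm_inv]).resolve_left fun e => n2 (by rw [hw d0 n1, e.pol n1.1 n1.2])
    intro d hd
    have e := this.pol hd.1 hd.2
    rw [pol_add_left] at e
    rw [hw d hd, z2_eq_of_add e]
  let A : AddSubgroup LL :=
    { carrier := {c | PP2 c ∧ ∀ d, PP2 d → β c d = pol c d}
      zero_mem' := ⟨pp2_zero, fun d hd => by rw [b1 _ _ (Or.inl rfl) hd, pol_zero_left]⟩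
      add_mem' := fun {a b} ha hb => ⟨ha.1.add hb.1, fun d hd => by
        rw [sy _ _ (ha.1.add hb.1) hd, ba _ _ _ hd ha.1 hb.1, sy _ _ hd ha.1, sy _ _ hd hb.1, ha.2 d hd, hb.2 d hd,
          pol_add_left]⟩
      neg_mem' := fun {a} ha => by rwa [ll_neg] }
  have AR : ∀ {c}, InR c → c ∈ A := fun h => ⟨pp2_of_inR h, fun d hd => by rw [b1 _ _ h hd, h.pol hd.1 hd.2]⟩
  have A0 : ∀ {d}, PP2 d → d ∈ A := fun hd => irr_UU A (fun g hg c hc => ⟨hc.1.csm hg, fun d hd => by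
      rw [← ActH.csm_csm_inv g d, bi g hg _ _ hc.1 (hd.csm (inv_mem hg)), pol_csm, hc.2 _ (hd.csm (inv_mem hg))]⟩)
    (AR (Or.inr (Or.inl rfl))) (AR (Or.inr (Or.inr (Or.inl rfl)))) (c := cls (e8 none)) ⟨pp2_om, b2⟩ pp2_om.1 pp2_om.2
    (fun e => not_inR_e8 (Or.inl e)) (fun e => not_inR_e8 (Or.inr (Or.inl e)))
    (fun e => not_inR_e8 (Or.inr (Or.inr (Or.inl e)))) (fun e => not_inR_e8 (Or.inr (Or.inr (Or.inr e)))) hd.1 hd.2
  obtain ⟨u, hu⟩ := exists_pol2 (f := fun c => f c + qL c) fun c d a b => by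
    rw [fa c d a b, qL_add, (A0 a).2 d b]
    generalize f c = x, f d = y, qL c = x', qL d = y', pol c d = t
    revert x y x' y' t; decide
  have hu' := inR_of_fix (w := u) fun g hg => inR_of_pol hg fun d hd => by
    rw [← hu _ (hd.csm (inv_mem hg)), ← hu d hd, fi _ (inv_mem hg) _ hd, qL_csm]
  exact z2_eq_of_add ((hu c hc).trans (hu'.pol hc.1 hc.2))

variable {C : Type*} [Group C]

/-- The relation `R` identifies `Q / ⟨z⟩` with `⟨v1, v2⟩^⊥ / ⟨v1, v2⟩` as a module. -/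
structure BR2 (Q : Subgroup C) (z : C) (π : C →* UU) (R : LL → C → Prop) : Prop extends Ext Q z π where
  mem : ∀ {c q}, R c q → q ∈ Q ∧ PP2 c
  mul : ∀ {c d q p}, R c q → R d p → R (c + d) (q * p)
  ex_c : ∀ q ∈ Q, ∃ c, R c q
  ex_q : ∀ c, PP2 c → ∃ q, R c q
  one : ∀ {c q}, R c q → (q = 1 ∨ q = z ↔ InR c)
  conj : ∀ {c q} (g : C), R c q → R (csm (π g) c) (g * q * g⁻¹)

namespace BR2

variable {Q : Subgroup C} {z : C} {π : C →* UU} {R : LL → C → Prop} (h : BR2 Q z π R)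
include h

theorem uniq {c : LL} {q p : C} (hq : R c q) (hp : R c p) : Eqv z q p := by
  have a := h.es.aes
  have e : Eqv z (q * p) 1 := by simpa [Eqv] using (h.one (h.mul hq hp)).2 (Or.inl (Gr.ll_add_self c))
  have := (e.mul_right p⁻¹).trans a.z_sq (by rw [one_mul]; exact a.eqv_inv (h.mem hp).1)
  rwa [mul_inv_cancel_right] at this

theorem sqf_eq {c : LL} {q : C} (hq : R c q) : sqf q = qL c := by
  have : ∀ c, ∃ q, (PP2 c → R c q) := fun c => by
    by_cases e : PP2 c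
    exacts [(h.ex_q c e).imp fun _ a _ => a, ⟨1, fun a => absurd a e⟩]
  choose r hr using this
  have a := h.es.aes
  have m : ∀ {c}, PP2 c → r c ∈ Q := fun e => (h.mem (hr _ e)).1
  have ad : ∀ {c d}, PP2 c → PP2 d → Eqv z (r (c + d)) (r c * r d) := fun x y =>
    h.uniq (hr _ (x.add y)) (h.mul (hr _ x) (hr _ y))
  have e1 : ∀ {c}, InR c → Eqv z (r c) 1 := fun e => by simpa [Eqv] using (h.one (hr _ (pp2_of_inR e))).2 e
  rw [sqf_eqv a (m (h.mem hq).2) (h.uniq hq (hr _ (h.mem hq).2))]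
  refine form_eq2 (f := fun c => sqf (r c)) (β := fun c d => bf (r c) (r d)) (fun c d x y => ?_)
    (fun c d e x y w => ?_) (fun c d x y => ?_) (fun g hg c x => ?_) ?_ (fun c x => ?_) (h.mem hq).2
  · exact (sqf_eqv a (mul_mem (m x) (m y)) (ad x y)).trans (sqf_mul a (m x) (m y))
  · exact (a.bf_eqv_right (m x) (ad y w)).trans (a.bf_mul_right (m y) (m w) (m x))
  · exact (a.bf_eqv_left (m y) (e1 x)).trans (bf_eq_zero.2 (by simp))
  · obtain ⟨k, hk⟩ := h.surj ⟨g, hg⟩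
    have := h.conj k (hr c x)
    rw [hk] at this
    exact (sqf_eqv a (h.mem this).1 (h.uniq (hr _ (h.mem this).2) this)).trans (sqf_conj _ _)
  · have n : ¬ (r (cls (e8 none)) = 1 ∨ r (cls (e8 none)) = z) := fun e => not_inR_e8 ((h.one (hr _ pp2_om)).1 e)
    obtain ⟨p, hp, np⟩ := h.es.exists_not_comm (m pp2_om) (fun e => n (Or.inl e)) fun e => n (Or.inr e)
    obtain ⟨d, hd⟩ := h.ex_c p hp
    refine ⟨d, (h.mem hd).2, ?_⟩
    change bf _ _ ≠ 0
    rw [a.bf_eqv_right (m pp2_om) (h.uniq (hr _ (h.mem hd).2) hd)]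
    exact fun e => np (bf_eq_zero.1 e)
  · refine ((sqf_eqv a (one_mem _) (e1 x)).trans (sqf_eq_zero.2 (mul_one _))).trans ?_
    rcases x with rfl | rfl | rfl | rfl
    · simp [qL]
    · rw [qL_of_mem (cls_mem_ShS nm_v1)]
    · rw [qL_of_mem (cls_mem_ShS nm_v2)]
    · rw [← cls_sub, qL_of_mem (cls_mem_ShS nm_v3)]

end BR2

open Cfsg.Agent.Spor.LF Cfsg.Agent.Gr6.Rig in
/-- The module `Q / ⟨z⟩` of an extension. -/
theorem exists_module {S : Type*} [Group S] {Q : Subgroup C} {z : C} {π : C →* S} (h : Ext Q z π) :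
    ∃ _ : DistribMulAction S (QV Q), (∀ a b : Q, qc a = qc b ↔ Eqv z (a : C) b) ∧
      ∀ (c : C) (q : Q) (hq : c * q * c⁻¹ ∈ Q), π c • qc q = qc ⟨c * q * c⁻¹, hq⟩ := by
  have e : π.ker = Q := Subgroup.ext h.ker
  subst e
  refine ⟨DistribMulAction.compHom _ (QuotientGroup.quotientKerEquivOfSurjective π h.surj).symm.toMonoidHom,
    fun a b => ?_, fun c q hq => ?_⟩
  · rw [eq_comm, qc_eq_iff h.es.isExtraspecial, QuotientGroup.eq, h.es.mem_center_iff', coe_mul, coe_inv,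
      inv_mul_eq_iff_eq_mul, inv_mul_eq_iff_eq_mul, mul_one, ← h.cen]
    rfl
  · change (QuotientGroup.quotientKerEquivOfSurjective π h.surj).symm (π c) • qc q = _
    rw [show (QuotientGroup.quotientKerEquivOfSurjective π h.surj).symm (π c) = QuotientGroup.mk' _ c from
      (MulEquiv.symm_apply_eq _).2 rfl]
    rfl

end Cfsg.Agent.E6R
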