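import Mathlib
import Cfsg.Agent.E6R.Defs
import Cfsg.Agent.S1577

/-! First facts about the model `CE / ⟨t0, s0⟩`. -/

set_option autoImplicit false

namespace Cfsg.Agent.E6R

open Subgroup Cfsg.Agent.Spor Cfsg.Agent.Spor.Leech Cfsg.Agent.Spor.LC Cfsg.Agent.Gr Cfsg.Agent.Gr.Rk Cfsg.Agent.Gr.TriV

theorem exists_desc {A B C : Type*} [Group A] [Group B] [Group C] (ρ : A →* B) (hs : Function.Surjective ρ)
    (f : A →* C) (hk : ρ.ker ≤ f.ker) : ∃ π : B →* C, ∀ a, π (ρ a) = f a :=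
  ⟨_, fun c => ρ.liftOfRightInverse_comp_apply _ (Function.rightInverse_surjInv hs) ⟨f, hk⟩ c⟩

theorem equiv_UU : Nonempty (UU ≃* PSU 6 Cl.GF4 2) := by
  obtain ⟨e⟩ := S1577.result v1 (-v2) nm_v1 ((nm_neg v2).trans nm_v2)
    (show ip v1 (-v2) = -16 by rw [ip_neg_right, ip_v1_v2]) Cl.GF4 Cl.card_GF4
  refine ⟨(MulEquiv.subgroupCongr ?_).trans e⟩
  ext g
  simp only [mem_St2, mem_inf, MulAction.mem_stabilizer_iff, smul_neg, neg_inj]

theorem simple_UU : IsSimpleGroup UU := by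
  obtain ⟨e⟩ := equiv_UU
  have : IsSimpleGroup (PSU 6 Cl.GF4 2) :=
    (Cl.uField_uConj (F := Cl.GF4) (q := 2) Cl.card_GF4).isSimpleGroup_PSU (by norm_num) (by norm_num)
  exact e.isSimpleGroup

theorem inR_add {a b : LL} (ha : InR a) (hb : InR b) : InR (a + b) := by
  have k : ∀ x y : LL, x + (x + y) = y := fun x y => by rw [← add_assoc, ll_add_self, zero_add]
  rcases ha with rfl | rfl | rfl | rfl <;> rcases hb with rfl | rfl | rfl | rfl <;>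
    simp [InR, ll_add_self, k, add_comm, add_left_comm]

theorem exists_perp {c : LL} (n : ¬ InR c) :
    ∃ d, pol d (cls v1) = 0 ∧ pol d (cls v2) = 0 ∧ pol d c = 1 := by
  have hc : c ∉ Submodule.span (ZMod 2) {cls v1, cls v2} := fun h => by
    obtain ⟨a, b, rfl⟩ := Submodule.mem_span_pair.1 h
    rcases z2_cases a with rfl | rfl <;> rcases z2_cases b with rfl | rfl <;> simp [InR] at n
  obtain ⟨f, h1, h2⟩ := Submodule.exists_dual_map_eq_bot_of_notMem hc inferInstance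
  obtain ⟨d, hd⟩ := exists_pol f.toAddMonoidHom
  have k : ∀ x ∈ ({cls v1, cls v2} : Set LL), pol d x = 0 := fun x hx => (hd x).trans
    ((Submodule.mem_bot _).1 (h2 ▸ Submodule.mem_map_of_mem (Submodule.subset_span hx)))
  exact ⟨d, k _ (by simp), k _ (by simp), (hd c).trans ((z2_cases _).resolve_left h1)⟩

theorem eq_one_of_triv {k : UU}
    (h : ∀ d, pol d (cls v1) = 0 → pol d (cls v2) = 0 → InR (csm k d + d)) : k = 1 := by
  have p : ∀ (g : UU) {d : LL} {v : Λ}, (g : Co0) • v = v → pol d (cls v) = 0 → pol (csm g d) (cls v) = 0 :=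
    fun g d v e q => by rw [← e, ← csm_cls, pol_csm, q]
  let T : Subgroup UU :=
    { carrier := {g | ∀ d, pol d (cls v1) = 0 → pol d (cls v2) = 0 → InR (csm g d + d)}
      one_mem' := fun d _ _ => Or.inl (by rw [coe_one, csm_one, ll_add_self])
      mul_mem' := fun {a b} ha hb d d1 d2 => by
        have := inR_add (ha _ (p b b.2.1 d1) (p b b.2.2 d2)) (hb d d1 d2)
        rwa [add_assoc, ← add_assoc (csm b d), ll_add_self, zero_add, ← csm_mul] at this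
      inv_mem' := fun {a} ha d d1 d2 => by
        have := ha _ (p a⁻¹ a⁻¹.2.1 d1) (p a⁻¹ a⁻¹.2.2 d2)
        rwa [← csm_mul, ← coe_mul, mul_inv_cancel, coe_one, csm_one, add_comm] at this }
  have hT : T.Normal := ⟨fun a ha g d d1 d2 => by
    have k := ha _ (p g⁻¹ g⁻¹.2.1 d1) (p g⁻¹ g⁻¹.2.2 d2)
    have := k.csm g.2
    rw [csm_add, ← csm_mul, ← csm_mul, ← csm_mul, ← coe_mul, ← coe_mul, ← coe_mul, mul_inv_cancel, coe_one,
      csm_one] at this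
    exact this ▸ k⟩
  rcases simple_UU.eq_bot_or_eq_top_of_normal T hT with e | e
  · exact mem_bot.1 (e ▸ h)
  · obtain ⟨g, hg, o⟩ := exists_odd
    rw [cls_e8] at o
    have := ((e ▸ mem_top _ : (⟨g, hg⟩ : UU) ∈ T) _ (v12_p1 v12_om) (v12_p2 v12_om)).pol
      (v12_p1 v12_om) (v12_p2 v12_om)
    rw [pol_add_left, pol_self, add_zero, pol_comm, o] at this
    exact absurd this one_ne_zero

theorem exists_lift {k : Co0} (hk : k ∈ UU) {c : LL} (n : ¬ InR c) (e f : ZMod 2) :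
    ∃ x : SS, (thU x : Co0) = k ∧ x.1 * tq e c * x.1⁻¹ = tq f (csm k c) := by
  obtain ⟨x, hx⟩ := thU_surjective ⟨k, hk⟩
  obtain ⟨g, hg⟩ := thU_spec x e c
  rw [hx] at hg
  by_cases o : g = f
  · exact ⟨x, by rw [hx], o ▸ hg⟩
  obtain ⟨d, d1, d2, d3⟩ := exists_perp (c := csm k c) fun a => n (by
    have := a.csm (inv_mem hk)
    rw [ActH.csm_inv_csm] at this
    exact this ▸ a)
  let q : SS := ⟨tq 0 d, tq_mem_SS.2 ⟨d1, d2⟩⟩
  refine ⟨q * x, by rw [map_mul, (thU_eq_one (x := q)).2 ⟨_, _, rfl⟩, one_mul, hx], ?_⟩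
  rw [coe_mul, ← conj_conj, hg, tq_conj, d3]
  rw [(by decide : ∀ g f : ZMod 2, ¬ g = f → g + 1 = f) g f o]

theorem v0_iff {a b : K} : (a = b ∨ a = t0 * b ∨ a = s0 * b ∨ a = t0 * s0 * b) ↔
    ∃ r, InR r ∧ a = tq 0 r * b := by
  have e : t0 * s0 = tq 0 (cls v1 + cls v2) := by rw [t0_mul_s0, ← cls_sub, cls_v3]
  rw [e, t0_v1, s0_v2]
  constructor
  · rintro (h | h | h | h)
    exacts [⟨0, .inl rfl, by rw [tq_zero, one_mul, h]⟩, ⟨_, .inr (.inl rfl), h⟩,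
      ⟨_, .inr (.inr (.inl rfl)), h⟩, ⟨_, .inr (.inr (.inr rfl)), h⟩]
  · rintro ⟨r, rfl | rfl | rfl | rfl, h⟩
    exacts [.inl (by rw [h, tq_zero, one_mul]), .inr (.inl h), .inr (.inr (.inl h)), .inr (.inr (.inr h))]

theorem inR_short {r : LL} (h : InR r) : r = 0 ∨ (r ∈ ShS ∧ r + (om, 0) ∈ ShS) := by
  have k : ∀ i j, i ≠ j → clB i j ∈ ShS ∧ clB i j + (om, 0) ∈ ShS := fun i j e =>
    ⟨clB_mem e, by rw [show clB i j + (om, 0) = clC i j by simp [clB, clC]]; exact clC_mem e⟩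
  rcases h with h | h | h | h
  · exact .inl h
  · exact .inr (by rw [h, v1, ← clB_eq_cls]; exact k _ _ (by decide))
  · exact .inr (by rw [h, v2, ← clB_eq_cls]; exact k _ _ (by decide))
  · exact .inr (by rw [h, ← cls_sub, cls_v3]; exact k _ _ (by decide))

theorem om_not_mem : ((om, 0) : LL) ∉ ShS := by
  rw [← cls_e8 none]
  exact cls_not_mem_ShS (nm_e8 _).le (by rw [nm_e8]; norm_num)

theorem not_inR_om : ¬ InR (om, 0) := fun h => by
  rcases inR_short h with e | e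
  exacts [om_ne_zero (congrArg Prod.fst e), om_not_mem e.1]

theorem inR_v12 {r : LL} (h : InR r) : V12 r := by
  have a : V12 (cls v1) := (v12_v44 _ _ _ _).1
  have b : V12 (cls v2) := (v12_v44 _ _ _ _).1
  rcases h with rfl | rfl | rfl | rfl
  exacts [⟨.inl rfl, by simp⟩, a, b, a.add b]

theorem tq_mem_RR {e : ZMod 2} {c : LL} : tq e c ∈ Gr6B.IB.RR ↔ V12 c := by
  have hp := mdata.pair tau_zz_mem tau_zz_ne
  have fw : ∀ {e c}, tq e c ∈ Gr6B.IB.RR → V12 c := fun {e c} h => by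
    have k : ∀ {f d}, tq f d ∈ Gr6B.IB.RR → pol c d = 0 := fun {f d} hd =>
      tq_comm_iff.1 (hp.E_comm ⟨⟨_, _, rfl⟩, h⟩ ⟨⟨_, _, rfl⟩, hd⟩)
    refine ⟨by_contra fun n => ?_, by rw [← pol_om, pol_comm]; exact k Gr6B.IB.esRR.z_mem⟩
    obtain ⟨i, j, o⟩ := exists_wd_ne n
    have hij : i ≠ j := by rintro rfl; rw [z2_add_self] at o; exact zero_ne_one o
    have := k (f := 0) (d := clB i j) ⟨_, ⟨_, _, rfl⟩, by
      change tau * _ * tau⁻¹ = _
      rw [mul_inv_eq_iff_eq_mul]; exact (fix_aq_iff (clB_mem hij)).1 (tau_aq_B0 hij)⟩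
    rw [pol_clB, o] at this
    exact one_ne_zero this
  refine ⟨fw, fun h => ?_⟩
  have k := CL.es2.card_mul_card_centralizer (A := QK ⊓ Gr6B.IB.RR) inf_le_left ⟨CL.es2.z_mem, hp.z_mem⟩
  have k2 : Nat.card ↥(QK ⊓ Gr6B.IB.RR) = 2 ^ 13 := mdata.card_E hp
  rw [k2, card_QK] at k
  have le : QK ⊓ Gr6B.IB.RR ≤ QK ⊓ centralizer (QK ⊓ Gr6B.IB.RR : Subgroup K) := fun x hx =>
    ⟨hx.1, fun y hy => hp.E_comm hy hx⟩
  have := eq_of_le_of_card_ge le (by omega)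
  refine (this.ge ⟨⟨_, _, rfl⟩, ?_⟩).2
  rintro _ ⟨⟨f, d, rfl⟩, hy⟩
  exact tq_comm_iff.2 ((fw hy).pol h)

namespace Mo

variable {X : Type*} [Group X] {ψ : CE →* X} (h : Mo ψ)
include h

theorem finite : Finite X := Finite.of_surjective ψ h.surj

theorem eq_iff {a b : CE} :
    ψ a = ψ b ↔ (a : K) = b ∨ (a : K) = t0 * b ∨ (a : K) = s0 * b ∨ (a : K) = t0 * s0 * b := by
  rw [← mul_inv_eq_one, ← map_inv, ← map_mul, h.ker]
  simp only [mul_inv_eq_iff_eq_mul, one_mul, Subtype.ext_iff, coe_mul]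
  rfl

theorem eq_iff' {a b : CE} : ψ a = ψ b ↔ ∃ r, InR r ∧ (a : K) = tq 0 r * b := h.eq_iff.trans v0_iff

theorem lift {x : X} (hx : ψ zE * x = x * ψ zE) : ∃ c : SS, ψ ⟨c, SS_le_CE c.2⟩ = x := by
  obtain ⟨c, rfl⟩ := h.surj x
  obtain ⟨r, hr, e⟩ := (h.eq_iff' (a := c * zE * c⁻¹) (b := zE)).1 (by
    rw [map_mul, map_mul, map_inv, ← hx, mul_inv_cancel_right])
  change c * zz * (c : K)⁻¹ = tq 0 r * zz at e
  rcases inR_short hr with rfl | k
  · rw [tq_zero, one_mul, mul_inv_eq_iff_eq_mul] at e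
    exact ⟨⟨c, mem_SS.2 ⟨(GenH.mem_cent2.1 c.2).1, (GenH.mem_cent2.1 c.2).2, e⟩⟩, rfl⟩
  · have := conj_mem_DD (c : K)⁻¹ (tq_mem_DD_iff.2 k.1 : tq (0 + 1) r ∈ DD)
    rw [← tq_mul_zz, ← e, conj_conj, inv_mul_cancel, one_mul, inv_one, mul_one] at this
    exact (zz_not_mem_DD this).elim

omit h in
theorem comm_z' (c : SS) : ψ zE * ψ ⟨c, SS_le_CE c.2⟩ = ψ ⟨c, SS_le_CE c.2⟩ * ψ zE := by
  rw [← map_mul, ← map_mul]
  exact congrArg ψ (Subtype.ext (mem_SS.1 c.2).2.2.symm)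

theorem comm_z (c : SS) : ψ zE * ψ ⟨c, SS_le_CE c.2⟩ = ψ ⟨c, SS_le_CE c.2⟩ * ψ zE :=
  (fun _ => comm_z' c) h

theorem mem_QX_iff {c : CE} : ψ c ∈ QX ψ ↔ (c : K) ∈ QK := by
  refine ⟨fun ⟨q, hq, e⟩ => ?_, fun hc => ⟨c, hc, rfl⟩⟩
  obtain ⟨r, -, e⟩ := h.eq_iff'.1 e.symm
  exact e ▸ mul_mem ⟨_, _, rfl⟩ hq

theorem mem_RX_iff {c : CE} : ψ c ∈ RX ψ ↔ (c : K) ∈ Gr6B.IB.RR := by
  rw [RX, Gr6B.IB.RR, mem_map_conj_iff, mem_map_conj_iff, ← map_inv, ← map_mul, ← map_mul, h.mem_QX_iff]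
  rfl

omit h in
theorem exists_qE' {x : X} (hx : x ∈ QX ψ) : ∃ e c h1 h2, ψ (qE e c h1 h2) = x := by
  obtain ⟨⟨_, hq⟩, ⟨e, c, rfl⟩, rfl⟩ := hx
  obtain ⟨a, b⟩ := GenH.mem_cent2.1 hq
  rw [t0_v1, tq_comm_iff] at a
  rw [s0_v2, tq_comm_iff] at b
  exact ⟨e, c, a, b, rfl⟩

theorem exists_qE {x : X} (hx : x ∈ QX ψ) : ∃ e c h1 h2, ψ (qE e c h1 h2) = x := (fun _ => exists_qE' hx) h

omit h in
theorem z_mul {e : ZMod 2} {c : LL} {h1 h2} : ψ zE * ψ (qE e c h1 h2) = ψ (qE (e + 1) c h1 h2) := by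
  rw [← map_mul]; exact congrArg ψ (Subtype.ext (zz_mul_tq e c))

theorem inR_of_eq {e f : ZMod 2} {c d : LL} {h1 h2 k1 k2} (a : ψ (qE e c h1 h2) = ψ (qE f d k1 k2)) :
    InR (c + d) := by
  obtain ⟨r, hr, a⟩ := h.eq_iff'.1 a
  change tq e c = tq 0 r * tq f d at a
  rw [tq_mul, tq_inj] at a
  rwa [a.2, add_assoc, ll_add_self, add_zero]

theorem qE_inj {e f : ZMod 2} {c : LL} {h1 h2 k1 k2} (a : ψ (qE e c h1 h2) = ψ (qE f c k1 k2)) : e = f := by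
  obtain ⟨r, -, a⟩ := h.eq_iff'.1 a
  change tq e c = tq 0 r * tq f c at a
  have := a
  rw [tq_mul, tq_inj] at this
  rw [show r = 0 by simpa using this.2, tq_zero, one_mul, tq_inj] at a
  exact a.1

theorem qE_eqv {e f : ZMod 2} {c d : LL} {h1 h2 k1 k2} :
    Eqv (ψ zE) (ψ (qE e c h1 h2)) (ψ (qE f d k1 k2)) ↔ InR (c + d) := by
  refine ⟨fun a => a.elim h.inR_of_eq fun a => h.inR_of_eq (a.trans z_mul), fun a => ?_⟩
  have k : ∀ g, e = g + d.2 ⬝ᵥ (c + d).1 → ψ (qE e c h1 h2) = ψ (qE g d k1 k2) := fun g o =>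
    h.eq_iff'.2 ⟨_, a, by
      change tq e c = tq 0 (c + d) * tq g d
      rw [tq_mul, zero_add, ← o, add_assoc, ll_add_self, add_zero]⟩
  rcases (by decide : ∀ e f x : ZMod 2, e = f + x ∨ e = f + 1 + x) e f (d.2 ⬝ᵥ (c + d).1) with o | o
  exacts [.inl (k _ o), .inr ((k _ o).trans z_mul.symm)]

omit h in
theorem qE_mul {e f : ZMod 2} {c d : LL} {h1 h2 k1 k2} : ψ (qE e c h1 h2) * ψ (qE f d k1 k2) =
    ψ (qE (e + f + d.2 ⬝ᵥ c.1) (c + d) (by rw [pol_add_left, h1, k1, add_zero])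
      (by rw [pol_add_left, h2, k2, add_zero])) := by
  rw [← map_mul]; exact congrArg ψ (Subtype.ext (tq_mul e f c d))

theorem qE_comm {e f : ZMod 2} {c d : LL} {h1 h2 k1 k2} :
    ψ (qE e c h1 h2) * ψ (qE f d k1 k2) = ψ (qE f d k1 k2) * ψ (qE e c h1 h2) ↔ pol c d = 0 := by
  rw [← tq_comm_iff (e := e) (f := f), ← map_mul, ← map_mul]
  refine ⟨fun a => ?_, fun a => congrArg ψ (Subtype.ext a)⟩
  obtain ⟨r, -, a⟩ := h.eq_iff'.1 a
  change tq e c * tq f d = tq 0 r * (tq f d * tq e c) at a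
  have := a
  rw [tq_mul, tq_mul, tq_mul, tq_inj, add_comm d c] at this
  rwa [show r = 0 by simpa using this.2, tq_zero, one_mul] at a

omit h in
theorem qE_zero {h1 h2} : ψ (qE 0 0 h1 h2) = 1 := by
  rw [← map_one ψ]; exact congrArg ψ (Subtype.ext tq_zero)

theorem qE_sq {e : ZMod 2} {c : LL} {h1 h2} : ψ (qE e c h1 h2) * ψ (qE e c h1 h2) = 1 ↔ qL c = 0 := by
  have k : ψ (qE e c h1 h2) * ψ (qE e c h1 h2) = ψ (qE (qL c) 0 (pol_zero_left _) (pol_zero_left _)) := by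
    rw [← map_mul]; exact congrArg ψ (Subtype.ext (tq_mul_self e c))
  rw [k]
  exact ⟨fun a => h.qE_inj (a.trans (qE_zero (h1 := pol_zero_left _) (h2 := pol_zero_left _)).symm),
    fun a => by simp only [a]; exact qE_zero⟩

theorem z_ne : ψ zE ≠ 1 := fun a => by
  have := h.qE_inj (e := 0 + 1) (f := 0) (c := 0) (h1 := pol_zero_left _) (h2 := pol_zero_left _)
    (k1 := pol_zero_left _) (k2 := pol_zero_left _) (by rw [← z_mul, a, one_mul])
  exact absurd this (by decide)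

theorem es : ES2 (QX ψ) (ψ zE) where
  z_mem := ⟨zE, CL.es2.z_mem, rfl⟩
  z_ne := h.z_ne
  z_sq := by rw [← map_mul, h.ker]; exact .inl (Subtype.ext zz_mul_self)
  z_comm := by
    rintro _ ⟨q, hq, rfl⟩
    rw [← map_mul, ← map_mul]
    exact congrArg ψ (Subtype.ext (CL.es2.z_comm q hq))
  comm := by
    rintro _ ⟨x, hx, rfl⟩ _ ⟨y, hy, rfl⟩
    simp only [← map_mul]
    exact (CL.es2.comm x hx y hy).imp (fun e => congrArg ψ (Subtype.ext e))
      fun e => congrArg ψ (Subtype.ext e)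
  center := fun x hx hc => by
    obtain ⟨e, c, h1, h2, rfl⟩ := exists_qE' hx
    have k : InR c := by_contra fun n => by
      obtain ⟨d, d1, d2, d3⟩ := exists_perp n
      have := h.qE_comm.1 (hc _ ⟨qE 0 d d1 d2, ⟨_, _, rfl⟩, rfl⟩)
      rw [pol_comm, d3] at this
      exact one_ne_zero this
    have := (h.qE_eqv (e := e) (f := 0) (h1 := h1) (h2 := h2) (k1 := pol_zero_left _)
      (k2 := pol_zero_left _)).2 (by rwa [add_zero])
    rwa [qE_zero, Eqv, mul_one] at this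
  nonab := by
    obtain ⟨d, d1, d2, d3⟩ := exists_perp not_inR_om
    refine ⟨_, ⟨qE 0 d d1 d2, ⟨_, _, rfl⟩, rfl⟩, _, ⟨oE, ⟨_, _, rfl⟩, rfl⟩, fun e => ?_⟩
    rw [h.qE_comm.1 e] at d3
    exact zero_ne_one d3

omit h in
theorem conj_qE (x : SS) (e : ZMod 2) {c : LL} (h1 h2) : ∃ f k1 k2,
    ψ ⟨x, SS_le_CE x.2⟩ * ψ (qE e c h1 h2) * (ψ ⟨x, SS_le_CE x.2⟩)⁻¹ = ψ (qE f (csm (thU x) c) k1 k2) := by
  obtain ⟨f, a⟩ := thU_spec x e c
  obtain ⟨k1, k2⟩ := tq_mem_SS.1 (a ▸ mul_mem (mul_mem x.2 (tq_mem_SS.2 ⟨h1, h2⟩)) (inv_mem x.2))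
  exact ⟨f, k1, k2, by rw [← map_inv, ← map_mul, ← map_mul]; exact congrArg ψ (Subtype.ext a)⟩

theorem lg : Lg (QX ψ) (ψ zE) where
  aes := h.es.aes
  norm := fun c hc q hq => by
    obtain ⟨c, rfl⟩ := h.lift hc
    obtain ⟨e, d, h1, h2, rfl⟩ := exists_qE' hq
    obtain ⟨f, k1, k2, a⟩ := conj_qE (ψ := ψ) c e h1 h2
    exact a ▸ ⟨_, ⟨_, _, rfl⟩, rfl⟩
  triv := fun c hc H => by
    obtain ⟨c, rfl⟩ := h.lift hc
    refine h.mem_QX_iff.2 (thU_eq_one.1 (eq_one_of_triv fun d h1 h2 => ?_))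
    obtain ⟨f, k1, k2, a⟩ := conj_qE (ψ := ψ) c 0 h1 h2
    have := H _ ⟨qE 0 d h1 h2, ⟨_, _, rfl⟩, rfl⟩
    rwa [a, h.qE_eqv] at this

theorem exists_pi : ∃ π : centralizer ({ψ zE} : Set X) →* UU, Function.Surjective π ∧
    (∀ x, π x = 1 ↔ x.1 ∈ QX ψ) ∧ ∀ (c : SS) hc, π ⟨ψ ⟨c, SS_le_CE c.2⟩, hc⟩ = thU c := by
  let ρ : SS →* centralizer ({ψ zE} : Set X) := (ψ.comp (inclusion SS_le_CE)).codRestrict _ fun c =>
    mem_centralizer_singleton.2 (comm_z' c)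
  have hs : Function.Surjective ρ := fun x =>
    let ⟨c, e⟩ := h.lift (mem_centralizer_singleton.1 x.2); ⟨c, Subtype.ext e⟩
  have hk : ρ.ker ≤ thU.ker := fun c hc => thU_eq_one.2 ((h.mem_QX_iff (c := ⟨c, SS_le_CE c.2⟩)).1
    ((show ψ ⟨c, SS_le_CE c.2⟩ = 1 from congrArg Subtype.val hc) ▸ one_mem _))
  obtain ⟨π, k⟩ : ∃ π : centralizer ({ψ zE} : Set X) →* UU, ∀ c, π (ρ c) = thU c :=
    exists_desc ρ hs thU hk
  refine ⟨π, fun u => ?_, fun x => ?_, fun c _ => k c⟩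
  · obtain ⟨c, e⟩ := thU_surjective u
    exact ⟨ρ c, (k c).trans e⟩
  · obtain ⟨c, rfl⟩ := hs x
    exact ((congrArg (· = 1) (k c)).to_iff.trans thU_eq_one).trans (h.mem_QX_iff (c := ⟨c, SS_le_CE c.2⟩)).symm

theorem card_map {H : Subgroup CE} (hH : ψ.ker ≤ H) : Nat.card (H.map ψ) * 4 = Nat.card H := by
  classical
  have k : Nat.card ψ.ker = 4 := by
    rw [show 4 = ([1, tE, sE, tE * sE].toFinset : Set CE).ncard by
      rw [Set.ncard_coe_finset, List.toFinset_card_of_nodup four_nodup]; rfl]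
    exact congrArg Set.ncard (Set.ext fun x => (h.ker x).trans (by simp) : (ψ.ker : Set CE) = _)
  rw [← k, ← relIndex_ker, ← Nat.card_congr (subgroupOfEquivOfLe hH).toEquiv]
  exact index_mul_card _

theorem card_QX : Nat.card (QX ψ) = 2 ^ 21 := by
  let A := ((zpowers (ψ zE)).comap ψ).map CE.subtype
  have k0 := h.card_map (H := (zpowers (ψ zE)).comap ψ) (ker_le_comap _ _)
  rw [map_comap_eq_self_of_surjective h.surj, card_zpowers_of_sq h.z_ne h.es.z_sq,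
    ← card_map_of_injective CE.subtype_injective] at k0
  have hA : A ≤ QK := by
    rintro _ ⟨a, ha, rfl⟩
    exact h.mem_QX_iff.1 (zpowers_le_of_mem h.es.z_mem ha)
  have e : (QK.subgroupOf CE).map CE.subtype = QK ⊓ centralizer (A : Set K) := by
    rw [subgroupOf_map_subtype]
    refine le_antisymm ?_ ?_ <;> refine fun x hx => ⟨hx.1, ?_⟩
    · rintro _ ⟨a, ha, rfl⟩
      obtain ⟨t1, t2⟩ := GenH.mem_cent2.1 hx.2
      have t3 : Commute x zz := (CL.es2.z_comm x hx.1).symm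
      have t0' : Commute x t0 := t1
      have s0' : Commute x s0 := t2
      change (a : K) * x = x * a
      rcases (mem_zpowers_iff_of_sq h.es.z_sq).1 ha with o | o
      · rcases h.eq_iff.1 (o.trans (map_one ψ).symm) with o | o | o | o <;> rw [o, coe_one]
        exacts [by simp, (t0'.mul_right (.one_right x)).symm, (s0'.mul_right (.one_right x)).symm,
          ((t0'.mul_right s0').mul_right (.one_right x)).symm]
      · rcases h.eq_iff.1 o with o | o | o | o <;> rw [o]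
        exacts [t3.symm, (t0'.mul_right t3).symm, (s0'.mul_right t3).symm, ((t0'.mul_right s0').mul_right t3).symm]
    · exact GenH.mem_cent2.2
        ⟨(hx.2 _ ⟨tE, ker_le_comap ψ _ ((h.ker tE).2 (by simp)), rfl⟩).symm,
        (hx.2 _ ⟨sE, ker_le_comap ψ _ ((h.ker sE).2 (by simp)), rfl⟩).symm⟩
  have k1 := CL.es2.card_mul_card_centralizer hA ⟨zE, mem_zpowers _, rfl⟩
  rw [show Nat.card A = 8 from k0.symm, ← e, card_map_of_injective CE.subtype_injective, card_QK] at k1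
  have k2 := h.card_map (H := QK.subgroupOf CE) fun x hx =>
    h.mem_QX_iff.1 ((show ψ x = 1 from hx) ▸ one_mem _)
  change Nat.card (QX ψ) * _ = _ at k2
  omega

theorem tau_z : ψ tauE * ψ zE * (ψ tauE)⁻¹ = ψ oE := by rw [← map_inv, ← map_mul, ← map_mul, tauE_conj]

theorem pair : ESPair (QX ψ) (RX ψ) (ψ zE) (ψ oE) := by
  have := h.finite
  rw [← h.tau_z]
  refine ESPair.of_width h.es h.lg (by rw [h.card_QX]; norm_num) (by rw [h.tau_z]; exact ⟨oE, ⟨_, _, rfl⟩, rfl⟩) ?_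
  rw [h.tau_z]
  intro e
  have k : Eqv (ψ zE) (ψ oE) (ψ (qE 0 0 (pol_zero_left _) (pol_zero_left _))) := .inr (by rw [qE_zero, mul_one, e])
  exact not_inR_om (by simpa using h.qE_eqv.1 k)

theorem qE_mem_V {e : ZMod 2} {c : LL} {h1 h2} :
    ψ (qE e c h1 h2) ∈ V4 (ψ zE) (ψ oE) ↔ InR c ∨ InR (c + (om, 0)) := by
  rw [h.pair.mem_V, ← or_assoc, ← h.qE_eqv (e := e) (f := 1) (h1 := h1) (h2 := h2) (k1 := v12_p1 v12_om)
    (k2 := v12_p2 v12_om)]
  refine or_congr_left ?_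
  have := h.qE_eqv (e := e) (f := 0) (h1 := h1) (h2 := h2) (k1 := pol_zero_left _) (k2 := pol_zero_left _)
  rwa [add_zero, qE_zero, Eqv, mul_one] at this

theorem qE_mem_R {e : ZMod 2} {c : LL} {h1 h2} : ψ (qE e c h1 h2) ∈ RX ψ ↔ V12 c :=
  h.mem_RX_iff.trans tq_mem_RR

theorem thU_mem_Mon {c : SS} (hc : ψ oE * ψ ⟨c, SS_le_CE c.2⟩ = ψ ⟨c, SS_le_CE c.2⟩ * ψ oE) :
    (thU c : Co0) ∈ Mon := by
  obtain ⟨f, k1, k2, a⟩ := conj_qE (ψ := ψ) c 1 (v12_p1 v12_om) (v12_p2 v12_om)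
  have := h.inR_of_eq (a.symm.trans (mul_inv_eq_iff_eq_mul.2 hc.symm))
  refine mem_Mon_of_csm ?_
  rcases inR_short this with o | o
  · rw [← add_zero (csm _ _), ← ll_add_self (om, 0), ← add_assoc, o, zero_add]
  · rw [add_assoc, ll_add_self, add_zero, csm_mem] at o
    exact (om_not_mem o.2).elim

theorem exists_D {k : Co0} (hk : k ∈ UU) (hm : k ∈ Mon) :
    ∃ c : SS, (thU c : Co0) = k ∧ ψ oE * ψ ⟨c, SS_le_CE c.2⟩ = ψ ⟨c, SS_le_CE c.2⟩ * ψ oE := by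
  obtain ⟨c, a, b⟩ := exists_lift hk not_inR_om 1 1
  have := csm_om hm 1
  rw [one_smul] at this
  rw [this, mul_inv_eq_iff_eq_mul] at b
  refine ⟨c, a, (fun _ => ?_) h⟩
  rw [← map_mul, ← map_mul]
  exact congrArg ψ (Subtype.ext b.symm)

theorem equiv' {Y : Type*} [Group Y] {χ : CE →* Y} (k : Mo χ) : Nonempty (X ≃* Y) :=
  ⟨(QuotientGroup.quotientKerEquivOfSurjective ψ h.surj).symm.trans
    ((QuotientGroup.quotientMulEquivOfEq (by ext x; exact (h.ker x).trans (k.ker x).symm)).trans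
      (QuotientGroup.quotientKerEquivOfSurjective χ k.surj))⟩

theorem equiv : Nonempty (X ≃* Lie.twistedE6 Cl.GF4 2) :=
  let ⟨_, a, b⟩ := exists_twE6 Cl.card_GF4; h.equiv' ⟨a, b⟩

end Mo

end Cfsg.Agent.E6R
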