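import Mathlib
import Cfsg.Agent.Gr6.RigE

/-!
Weights of an elementary abelian `3`-group without an inverting letter, and the basis obtained from one weight vector.
-/

set_option autoImplicit false

namespace Cfsg.Agent.E6R

open Finset Matrix Cfsg.Agent.Spor Cfsg.Agent.Spor.MT Cfsg.Agent.Gr6.Rig

variable {Γ V : Type*} [Group Γ] [AddCommGroup V] [DistribMulAction Γ V] {r : ℕ}

/-- The letters `0, …, r - 1` generate the elementary abelian group. -/
structure A0 (L : ℕ → Γ) (α : E r → Γ) : Prop where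
  add : ∀ e f, α (e + f) = α e * α f
  gen : ∀ i, α (Pi.single i 1) = L i

theorem exists_a0 {L : ℕ → Γ} (h1 : ∀ i < r, ∀ k < r, L i * L k = L k * L i) (h2 : ∀ i < r, L i * (L i * L i) = 1) :
    ∃ α : E r → Γ, A0 L α := by
  obtain ⟨α, a, b⟩ := exists_alpha (fun i : Fin r => L i) (fun i k => h1 i i.2 k k.2)
    fun i => by rw [pow_three, h2 i i.2]
  exact ⟨α, a, b⟩

/-- The last weight of a walk written from the outside. -/
def hdW (n : ℕ) (u : List (ℕ × ℕ)) : ℕ := List.rec n (fun x _ _ => x.2) u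

/-- A walk written from the outside. -/
noncomputable def wkO (r μ : ℕ) (wds : ℕ → ℕ → List ℕ) (n : ℕ) (u : List (ℕ × ℕ)) : Bool :=
  List.rec true (fun x t ih => band ih (edge r μ wds (hdW n t) x.1 x.2)) u

theorem fr_pb {T : E r → V →+ V} (h : Tor T) {χ : ℕ → ℕ} {s : ℕ} {p q : ℕ → V}
    (hb : ∀ i < s, ∀ k < i, sepN r (χ i) (χ k) = true)
    (hp : ∀ i < s, p i ∈ W T (vc r (χ i)) ∧ q i ∈ W T (vc r (χ i)) ∧ p i ≠ 0 ∧ q i ≠ 0 ∧ p i + q i ≠ 0) :
    Fr (pb p q) (2 * s) := by
  refine ⟨h.two, fun m hm e => ?_⟩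
  simp only [sepN_iff] at hb
  have h1 : ∀ s, cmb (pb p q) (2 * s) m = ∑ i ∈ range s,
      ((if m.testBit (2 * i) then p i else 0) + if m.testBit (2 * i + 1) then q i else 0) := fun s => by
    induction s with
    | zero => rfl
    | succ s ih =>
      rw [sum_range_succ, ← ih, cmb, cmb, mul_add_one, sum_range_succ, sum_range_succ, pb_even, pb_odd, add_assoc]
  rw [h1, sum_range] at e
  have h2 := h.indep (χ := fun i : Fin s => vc r (χ i)) (fun i k a => by
    rcases lt_or_gt_of_ne a with b | b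
    · exact ⟨(hb k k.2 i b).1.symm, fun e => (hb k k.2 i b).2 (by rw [e, neg_neg])⟩
    · exact hb i i.2 k b) (fun i => add_mem (by split_ifs; exacts [(hp i i.2).1, zero_mem _])
      (by split_ifs; exacts [(hp i i.2).2.1, zero_mem _])) e
  refine Nat.eq_of_testBit_eq fun j => ?_
  rw [Nat.zero_testBit]
  by_cases a : j < 2 * s
  · have b := h2 ⟨j / 2, by omega⟩
    obtain ⟨-, -, c⟩ := hp (j / 2) (by omega)
    have d : m.testBit (2 * (j / 2)) = false ∧ m.testBit (2 * (j / 2) + 1) = false := by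
      revert b
      cases m.testBit (2 * (j / 2)) <;> cases m.testBit (2 * (j / 2) + 1) <;> simp [c.1, c.2.1, c.2.2]
    rcases Nat.mod_two_eq_zero_or_one j with f | f
    · rw [← d.1]; congr 1; omega
    · rw [← d.2]; congr 1; omega
  · exact Nat.testBit_lt_two_pow (hm.trans_le (Nat.pow_le_pow_right two_pos (not_lt.1 a)))

/-- A space of order four with a fixed-point-free element. -/
theorem mem_four [Finite V] (two : ∀ v : V, v + v = 0) {U : AddSubgroup V} (h4 : Nat.card U = 4) {x y : V} (hx : x ∈ U)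
    (hy : y ∈ U) (a : x ≠ 0) (b : y ≠ 0) (c : x + y ≠ 0) {v : V} (hv : v ∈ U) : v = 0 ∨ v = x ∨ v = y ∨ v = x + y := by
  classical
  obtain ⟨s, s1, s2, s3⟩ := Tor.four_le two hx hy a b c
  by_contra d
  have := Tor.card_le_of_mem (U := U) (s := insert v s) (by simpa [hv] using s2)
  rw [Finset.card_insert_of_notMem fun e => d (s3 v e)] at this
  omega

namespace A0

variable {L : ℕ → Γ} {α : E r → Γ} (h : A0 L α)
include h

theorem zero : α 0 = 1 := by simpa using h.add 0 0

theorem tor (two : ∀ v : V, v + v = 0) : Tor (TT V α) :=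
  ⟨two, fun v => by change α 0 • v = v; rw [h.zero, one_smul], fun e f v => by
    change α (e + f) • v = α e • α f • v; rw [h.add, mul_smul]⟩

theorem word {w : List ℕ} (hw : lettersLt r w = true) : α (cnt r w) = evalW L w := by
  rw [lettersLt_iff] at hw
  induction w with
  | nil => exact h.zero
  | cons l w ih => rw [cnt_cons (hw l (by simp)), h.add, h.gen, ih fun x hx => hw x (by simp [hx]), evalW_cons]

theorem conj {g : Γ} {S : Matrix (Fin r) (Fin r) (ZMod 3)}
    (hS : ∀ k, α (Pi.single k 1) * g = g * α (S *ᵥ Pi.single k 1)) (e : E r) (v : V) :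
    TT V α e (DistribSMul.toAddMonoidHom V g v) = DistribSMul.toAddMonoidHom V g (TT V α (S *ᵥ e) v) := by
  change α e • g • v = g • α (S *ᵥ e) • v
  rw [smul_smul, smul_smul, E_induction (p := fun e => α e * g = g * α (S *ᵥ e)) (by simp [h.zero]) hS
    (fun e f a b => by rw [mulVec_add, h.add, h.add, mul_assoc, b, ← mul_assoc, a, mul_assoc]) e]

variable {μ : ℕ} {wds : ℕ → ℕ → List ℕ}
  (hw : ∀ l < μ, ∀ k < r, lettersLt r (wds l k) = true ∧ L k * L l = L l * evalW L (wds l k))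
include hw

theorem mem_of_edge {n l m : ℕ} (e : edge r μ wds n l m = true) {v : V} (hv : v ∈ W (TT V α) (vc r n)) :
    L l • v ∈ W (TT V α) (vc r m) := by
  simp only [edge, band_iff, blt_iff, allLt_iff, ← cast_eq_iff] at e
  have := mem_W_vecMul (T := TT V α) (l := DistribSMul.toAddMonoidHom V (L l))
    (h.conj (S := Matrix.of fun i k => cnt r (wds l k) i) fun k => by
      rw [h.gen, (hw l e.1 k k.2).2, ← h.word (hw l e.1 k k.2).1, mulVec_single_one]; rfl) hv
  exact (congrArg (fun x => W (TT V α) x) (funext fun k =>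
    (dot_cnt n (hw l e.1 k k.2).1).trans (e.2 k k.2).symm)).le this

theorem mem_of_wkO {n : ℕ} {u : List (ℕ × ℕ)} (e : wkO r μ wds n u = true) {v : V} (hv : v ∈ W (TT V α) (vc r n)) :
    evalW L (u.map Prod.fst) • v ∈ W (TT V α) (vc r (hdW n u)) := by
  induction u with
  | nil => simpa [hdW] using hv
  | cons x u ih =>
    have a := (band_iff _ _).1 e
    rw [List.map_cons, evalW_cons, mul_smul]
    exact h.mem_of_edge hw a.2 (ih a.1)

variable [Finite V]

theorem le_of_edge {n l m : ℕ} (e : edge r μ wds n l m = true) :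
    Nat.card (W (TT V α) (vc r n)) ≤ Nat.card (W (TT V α) (vc r m)) :=
  Nat.card_le_card_of_injective (fun v : W (TT V α) (vc r n) => (⟨L l • v, h.mem_of_edge hw e v.2⟩ : W (TT V α) (vc r m)))
    fun _ _ a => Subtype.ext (MulAction.injective (L l) (congrArg Subtype.val a :))

theorem le_of_walk {w : List (ℕ × ℕ)} {n : ℕ} (e : walk r μ wds w n = true) :
    ∀ m ∈ w.map Prod.snd, Nat.card (W (TT V α) (vc r n)) ≤ Nat.card (W (TT V α) (vc r m)) := by
  induction w generalizing n with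
  | nil => simp
  | cons x w ih =>
    have a := (band_iff _ _).1 e
    rw [List.map_cons, List.forall_mem_cons]
    exact ⟨h.le_of_edge hw a.1, fun m hm => (h.le_of_edge hw a.1).trans (ih a.2 m hm)⟩

theorem orb (two : ∀ v : V, v + v = 0) {par lt : ℕ → ℕ} {d : ℕ} {χ : List ℕ} {gw : List (ℕ × ℕ)} {ρ : ℕ}
    {bad : List (ℕ × List (ℕ × ℕ))} {N : ℕ} (hN : Nat.card V = N) (e : Gr6.Rig.orbOK r μ wds par lt d N χ gw ρ bad = true)
    {ψ : E r} (h0 : ψ ≠ 0) (h4 : 4 ≤ Nat.card (W (TT V α) ψ)) :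
    ∀ m ∈ χ, Nat.card (W (TT V α) ψ) ≤ Nat.card (W (TT V α) (vc r m)) := by
  obtain ⟨n, hn, rfl⟩ := vc_surj ψ
  simp only [Gr6.Rig.orbOK, band_iff, bor_iff, allL_iff, allLt_iff, blt_iff, Nat.beq_eq, force_eq, LC.memL_iff, Nat.pow_eq,
    Bool.not_eq_true', ← Bool.not_eq_true, sepN_iff] at e
  have h1 : n ≠ 0 := fun a => h0 (by rw [a, vc_zero])
  have h2 : ∀ d, let x : ℕ := Nat.rec n (fun _ ih => par ih) d
      x < 3 ^ r ∧ x ≠ 0 ∧ Nat.card (W (TT V α) (vc r n)) ≤ Nat.card (W (TT V α) (vc r x)) := fun d => by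
    induction d with
    | zero => exact ⟨hn, h1, le_rfl⟩
    | succ d ih =>
      obtain ⟨a, b, c⟩ := ((e.2.2 _ ih.1).resolve_left ih.2.1).1
      exact ⟨a, b.ne', ih.2.2.trans (c.elim (fun c => (congrArg (fun x => Nat.card (W (TT V α) (vc r x))) c).ge)
        (h.le_of_edge hw))⟩
  rcases ((e.2.2 n hn).resolve_left h1).2 with a | ⟨a, -⟩
  · obtain ⟨b, c, a⟩ := List.mem_map.1 a
    have h3 := (h.tor two).pow_le_card (pwN_spec (e.2.1 b c).2.1) (c := 4) fun x hx => by
      obtain ⟨y, p, rfl⟩ := List.mem_map.1 hx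
      exact (h4.trans (h2 d).2.2).trans (a ▸ h.le_of_walk hw (e.2.1 b c).1 y p)
    have := (e.2.1 b c).2.2
    rw [List.length_map, List.length_map] at h3
    omega
  · exact fun m hm => (h2 d).2.2.trans (a ▸ h.le_of_walk hw e.1.1 m (e.1.2 m hm))

/-- An involution fixing the weight acts trivially on a weight space of order four. -/
theorem fix_of_edge (two : ∀ v : V, v + v = 0) {n l k : ℕ} (hk : k < r) (e : edge r μ wds n l n = true)
    (hl : L l * L l = 1) (ht : dg3 n k = 1) (h4 : Nat.card (W (TT V α) (vc r n)) = 4) {x : V}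
    (hx : x ∈ W (TT V α) (vc r n)) : L l • x = x := by
  by_cases h0 : x = 0
  · rw [h0, smul_zero]
  have t := h.tor two
  have a : vc r n ⬝ᵥ Pi.single ⟨k, hk⟩ 1 = 1 := by rw [dotProduct_single_one, vc, ht, Nat.cast_one]
  have e' := e
  simp only [edge, band_iff, blt_iff, allLt_iff, ← cast_eq_iff] at e'
  have b : ∀ y ∈ W (TT V α) (vc r n), TT V α (Pi.single ⟨k, hk⟩ 1) (L l • y) = L l • TT V α (Pi.single ⟨k, hk⟩ 1) y :=
    fun y hy => by
      rw [← ((t.act a hy (cnt r (wds l k))).2.1 (by rw [dot_cnt n (hw l e'.1 k hk).1, ← e'.2 k hk, ht, Nat.cast_one])).1]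
      change α _ • L l • y = L l • α _ • y
      rw [h.gen, h.word (hw l e'.1 k hk).1, smul_smul, smul_smul, (hw l e'.1 k hk).2]
  have c := t.ne_of_mem a hx h0
  have d := ((t.act a hx (Pi.single ⟨k, hk⟩ 1)).2.1 a).2
  have f : L l • L l • x = x := by rw [smul_smul, hl, one_smul]
  rcases mem_four two h4 hx (t.map_mem hx _) h0 c.1 c.2 (h.mem_of_edge hw e hx) with g | g | g | g
  · exact absurd ((smul_eq_zero_iff_eq _).1 g) h0
  · exact g
  · rw [g, ← b x hx, g, d] at f
    exact absurd (add_eq_left.1 f) c.1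
  · rw [g, smul_add, ← b x hx, g, map_add, d, ← add_assoc, add_assoc x, two, add_zero, ← add_assoc, two, zero_add] at f
    exact absurd (by rw [f, two]) c.2

end A0

theorem exists_fix [Finite V] (two : ∀ v : V, v + v = 0) {U : AddSubgroup V} (h4 : Nat.card U = 4) {j : Γ}
    (hj : j * j = 1) (hU : ∀ v ∈ U, j • v ∈ U) : ∃ x ∈ U, x ≠ 0 ∧ j • x = x := by
  have : Nontrivial U := Finite.one_lt_card_iff_nontrivial.1 (by omega)
  obtain ⟨⟨w, a⟩, b⟩ := exists_ne (0 : U)
  by_cases d : j • w = w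
  · exact ⟨w, a, fun e => b (Subtype.ext e), d⟩
  · exact ⟨w + j • w, add_mem a (hU w a), fun e => d (by rw [← add_right_inj w, e, two]),
      by rw [smul_add, smul_smul, hj, one_smul, add_comm]⟩

end Cfsg.Agent.E6R
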