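import Mathlib
import Cfsg.Agent.E6R.RigA
import Cfsg.Agent.Spor.MX.W62Gen

/-!
A non-trivial module of order `2 ^ 20` for `U₆(2)` is determined up to isomorphism: data and checks. The letters
`0, …, 3` generate a group `3⁴`, the letters `4, …, 9` normalise it, and the letters `10, 11` normalise a group `3^(1+4)`.
-/

set_option autoImplicit false
set_option maxRecDepth 100000
set_option exponentiation.threshold 100000

namespace Cfsg.Agent.E6R.U6

open Cfsg.Agent.Spor Cfsg.Agent.Spor.MX Cfsg.Agent.Spor.MT Cfsg.Agent.Gr6.Rig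

/-- The letters as words in strong generators. -/
noncomputable def ws : LT :=
  (.node (.node (.node (.node (.leaf [1]) (.leaf [6, 13, 17, 14, 16, 1, 14, 6, 2, 10])) (.node (.leaf [4, 1]) (.leaf
  [15]))) (.node (.node (.leaf [10, 6, 12, 4]) (.leaf [9, 16, 8, 16, 8, 17, 12, 16, 3, 16, 12])) (.node (.leaf [15, 6,
  13, 8, 8, 13, 5, 15]) (.leaf [17])))) (.node (.node (.node (.leaf [3, 0]) (.leaf [2, 14, 4, 14, 3])) (.node (.leaf
  [8, 3, 8]) (.leaf [16]))) (.node (.node (.leaf [11, 10, 6, 4]) (.leaf [6, 9, 17, 4, 16, 11, 13, 12, 8, 16, 11]))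
  (.leaf [17, 0, 16, 13, 11, 9, 8, 4, 0, 17, 9]))))

/-- The matrices modulo two. -/
def MtT : BT :=
  (.node (.node (.node (.node (.leaf
  0x40000c000020000100000c0000800003000020000040000c0000300002000008000040000300002000008000040000200001) (.leaf
  0x800004030000100000002000010030000100000c000040000008000048000040000080000400000200001000000300001)) (.leaf
  0x20000100200001000003000010000c00004000000200001080000400000008000040008000040000008000040000200001)) (.node (.node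
  (.leaf 0x40000c00002000010000040000c00003000020000080000400001000030000080000400002000010000040000c0000300002)
  (.leaf 0xadde47a77866af4997ace5f7cbe694aa95cdd6f8eeba8555545edbceb7d4f99b46f66c7dbdca75b89fb74f65ec0000200001))
  (.leaf 0x8000040000200001000000c000040000020000100c0000400000200001000000800004020000100000080000400000200001)))
  (.node (.node (.node (.leaf
  0xc00008000030000200000800004000010000300000800004000020000100000c00008000010000300000c000080000200001) (.leaf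
  0xc000040002000010000c0000400000020000100008000040002000010000008000040000200001000002000010000800004)) (.leaf
  0x3000010000c00004000008000040000008000040008000040000200001000200001000000080000400020000100000200001)) (.node
  (.node (.leaf
  0x800004000020000100000c00008000010000300000c0000800002000010000040000c000030000200000c000080000200001) (.leaf
  0xa5ef87e55c6abd89d5b4b67a85fafcaea64d57dce69bc59668ef5e8b9b7cfda9867774ab69cdef78fa6f46dfac0000200001)) (.leaf
  0x30000100000080000400020000100c000040000008000040008000040002000010000000200001000008000040000200001))))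

/-- The rows of the matrices modulo two. -/
noncomputable def Mt (l : ℕ) : ℕ → ℕ := row 20 (MtT.get l)

/-- The conjugates of the first letters. -/
noncomputable def wds (l k : ℕ) : List ℕ := LT.get
  (.node (.node (.node (.node (.node (.node (.leaf [0]) (.leaf [3])) (.leaf [0, 0])) (.node (.leaf [0]) (.leaf [0])))
  (.node (.node (.node (.leaf [0]) (.leaf [0])) (.leaf [0, 1])) (.node (.leaf [0]) (.leaf [0])))) (.node (.node (.node
  (.node (.leaf [2]) (.leaf [0, 2, 2, 3])) (.leaf [2])) (.node (.leaf [2]) (.leaf [2, 3]))) (.node (.node (.node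
  (.leaf [2]) (.leaf [2, 2])) (.leaf [1, 2])) (.node (.leaf [2]) (.leaf [2]))))) (.node (.node (.node (.node (.node
  (.leaf [1]) (.leaf [0, 1, 1, 3])) (.leaf [0, 1])) (.node (.leaf [1]) (.leaf [1]))) (.node (.node (.node (.leaf [1])
  (.leaf [1, 2])) (.leaf [1, 1])) (.node (.leaf [1]) (.leaf [1])))) (.node (.node (.node (.node (.leaf [3]) (.leaf
  [0])) (.leaf [3])) (.node (.leaf [3]) (.leaf [3, 3]))) (.node (.node (.node (.leaf [3]) (.leaf [2, 3])) (.leaf [3]))
  (.node (.leaf [3]) (.leaf [0, 1, 1, 3, 3])))))) (Nat.add (Nat.mul 4 l) k)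

/-- The weights. -/
def chi : ℕ → ℕ := getP 8 255 0x17032e461d1339223009

/-- Walks to the weights. -/
def wk (i : ℕ) : List (ℕ × ℕ) := List.getD
  [[], [(9, 48)], [(5, 34), (9, 48)], [(6, 57), (9, 48)], [(8, 19), (9, 48)], [(4, 29), (5, 34), (9, 48)], [(6, 70), (5,
  34), (9, 48)], [(8, 46), (5, 34), (9, 48)], [(7, 3), (6, 57), (9, 48)], [(8, 23), (6, 57), (9, 48)]] i []

/-- The words of the walks. -/
noncomputable def gw (i : ℕ) : List ℕ := (wk i).map Prod.fst

/-- Cosets. -/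
def ck : ℕ → ℕ := getP 4 15
  0x77889944556633220011338822665511997744006633449955778822110099885522774411663300889977335544661122004488667722993355110099887766554433221100998877665544332211009988776655443322110099887766554433221100

/-- Parts in the abelian group. -/
noncomputable def ca : ℕ → List ℕ := LT.get
  (.node (.node (.node (.node (.node (.node (.node (.node (.leaf [0]) (.leaf [])) (.node (.leaf [2, 3]) (.leaf [])))
  (.node (.node (.leaf [1, 1, 2, 2]) (.leaf [])) (.leaf []))) (.node (.node (.node (.leaf [0]) (.leaf [])) (.leaf []))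
  (.node (.node (.leaf [0, 2, 2, 3]) (.leaf [])) (.leaf [])))) (.node (.node (.node (.node (.leaf [2, 3]) (.leaf []))
  (.leaf [2, 2, 3, 3])) (.node (.node (.leaf [2]) (.leaf [])) (.leaf []))) (.node (.node (.node (.leaf [1, 1, 2, 2])
  (.leaf [])) (.leaf [])) (.node (.node (.leaf [3]) (.leaf [])) (.leaf []))))) (.node (.node (.node (.node (.node
  (.leaf [0, 1, 2]) (.leaf [])) (.node (.leaf [0]) (.leaf []))) (.node (.node (.leaf [1, 2]) (.leaf [])) (.leaf [])))
  (.node (.node (.node (.leaf [1]) (.leaf [])) (.leaf [])) (.node (.node (.leaf [1, 2, 3]) (.leaf [])) (.leaf []))))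
  (.node (.node (.node (.node (.leaf [0, 1, 2]) (.leaf [])) (.leaf [0, 1, 1, 3])) (.node (.node (.leaf [1]) (.leaf
  [])) (.leaf []))) (.node (.node (.node (.leaf [0, 1, 1, 3]) (.leaf [])) (.leaf [])) (.node (.node (.leaf [3]) (.leaf
  [])) (.leaf [])))))) (.node (.node (.node (.node (.node (.node (.leaf [0]) (.leaf [])) (.node (.leaf [2, 2, 3, 3])
  (.leaf []))) (.node (.node (.leaf [0, 1, 1, 3]) (.leaf [])) (.leaf []))) (.node (.node (.node (.leaf [2, 2, 3, 3])
  (.leaf [])) (.leaf [])) (.node (.node (.leaf [1]) (.leaf [])) (.leaf [])))) (.node (.node (.node (.node (.leaf [0,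
  0, 1, 1, 2, 2]) (.leaf [])) (.leaf [0, 1, 2])) (.node (.node (.leaf [2, 2]) (.leaf [])) (.leaf []))) (.node (.node
  (.node (.leaf [1, 2]) (.leaf [])) (.leaf [])) (.node (.node (.leaf [0, 2, 2, 3]) (.leaf [])) (.leaf []))))) (.node
  (.node (.node (.node (.node (.leaf [0]) (.leaf [])) (.node (.leaf [2, 3]) (.leaf []))) (.node (.node (.leaf [0, 1,
  1, 2, 3, 3]) (.leaf [])) (.leaf []))) (.node (.node (.node (.leaf [1, 2]) (.leaf [])) (.leaf [])) (.node (.node
  (.leaf [0, 2, 2, 3]) (.leaf [])) (.leaf [])))) (.node (.node (.node (.node (.leaf [2, 3]) (.leaf [])) (.leaf [0]))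
  (.node (.node (.leaf [3]) (.leaf [])) (.leaf []))) (.node (.node (.node (.leaf [0]) (.leaf [])) (.leaf [])) (.node
  (.node (.leaf [2, 3]) (.leaf [])) (.leaf []))))))) (.node (.node (.node (.node (.node (.node (.node (.leaf [0, 2])
  (.leaf [2])) (.node (.leaf [2, 2, 3]) (.leaf [1, 2, 3]))) (.node (.node (.leaf [1, 1]) (.leaf [0, 2, 2, 3])) (.leaf
  [2]))) (.node (.node (.node (.leaf [0, 2]) (.leaf [2])) (.leaf [2])) (.node (.node (.leaf [0, 3]) (.leaf [2, 2]))
  (.leaf [2])))) (.node (.node (.node (.node (.leaf [2, 2, 3]) (.leaf [2])) (.leaf [3, 3])) (.node (.node (.leaf [2,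
  2]) (.leaf [2])) (.leaf [2]))) (.node (.node (.node (.leaf [1, 1]) (.leaf [2, 2])) (.leaf [2])) (.node (.node (.leaf
  [2, 3]) (.leaf [1, 2])) (.leaf [2, 3]))))) (.node (.node (.node (.node (.node (.leaf [0, 1, 2, 2]) (.leaf [2]))
  (.node (.leaf [0, 2]) (.leaf [2, 3]))) (.node (.node (.leaf [1, 2, 2]) (.leaf [2])) (.leaf [1, 2]))) (.node (.node
  (.node (.leaf [1, 2]) (.leaf [2])) (.leaf [2])) (.node (.node (.leaf [1, 2, 2, 3]) (.leaf [2])) (.leaf [2, 2]))))
  (.node (.node (.node (.node (.leaf [0, 1, 2, 2]) (.leaf [2])) (.leaf [0, 1, 1, 2, 3])) (.node (.node (.leaf [1, 2])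
  (.leaf [2, 2])) (.leaf [2]))) (.node (.node (.node (.leaf [0, 1, 1, 2, 3]) (.leaf [2])) (.leaf [2, 2])) (.node
  (.node (.leaf [2, 3]) (.leaf [0, 0, 2, 3, 3])) (.leaf [2])))))) (.node (.node (.node (.node (.node (.node (.leaf [0,
  2]) (.leaf [2, 2])) (.node (.leaf [3, 3]) (.leaf [1, 1, 2, 2, 3, 3]))) (.node (.node (.leaf [0, 1, 1, 2, 3]) (.leaf
  [2])) (.leaf [2]))) (.node (.node (.node (.leaf [3, 3]) (.leaf [2])) (.leaf [2])) (.node (.node (.leaf [1, 2])
  (.leaf [2])) (.leaf [2])))) (.node (.node (.node (.node (.leaf [0, 0, 1, 1]) (.leaf [2])) (.leaf [0, 1, 2, 2]))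
  (.node (.node (.leaf []) (.leaf [2, 2])) (.leaf [2]))) (.node (.node (.node (.leaf [1, 2, 2]) (.leaf [2])) (.leaf
  [2])) (.node (.node (.leaf [0, 3]) (.leaf [2, 3])) (.leaf [2]))))) (.node (.node (.node (.node (.node (.leaf [0, 2])
  (.leaf [2, 2])) (.node (.leaf [2, 2, 3]) (.leaf [1, 1, 2, 2, 3, 3]))) (.node (.node (.leaf [0, 1, 1, 2, 2, 3, 3])
  (.leaf [2])) (.leaf [2]))) (.node (.node (.node (.leaf [1, 2, 2]) (.leaf [2])) (.leaf [2])) (.node (.node (.leaf [0,
  3]) (.leaf [2])) (.leaf [2, 2])))) (.node (.node (.node (.node (.leaf [2, 2, 3]) (.leaf [2])) (.leaf [0, 2])) (.node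
  (.node (.leaf [2, 3]) (.leaf [2])) (.leaf [2]))) (.node (.node (.node (.leaf [0, 2]) (.leaf [2, 2])) (.leaf [2, 2]))
  (.node (.node (.leaf [2, 2, 3]) (.leaf [1, 2])) (.leaf [2]))))))))

/-- Parts in the stabiliser. -/
noncomputable def cs : ℕ → List ℕ := LT.get
  (.node (.node (.node (.node (.node (.node (.node (.node (.leaf []) (.leaf [4])) (.node (.leaf []) (.leaf [5, 4, 6,
  7]))) (.node (.node (.leaf []) (.leaf [8])) (.leaf [4]))) (.node (.node (.node (.leaf []) (.leaf [7])) (.leaf [4]))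
  (.node (.node (.leaf []) (.leaf [5, 4, 6, 7, 8])) (.leaf [])))) (.node (.node (.node (.node (.leaf []) (.leaf [7]))
  (.leaf [])) (.node (.node (.leaf []) (.leaf [])) (.leaf []))) (.node (.node (.node (.leaf []) (.leaf [5, 4, 6, 7,
  8])) (.leaf [])) (.node (.node (.leaf []) (.leaf [5])) (.leaf [6]))))) (.node (.node (.node (.node (.node (.leaf [])
  (.leaf [])) (.node (.leaf []) (.leaf [6]))) (.node (.node (.leaf []) (.leaf [])) (.leaf [5]))) (.node (.node (.node
  (.leaf []) (.leaf [])) (.leaf [])) (.node (.node (.leaf []) (.leaf [])) (.leaf [5, 4, 6, 7, 8])))) (.node (.node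
  (.node (.node (.leaf []) (.leaf [7])) (.leaf [])) (.node (.node (.leaf []) (.leaf [5, 4, 6, 7, 8])) (.leaf [7])))
  (.node (.node (.node (.leaf []) (.leaf [])) (.leaf [5, 4, 6, 7, 8])) (.node (.node (.leaf []) (.leaf [4, 5, 7, 6]))
  (.leaf [])))))) (.node (.node (.node (.node (.node (.node (.leaf []) (.leaf [5, 4, 6, 7, 8])) (.node (.leaf [])
  (.leaf [4, 5, 7, 6, 8]))) (.node (.node (.leaf []) (.leaf [])) (.leaf []))) (.node (.node (.node (.leaf []) (.leaf
  [])) (.leaf [4])) (.node (.node (.leaf []) (.leaf [])) (.leaf [7])))) (.node (.node (.node (.node (.leaf []) (.leaf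
  [4])) (.leaf [])) (.node (.node (.leaf []) (.leaf [5, 4, 6, 7, 8])) (.leaf []))) (.node (.node (.node (.leaf [])
  (.leaf [])) (.leaf [])) (.node (.node (.leaf []) (.leaf [6])) (.leaf []))))) (.node (.node (.node (.node (.node
  (.leaf []) (.leaf [5, 4, 6, 7, 8])) (.node (.leaf []) (.leaf [4, 5, 7, 6, 8]))) (.node (.node (.leaf []) (.leaf []))
  (.leaf []))) (.node (.node (.node (.leaf []) (.leaf [7])) (.leaf [4])) (.node (.node (.leaf []) (.leaf [])) (.leaf
  [5, 4, 6, 7, 8])))) (.node (.node (.node (.node (.leaf []) (.leaf [7])) (.leaf [])) (.node (.node (.leaf []) (.leaf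
  [])) (.leaf [4]))) (.node (.node (.node (.leaf []) (.leaf [5, 4, 6, 7, 8])) (.leaf [5, 4, 6, 7, 8])) (.node (.node
  (.leaf []) (.leaf [5])) (.leaf []))))))) (.node (.node (.node (.node (.node (.node (.node (.leaf []) (.leaf [4]))
  (.node (.leaf []) (.leaf [5, 4, 6, 7]))) (.node (.node (.leaf []) (.leaf [8])) (.leaf [4]))) (.node (.node (.node
  (.leaf []) (.leaf [7])) (.leaf [4])) (.node (.node (.leaf []) (.leaf [5, 4, 6, 7, 8])) (.leaf [])))) (.node (.node
  (.node (.node (.leaf []) (.leaf [7])) (.leaf [])) (.node (.node (.leaf []) (.leaf [])) (.leaf []))) (.node (.node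
  (.node (.leaf []) (.leaf [5, 4, 6, 7, 8])) (.leaf [])) (.node (.node (.leaf []) (.leaf [5])) (.leaf [6]))))) (.node
  (.node (.node (.node (.node (.leaf []) (.leaf [])) (.node (.leaf []) (.leaf [6]))) (.node (.node (.leaf []) (.leaf
  [])) (.leaf [5]))) (.node (.node (.node (.leaf []) (.leaf [])) (.leaf [])) (.node (.node (.leaf []) (.leaf []))
  (.leaf [5, 4, 6, 7, 8])))) (.node (.node (.node (.node (.leaf []) (.leaf [7])) (.leaf [])) (.node (.node (.leaf [])
  (.leaf [5, 4, 6, 7, 8])) (.leaf [7]))) (.node (.node (.node (.leaf []) (.leaf [])) (.leaf [5, 4, 6, 7, 8])) (.node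
  (.node (.leaf []) (.leaf [4, 5, 7, 6])) (.leaf [])))))) (.node (.node (.node (.node (.node (.node (.leaf []) (.leaf
  [5, 4, 6, 7, 8])) (.node (.leaf []) (.leaf [4, 5, 7, 6, 8]))) (.node (.node (.leaf []) (.leaf [])) (.leaf [])))
  (.node (.node (.node (.leaf []) (.leaf [])) (.leaf [4])) (.node (.node (.leaf []) (.leaf [])) (.leaf [7])))) (.node
  (.node (.node (.node (.leaf []) (.leaf [4])) (.leaf [])) (.node (.node (.leaf []) (.leaf [5, 4, 6, 7, 8])) (.leaf
  []))) (.node (.node (.node (.leaf []) (.leaf [])) (.leaf [])) (.node (.node (.leaf []) (.leaf [6])) (.leaf [])))))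
  (.node (.node (.node (.node (.node (.leaf []) (.leaf [5, 4, 6, 7, 8])) (.node (.leaf []) (.leaf [4, 5, 7, 6, 8])))
  (.node (.node (.leaf []) (.leaf [])) (.leaf []))) (.node (.node (.node (.leaf []) (.leaf [7])) (.leaf [4])) (.node
  (.node (.leaf []) (.leaf [])) (.leaf [5, 4, 6, 7, 8])))) (.node (.node (.node (.node (.leaf []) (.leaf [7])) (.leaf
  [])) (.node (.node (.leaf []) (.leaf [])) (.leaf [4]))) (.node (.node (.node (.leaf []) (.leaf [5, 4, 6, 7, 8]))
  (.leaf [5, 4, 6, 7, 8])) (.node (.node (.leaf []) (.leaf [5])) (.leaf []))))))))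

/-- Words normalised by the letters `10, 11`. -/
noncomputable def gl : ℕ → List ℕ := LT.get (.node (.node (.node (.leaf [1]) (.leaf [8])) (.leaf [3])) (.node (.node (.leaf [4, 5]) (.leaf [0, 1, 1])) (.leaf [6,
  7])))

/-- Their conjugates. -/
noncomputable def gr (g k : ℕ) : List ℕ := LT.get
  (.node (.node (.node (.node (.leaf [4, 5]) (.leaf [0, 0, 1, 3, 6, 7])) (.leaf [8])) (.node (.node (.leaf [0, 0, 1, 6,
  7]) (.leaf [8])) (.leaf [0, 4, 5]))) (.node (.node (.node (.leaf [1, 1]) (.leaf [0, 0, 1, 3, 7, 6])) (.leaf [0, 1,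
  1])) (.node (.node (.leaf [0, 0, 1, 3, 3]) (.leaf [0, 1, 1])) (.leaf [0, 0, 1, 1, 5, 4])))) (Nat.add (Nat.mul 6 (Nat.sub g 10)) k)

/-- Words for the letters `12, 13, 14`. -/
noncomputable def wb : ℕ → List ℕ := LT.get
  (.node (.node (.leaf [11, 11, 11, 0, 9, 3, 3, 10, 10, 10, 5, 6, 9, 0, 6, 5, 10, 10, 10, 1, 1, 0, 0, 2, 2, 11, 1, 1])
  (.leaf [3, 3, 4, 10, 10, 10, 9, 11, 9, 11, 1, 11, 9, 10, 10, 10, 1, 1, 9, 11, 2, 2, 2, 2, 3, 0])) (.leaf [5, 3, 8,
  1, 1, 8, 2, 2, 3, 3, 11, 11, 11, 9, 11, 3, 8, 10, 9, 8, 10, 10, 10, 5, 2, 0]))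

/-- Two words agree on the base. -/
noncomputable def wq (v w : List ℕ) : Bool :=
  band (lettersLt 15 v) (band (lettersLt 15 w) (agreeL (tabW u6k_T ws) v w [0, 1, 2, 3, 12, 40, 13, 41]))

theorem orb : Gr6.Rig.orbOK 4 10 wds (getP 8 255
    0x2929272925054d252a23221220350e3b1c15352033453130443b2d0e1c183b0a0940220f4c250f0e3501490a4b31304505310a22010d44330e39400f4730092f21050a3418450a09162a210124394e0100)
    (getP 4 15 0x989698869669688869686566846987699889887758879556788478985898988985498800587487800) 4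
    (2 ^ 20) [9, 48, 34, 57, 19, 29, 70, 46, 3, 23]
    [(4, 9), (9, 48), (5, 34), (4, 29), (4, 34), (6, 70), (5, 57), (7, 3), (5, 16), (9, 46), (7, 19), (4, 23)] 9
    [(1, [(4, 5), (4, 1), (7, 28), (4, 32), (5, 42), (6, 78), (5, 68), (4, 64), (9, 22), (4, 26), (8, 54)]), (10, [(4,
    14), (4, 10), (7, 37), (6, 73), (4, 77), (5, 60), (6, 51), (5, 41), (9, 80), (4, 76), (5, 62)])] = true := by decide +kernel

theorem step10 : stepOK Mt 20 6 gl (gr 10) 10 2 1
    (List.getD [⟨[([[0], [4], [3]],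
    0x3000af90800000ba028fb0c800400ae9083947844788fbcc89f94051de015960169e06c988559e020000aa0280000300001)], 4,
    0x23550, 0x67404⟩] · ⟨[], 0, 0, 0⟩)
    (List.getD [[], [], [(0, [[0], [2], [0, 0], [3, 0], [4, 0], [0, 1], [1, 1], [2, 2], [4, 2], [1, 0, 0], [4, 3, 0]])], [(0, [[],
    [0], [1], [2], [3], [1, 0], [2, 0], [3, 0], [0, 1], [3, 2], [4, 2], [1, 0, 0]])], [(0, [[], [2], [0, 0], [1, 0],
    [2, 0], [1, 1], [2, 2], [3, 2], [4, 2], [1, 0, 0], [4, 3, 0]])], [(0, [[], [1], [2], [3], [2, 0], [3, 0], [4, 0],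
    [1, 1], [3, 2], [4, 2], [4, 3, 0]])], [(0, [[], [1], [3], [0, 0], [1, 0], [2, 0], [3, 0], [1, 1], [3, 2]])], [(0,
    [[], [2], [3], [0, 0], [2, 0], [4, 0], [2, 2], [3, 2], [4, 2], [1, 0, 0], [4, 3, 0]])], [(0, [[], [1], [2], [3],
    [1, 0], [2, 0], [3, 0], [2, 2], [3, 2], [4, 2], [1, 0, 0], [4, 3, 0]])], [(0, [[2], [3], [0, 0], [1, 0], [4, 0],
    [1, 1], [4, 2], [4, 3, 0]])], [(0, [[2], [3], [1, 0], [2, 0], [3, 0], [1, 1], [2, 2], [3, 2], [4, 2], [1, 0, 0],
    [4, 3, 0]])], [(0, [[], [0], [1], [2], [3], [0, 0], [1, 0], [2, 0], [4, 0], [2, 1], [1, 0, 0], [4, 3, 0]])], [(0,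
    [[], [0], [2], [1, 0], [2, 0], [3, 0], [4, 0], [1, 1], [2, 1], [2, 2], [4, 2], [4, 3, 0]])], [(0, [[], [1], [2],
    [3], [0, 0], [4, 0], [1, 1], [2, 2], [3, 2], [1, 0, 0], [4, 3, 0]])], [(0, [[], [0], [1], [2], [1, 0], [2, 0], [3,
    0], [4, 0], [1, 1], [2, 2], [3, 2], [4, 2], [1, 0, 0]])], [(0, [[], [2], [3], [0, 0], [1, 0], [2, 0], [3, 0], [0,
    1], [1, 1], [2, 2], [3, 2], [4, 2], [4, 3, 0]])], [(0, [[], [0], [2], [3], [3, 0], [4, 0], [2, 1], [3, 2], [4, 2],
    [1, 0, 0], [4, 3, 0]])], [(0, [[0], [1], [2], [0, 0], [1, 0], [2, 0], [1, 1], [2, 1], [2, 2], [3, 2], [4, 3,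
    0]])], [(0, [[], [0], [1], [0, 0], [1, 0], [2, 0], [0, 1], [1, 1], [2, 2], [3, 2], [1, 0, 0], [4, 3, 0]])], [(0,
    [[1], [2], [3], [3, 0], [4, 0], [0, 1], [1, 1], [2, 2], [4, 2]])]] · []) = true := by decide +kernel

theorem step11 : stepOK Mt 20 6 gl (gr 11) 11 2 1
    (List.getD [⟨[([[4], [2], [1]],
    0x7ed4cbdd4c3d2a07e2607dd0c02fec098806ee441d0a40d2a01000000fec03fec0080073ae00d0a06ec4c0000300001)], 16, 0x88000,
    80208⟩] · ⟨[], 0, 0, 0⟩)
    (List.getD [[], [], [(0, [[], [1, 0], [3, 1]])], [(0, [[], [1, 0], [2, 0], [0, 1]])], [(0, [[1], [0, 0], [3, 0], [3, 3]])], [(0,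
    [[0, 0], [3, 3], [1, 1, 0]])], [(0, [[2], [0, 0], [3, 3]])], [(0, [[1], [2], [0, 0], [3, 3], [1, 1, 0]])], [(0,
    [[2], [0, 0], [3, 3], [1, 1, 0]])], [(0, [[0, 0], [1, 1, 0]])], [(0, [[0], [3], [4, 0], [1, 1], [2, 1], [1, 0,
    0]])], [(0, [[0], [3], [1, 1]])], [(0, [[0], [4, 0], [1, 0, 0]])], [(0, [[4, 0], [1, 1], [1, 0, 0]])], [(0, [[],
    [1, 0]])], [(0, [[1, 0], [3, 1], [4, 1]])], [(0, [[0], [4, 0]])], [(0, [[0], [1, 0, 0]])], [(0, [[0, 1], [3, 1],
    [4, 1]])], [(0, [[], [1, 0], [3, 1], [4, 1]])]] · []) = true := by decide +kernel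

theorem ker : ∀ g < 12, 10 ≤ g → ∀ i < 2, kerOK Mt 20 6 gl (gr g) [([[], [5]],
    0xc00008000010000300000c0000800001000030000040000c00003000020000040000c00001000030000040000c0000000000)]
    (getP 2 3 9) (2 ^ i) = true := by decide +kernel

theorem rel : ∀ g < 12, 10 ≤ g → relOK wq 10 6 gl (gr g) g = true ∧ wq [g, g] [5, 7] = true ∧
    wq [g, 2, g, 2, g, 2] [0, 1, 1, 7] = true ∧ ∀ i < 2, Mt g i = 2 ^ i := by decide +kernel

/-- The word of a basis vector. -/
noncomputable def bw (i : ℕ) : List ℕ := appL (gw (Nat.div i 2)) (Bool.rec [] [2] (Nat.beq (Nat.mod i 2) 1))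

/-- The check of the action of the normaliser. -/
noncomputable def actOK (l i : ℕ) : Bool := force (Nat.add (Nat.mul 20 l) i) fun c =>
  band (band (blt (ck c) 10) (band (lettersLt 4 (ca c)) (allL (cs c) fun x => band (blt 3 x) (blt x 9))))
    (band (wq (l :: bw i) (appL (gw (ck c)) (appL (ca c) (cs c))))
      (Nat.beq (Mt l i) (rowA (Nat.mod (dS 9 (ca c)) 3) (Nat.mul 2 (ck c)))))

theorem act_ok : ∀ l < 10, ∀ i < 20, actOK l i = true := by decide +kernel

/-- The letters. -/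
noncomputable def LL : ℕ → PSU 6 Cl.GF4 2 := fun x => evalW u6k_k (ws.get x)

theorem hE (v w : List ℕ) (h : wq v w = true) : evalW LL v = evalW LL w :=
  letI := PM.psuAct (n := 6) (q := 2) (Cl.TF.card_eq (D := Cl.gf4)) (by norm_num)
  (tabs_tabW u6k_ktabs (ws := ws) (by decide +kernel) 15).eq_of_base
    (u6k_basek.mono (u6k_topk ▸ le_top)) (by decide +kernel) h

theorem LL_ne : LL 0 ≠ 1 := by
  let _ := PM.psuAct (n := 6) (q := 2) (Cl.TF.card_eq (D := Cl.gf4)) (by norm_num)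
  have a : ∃ i < 672, tabW u6k_T ws 0 i ≠ i := by decide +kernel
  obtain ⟨i, b, c⟩ := a
  have d := tabs_tabW u6k_ktabs (ws := ws) (by decide +kernel) 15 0 (by norm_num) i b
  intro e
  exact c (u6k_he d.1 b (d.2.symm.trans ((congrArg (· • u6k_e i) e).trans (one_smul _ _))))

theorem gen (K : Subgroup (PSU 6 Cl.GF4 2)) (h : ∀ l < 12, LL l ∈ K) : K = ⊤ := by
  have a : ∀ l < 3, lettersLt 12 (wb l) = true ∧ wq [12 + l] (wb l) = true ∧ ws.get (12 + l) = [15 + l] ∧
    u6k_iota (15 + l) = l := by decide +kernel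
  refine top_le_iff.1 (u6k_topk ▸ (u6k_gen u6k_a).le.trans (genLt_le fun l hl => ?_))
  have c := hE _ _ (a l hl).2.1
  rw [evalW_cons, evalW_nil, mul_one, LL, (a l hl).2.2.1, evalW_cons, evalW_nil, mul_one, u6k_k, u6k_g,
    (a l hl).2.2.2, slp_lt _ _ hl] at c
  exact c ▸ evalW_mem fun x hx => h x ((lettersLt_iff _ _).1 (a l hl).1 x hx)

theorem conj : ∀ l < 10, ∀ k < 4, lettersLt 4 (wds l k) = true ∧ LL k * LL l = LL l * evalW LL (wds l k) :=
  fun l a k c => by
    have d : ∀ l < 10, ∀ k < 4, lettersLt 4 (wds l k) = true ∧ wq [k, l] (l :: wds l k) = true := by decide +kernel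
    exact ⟨(d l a k c).1, by simpa using hE _ _ (d l a k c).2⟩

/-- The matrices of two letters on a plane. -/
noncomputable def M2 (a b l i : ℕ) : ℕ := ifLt l 10 (Mt l i) (ifLt i 1 a b)

theorem enum : ∀ a < 4, ∀ b < 4, (∀ i < 2, actW (M2 a b) 2 [10, 10] (2 ^ i) = actW (M2 a b) 2 [5, 7] (2 ^ i) ∧
    actW (M2 a b) 2 [10, 2, 10, 2, 10, 2] (2 ^ i) = actW (M2 a b) 2 [0, 1, 1, 7] (2 ^ i)) → a = 1 ∧ b = 2 := by
  decide +kernel

variable {V : Type*} [AddCommGroup V] [DistribMulAction (PSU 6 Cl.GF4 2) V] [Finite V] (two : ∀ v : V, v + v = 0)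
  (hc : Nat.card V = 2 ^ 20)
include hc

theorem next {B : ℕ → V} (f : Fr B 20) (c1 : ∀ l < 10, Act LL Mt B 20 0 l) {g : ℕ} (h1 : g < 12) (h2 : 10 ≤ g)
    (hs : Act LL Mt B 20 2 g) : Act LL Mt B 20 0 g := by
  obtain ⟨r1, r2, r3, r4⟩ := rel g h1 h2
  choose! X hX using fun i (hi : i < 2) =>
    f.rows hc (rel_spec hE c1 r1) (k := 2) (by omega) (by omega) (by decide +kernel) (ker g h1 h2 i hi)
  let L' : ℕ → PSU 6 Cl.GF4 2 := fun l => if l < 10 then LL l else LL g
  have e2 : ∀ l ∈ [0, 1, 2, 5, 7, 10], Act L' (M2 (X 0) (X 1)) B 2 0 l := fun l hl => by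
    by_cases a : l < 10
    · have b : ∀ l ∈ [0, 1, 2, 5, 7, 10], l < 10 → ∀ i < 2, Mt l i < 2 ^ 2 := by decide +kernel
      have c := (c1 l a).restrict (k := 2) (by omega) (b l hl a)
      intro i hi hj
      simpa only [L', M2, ifLt_eq, if_pos a] using c i hi hj
    · intro i hi _
      simp only [L', M2, ifLt_eq, if_neg a]
      interval_cases i
      exacts [hX 0 hi, hX 1 hi]
  have e3 := enum _ (hX 0 (by omega)).1 _ (hX 1 (by omega)).1 fun i hi =>
    ⟨(f.mono (by omega)).actW_eq (fun l a => e2 l (by revert l; decide)) (fun l a => e2 l (by revert l; decide))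
      (by simpa [L'] using hE _ _ r2) (Nat.pow_lt_pow_right one_lt_two hi),
    (f.mono (by omega)).actW_eq (fun l a => e2 l (by revert l; decide)) (fun l a => e2 l (by revert l; decide))
      (by simpa [L'] using hE _ _ r3) (Nat.pow_lt_pow_right one_lt_two hi)⟩
  refine hs.of_lo fun i hi => ⟨row_lt _ _ _, ?_⟩
  rw [r4 i hi, cmb_two_pow B (by omega), (hX i hi).2]
  interval_cases i
  · rw [e3.1]; exact cmb_two_pow B (i := 0) (by omega)
  · rw [e3.2]; exact cmb_two_pow B (i := 1) (by omega)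

include two

theorem rigid (h0 : ∃ v : V, LL 0 • v ≠ v) : ∃ B : ℕ → V, Fr B 20 ∧ ∀ l < 12, Act LL Mt B 20 0 l := by
  have a1 : ∀ i < 4, ∀ k < 4, wq [i, k] [k, i] = true := by decide +kernel
  have a2 : ∀ i < 4, wq [i, i, i] [] = true := by decide +kernel
  have a3 : ∀ l < 9, 3 < l → wq [l, l] [] = true ∧ edge 4 10 wds 9 l (if l = 8 then 18 else 9) = true := by
    decide +kernel
  have a4 : ∀ i < 10, wkO 4 10 wds 9 (wk i) = true ∧ hdW 9 (wk i) = chi i ∧
    ∀ k < i, sepN 4 (chi i) (chi k) = true := by decide +kernel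
  obtain ⟨α, h⟩ := exists_a0 (L := LL) (r := 4) (fun i hi k hk => by simpa using hE _ _ (a1 i hi k hk))
    fun i hi => by simpa using hE _ _ (a2 i hi)
  obtain ⟨v, hv⟩ := h0
  have t := h.tor two
  obtain ⟨ψ, b1, w, b2, b3⟩ := t.exists_wt (U := ⊥) (t := Pi.single 0 1) (v := v) fun e =>
    hv (by rw [AddSubgroup.mem_bot, sub_eq_zero] at e; exact (congrArg (· • v) (h.gen 0)).symm.trans e)
  have o := fun ψ => h.orb conj two hc orb (ψ := ψ)
  have b4 := (t.four_le_card b1 b2 b3).trans (o ψ b1 (t.four_le_card b1 b2 b3) 9 (by decide))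
  have h4 : Nat.card (W (TT V α) (vc 4 9)) = 4 := by
    by_contra c
    have := t.pow_le_card (L := [9, 48, 34, 57, 19, 29, 70, 46, 3, 23].map (vc 4)) (pwN_spec (by decide +kernel))
      (c := 5) fun x hx => by
        obtain ⟨y, p, rfl⟩ := List.mem_map.1 hx
        have := o _ (by decide +kernel) b4 y p
        omega
    rw [hc] at this
    revert this; decide
  have s2 : ∀ l < 9, 3 < l → LL l * LL l = 1 := fun l a b => by simpa using hE _ _ (a3 l a b).1
  obtain ⟨x, x1, x2, x3⟩ := exists_fix two h4 (s2 8 (by omega) (by omega)) fun v hv => by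
    have := h.mem_of_edge conj (a3 8 (by omega) (by omega)).2 hv
    rwa [if_pos rfl, show vc 4 18 = -vc 4 9 by decide +kernel, W_neg] at this
  have x4 : ∀ l < 9, 3 < l → LL l • x = x := fun l a b => by
    by_cases c : l = 8
    · rwa [c]
    · exact h.fix_of_edge conj two (k := 2) (by omega) (by simpa only [if_neg c] using (a3 l a b).2) (s2 l a b) rfl h4 x1
  have x5 : ∀ u : List ℕ, (∀ l ∈ u, 3 < l ∧ l < 9) → evalW LL u • x = x := fun u hu => by
    induction u with
    | nil => exact one_smul _ _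
    | cons l u ih =>
      rw [evalW_cons, mul_smul, ih fun k hk => hu k (by simp [hk]), x4 l (hu l (by simp)).2 (hu l (by simp)).1]
  have ht : vc 4 9 ⬝ᵥ Pi.single 2 1 = 1 := by decide +kernel
  have y0 : TT V α (Pi.single 2 1) x = LL 2 • x := congrArg (· • x) (h.gen 2)
  have y1 := t.ne_of_mem ht x1 x2
  have y2 := t.map_mem x1 (Pi.single 2 1)
  rw [y0] at y1 y2
  let p : ℕ → V := fun i => evalW LL (gw i) • x
  let q : ℕ → V := fun i => evalW LL (gw i) • LL 2 • x
  have f : Fr (pb p q) 20 := fr_pb (s := 10) t (fun i hi => (a4 i hi).2.2) fun i hi =>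
    ⟨(a4 i hi).2.1 ▸ h.mem_of_wkO conj (a4 i hi).1 x1, (a4 i hi).2.1 ▸ h.mem_of_wkO conj (a4 i hi).1 y2,
      fun e => x2 ((smul_eq_zero_iff_eq _).1 e), fun e => y1.1 ((smul_eq_zero_iff_eq _).1 e),
      fun e => y1.2 ((smul_eq_zero_iff_eq _).1 ((smul_add _ _ _).trans e))⟩
  have c1 : ∀ l < 10, Act LL Mt (pb p q) 20 0 l := fun l hl i hi _ => ⟨row_lt _ _ _, by
    have a := act_ok l hl i hi
    simp only [actOK, force_eq, band_iff, blt_iff, allL_iff, Nat.beq_eq, Nat.mul_eq] at a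
    generalize Nat.add (20 * l) i = c at a
    have b : pb p q i = evalW LL (bw i) • x := by
      rw [bw, evalW_appL, mul_smul, pb]
      rcases Nat.mod_two_eq_zero_or_one i with d | d
      · rw [if_pos d, show Nat.mod i 2 = 0 from d]; exact congrArg _ (one_smul _ x).symm
      · rw [if_neg (by omega), show Nat.mod i 2 = 1 from d]
        exact congrArg _ (congrArg (· • x) (mul_one _).symm)
    have d := t.act ht x1 (cnt 4 (ca c))
    have e : TT V α (cnt 4 (ca c)) x = evalW LL (ca c) • x := congrArg (· • x) (h.word a.1.2.1)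
    have g := rowA_eq (ck c)
    have g1 : 2 * ck c < 20 := by omega
    have g2 : 2 * ck c + 1 < 20 := by omega
    rw [dot_cnt 9 a.1.2.1, ← ZMod.natCast_mod, y0, e] at d
    rw [b, ← mul_smul, ← evalW_cons, hE _ _ a.2.1, evalW_appL, evalW_appL, mul_smul, mul_smul, x5 _ a.1.2.2, a.2.2]
    have k : dS 9 (ca c) % 3 < 3 := Nat.mod_lt _ three_pos
    change _ = cmb _ _ (rowA (dS 9 (ca c) % 3) _)
    generalize dS 9 (ca c) % 3 = n at d k
    interval_cases n
    · rw [(d.1 rfl).1, g.1.1, cmb_two_pow _ g1, pb_even]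
    · rw [(d.2.1 rfl).1, g.1.2.1, cmb_two_pow _ g2, pb_odd]
    · rw [(d.2.2 rfl).1, g.1.2.2, cmb_xor two, cmb_two_pow _ g1, cmb_two_pow _ g2, pb_even, pb_odd, smul_add]⟩
  exact ⟨_, f, Nat.forall_lt_succ_right.2 ⟨Nat.forall_lt_succ_right.2 ⟨c1, next hc f c1 (by omega) (by omega)
    (f.step hc (rel_spec hE c1 (rel 10 (by omega) (by omega)).1) step10)⟩, next hc f c1 (by omega) (by omega)
    (f.step hc (rel_spec hE c1 (rel 11 (by omega) (by omega)).1) step11)⟩⟩

end Cfsg.Agent.E6R.U6
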