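import Mathlib
import Cfsg.Agent.Gr.Y0
import Cfsg.Agent.Gr.TriV
import Cfsg.Agent.Gr.Rk.V12
import Cfsg.Agent.Gr6.RigE
import Cfsg.Agent.E6R.RigB
import Cfsg.Agent.S1577

/-! Non-trivial modules of order `2 ^ 20` for `U₆(2)`. -/

set_option autoImplicit false

namespace Cfsg.Agent.E6R

open Subgroup Cfsg.Agent.Spor Cfsg.Agent.Spor.Leech Cfsg.Agent.Spor.LC Cfsg.Agent.Gr Cfsg.Agent.Gr.Rk Cfsg.Agent.Gr.TriV

theorem U6.moves {V : Type*} [AddCommGroup V] [DistribMulAction (PSU 6 Cl.GF4 2) V]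
    (h0 : ∃ (g : PSU 6 Cl.GF4 2) (v : V), g • v ≠ v) : ∃ v : V, U6.LL 0 • v ≠ v := by
  have : IsSimpleGroup (PSU 6 Cl.GF4 2) :=
    (Cl.uField_uConj (F := Cl.GF4) (q := 2) Cl.card_GF4).isSimpleGroup_PSU (by norm_num) (by norm_num)
  obtain ⟨g, v, h⟩ := h0
  by_contra! a
  rcases (MulAction.toPermHom (PSU 6 Cl.GF4 2) V).normal_ker.eq_bot_or_eq_top with b | b
  · exact U6.LL_ne (mem_bot.1 (b ▸ (Equiv.ext a : MulAction.toPermHom _ V (U6.LL 0) = 1) : _ ∈ (⊥ : Subgroup _)))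
  · exact h (Equiv.congr_fun (b.ge (mem_top g) : MulAction.toPermHom _ V g = 1) v)

theorem nonempty_UU_equiv : Nonempty (UU ≃* PSU 6 Cl.GF4 2) := by
  obtain ⟨e⟩ := S1577.result v1 (-v2) nm_v1 ((nm_neg v2).trans nm_v2)
    ((ip_neg_right v1 v2).trans (by rw [ip_v1_v2])) Cl.GF4 Cl.card_GF4
  exact ⟨(MulEquiv.subgroupCongr (Subgroup.ext fun g => by
    rw [mem_St2, mem_inf, MulAction.mem_stabilizer_iff, MulAction.mem_stabilizer_iff, smul_neg, neg_inj])).trans e⟩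

/-- Non-trivial `F₂`-modules of order `2 ^ 20` for `U₆(2)` are isomorphic. -/
theorem rigid {V V' : Type*} [AddCommGroup V] [AddCommGroup V'] [DistribMulAction UU V]
    [DistribMulAction UU V'] (two : ∀ v : V, v + v = 0) (two' : ∀ v : V', v + v = 0)
    (hc : Nat.card V = 2 ^ 20) (hc' : Nat.card V' = 2 ^ 20) (h0 : ∃ (g : UU) (v : V), g • v ≠ v)
    (h0' : ∃ (g : UU) (v : V'), g • v ≠ v) : ∃ φ : V ≃+ V', ∀ (g : UU) v, φ (g • v) = g • φ v := by
  obtain ⟨e⟩ := nonempty_UU_equiv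
  let _ := DistribMulAction.compHom V e.symm.toMonoidHom
  let _ := DistribMulAction.compHom V' e.symm.toMonoidHom
  have := Nat.finite_of_card_ne_zero (hc.trans_ne (by norm_num))
  have := Nat.finite_of_card_ne_zero (hc'.trans_ne (by norm_num))
  obtain ⟨B, b1, b2⟩ := U6.rigid two hc (U6.moves (by
    obtain ⟨g, v, h⟩ := h0
    exact ⟨e g, v, by change e.symm (e g) • v ≠ v; rwa [e.symm_apply_apply]⟩))
  obtain ⟨B', b3, b4⟩ := U6.rigid two' hc' (U6.moves (by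
    obtain ⟨g, v, h⟩ := h0'
    exact ⟨e g, v, by change e.symm (e g) • v ≠ v; rwa [e.symm_apply_apply]⟩))
  obtain ⟨φ, hφ⟩ := Gr6.Rig.exists_equiv b1 b3 hc hc' b2 b4 U6.gen
  refine ⟨φ, fun g v => ?_⟩
  have := hφ (e g) v
  change φ (e.symm (e g) • v) = e.symm (e g) • φ v at this
  rwa [e.symm_apply_apply] at this

end Cfsg.Agent.E6R
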