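import Mathlib
import Cfsg.Agent.E6R.M0
import Cfsg.Agent.E6R.Rig
import Cfsg.Agent.E6R.CA

/-!
Two groups of shape `2^(1+20).U₆(2)` agree modulo their centres, compatibly with an isomorphism of the extraspecial
groups.
-/

set_option autoImplicit false

namespace Cfsg.Agent.E6R

open Subgroup Cfsg.Agent.Spor Cfsg.Agent.Spor.Leech Cfsg.Agent.Spor.LC Cfsg.Agent.Gr Cfsg.Agent.Gr.Rk Cfsg.Agent.Gr.TriV
open Cfsg.Agent.Gr6B Cfsg.Agent.Spor.LF Cfsg.Agent.Gr6.Rig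

section

variable {C₁ C₂ : Type*} [Group C₁] [Group C₂] {Q₁ : Subgroup C₁} {Q₂ : Subgroup C₂} {z₁ : C₁} {z₂ : C₂}
  {π₁ : C₁ →* UU} {π₂ : C₂ →* UU}

theorem exists_module' (h : Ext Q₁ z₁ π₁) (t : ∀ c, (∀ q ∈ Q₁, Eqv z₁ (c * q * c⁻¹) q) → c ∈ Q₁) :
    ∃ _ : DistribMulAction UU (QV Q₁), (∀ a b : Q₁, qc a = qc b ↔ Eqv z₁ (a : C₁) b) ∧
      (∀ (c : C₁) (q : Q₁), ∃ hq : c * q * c⁻¹ ∈ Q₁, π₁ c • qc q = qc ⟨c * q * c⁻¹, hq⟩) ∧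
      ∃ (g : UU) (v : QV Q₁), g • v ≠ v := by
  obtain ⟨i, a, b⟩ := exists_module h
  have n : ∀ c, ∀ q ∈ Q₁, c * q * c⁻¹ ∈ Q₁ := fun c q hq => (h.ker _).1 (by simp [(h.ker q).2 hq])
  refine ⟨i, a, fun c q => ⟨n c q q.2, b c q _⟩, ?_⟩
  by_contra! k
  have := simple_UU
  obtain ⟨s, hs⟩ := exists_ne (1 : UU)
  obtain ⟨c, rfl⟩ := h.surj s
  exact hs ((h.ker c).2 (t c fun q hq => (a ⟨_, n c q hq⟩ ⟨q, hq⟩).1 ((b c ⟨q, hq⟩ _).symm.trans (k _ _))))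

theorem exists_match {R : LL → C₁ → Prop} (h : BR2 Q₁ z₁ π₁ R) (e2 : Ext Q₂ z₂ π₂)
    (t1 : ∀ c, (∀ q ∈ Q₁, Eqv z₁ (c * q * c⁻¹) q) → c ∈ Q₁) (t2 : ∀ c, (∀ q ∈ Q₂, Eqv z₂ (c * q * c⁻¹) q) → c ∈ Q₂)
    (c1 : Nat.card Q₁ = 2 ^ 21) (c2 : Nat.card Q₂ = 2 ^ 21) : ∃ F, Match Q₁ Q₂ z₁ z₂ π₁ π₂ F := by
  obtain ⟨i1, a1, b1, n1⟩ := exists_module' h.toExt t1
  obtain ⟨i2, a2, b2, n2⟩ := exists_module' e2 t2
  have x1 := h.es.isExtraspecial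
  have x2 := e2.es.isExtraspecial
  obtain ⟨φ, hφ⟩ := rigid (qv_two x1) (qv_two x2) (qv_card x1 c1) (qv_card x2 c2) n1 n2
  have o1 : qc (⟨1, one_mem _⟩ : Q₁) = 0 := rfl
  have o2 : qc (⟨1, one_mem _⟩ : Q₂) = 0 := rfl
  have k1 : ∀ p : Q₁, qc p = 0 ↔ (p : C₁) = 1 ∨ (p : C₁) = z₁ := fun p => by rw [← o1, a1]; simp [Eqv]
  have k2 : ∀ p : Q₂, qc p = 0 ↔ (p : C₂) = 1 ∨ (p : C₂) = z₂ := fun p => by rw [← o2, a2]; simp [Eqv]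
  let F : Subgroup (C₁ × C₂) :=
    { carrier := {f | ∃ (h1 : f.1 ∈ Q₁) (h2 : f.2 ∈ Q₂), φ (qc ⟨f.1, h1⟩) = qc ⟨f.2, h2⟩}
      one_mem' := ⟨one_mem _, one_mem _, map_zero φ⟩
      mul_mem' := fun {x y} ⟨a, b, e⟩ ⟨a', b', e'⟩ => ⟨mul_mem a a', mul_mem b b', by
        change φ (qc (⟨x.1, a⟩ * ⟨y.1, a'⟩)) = qc (⟨x.2, b⟩ * ⟨y.2, b'⟩)
        rw [qc_mul, qc_mul, map_add, e, e']⟩
      inv_mem' := fun {x} ⟨a, b, e⟩ => ⟨inv_mem a, inv_mem b, by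
        exact (congrArg φ ((a1 ⟨_, inv_mem a⟩ ⟨_, a⟩).2 (h.es.aes.eqv_inv a))).trans
          (e.trans ((a2 ⟨_, inv_mem b⟩ ⟨_, b⟩).2 (e2.es.aes.eqv_inv b)).symm)⟩ }
  have s1 : ∀ p ∈ Q₁, ∃ q, (p, q) ∈ F := fun p hp => by
    obtain ⟨q, e⟩ := qc_surj (φ (qc ⟨p, hp⟩))
    exact ⟨q, hp, q.2, e.symm⟩
  have s2 : ∀ q ∈ Q₂, ∃ p, (p, q) ∈ F := fun q hq => by
    obtain ⟨p, e⟩ := qc_surj (φ.symm (qc ⟨q, hq⟩))
    exact ⟨p, p.2, hq, by rw [← φ.apply_symm_apply (qc ⟨q, hq⟩), ← e]⟩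
  have on : ∀ f ∈ F, f.1 = 1 ∨ f.1 = z₁ ↔ f.2 = 1 ∨ f.2 = z₂ := fun f ⟨a, b, e⟩ => by
    rw [← k1 ⟨_, a⟩, ← k2 ⟨_, b⟩, ← e, map_eq_zero_iff φ φ.injective]
  have inv : ∀ m : C₁ × C₂, π₁ m.1 = π₂ m.2 → ∀ f ∈ F, m * f * m⁻¹ ∈ F := fun m hm f ⟨a, b, e⟩ => by
    obtain ⟨a', u⟩ := b1 m.1 ⟨_, a⟩
    obtain ⟨b', w⟩ := b2 m.2 ⟨_, b⟩
    exact ⟨a', b', (congrArg φ u.symm).trans (by rw [hφ, e, hm]; exact w)⟩
  have h' : BR2 Q₂ z₂ π₂ fun c q => ∃ p, R c p ∧ (p, q) ∈ F :=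
    { toExt := e2
      mem := fun ⟨p, a, b⟩ => ⟨b.2.1, (h.mem a).2⟩
      mul := fun ⟨p, a, b⟩ ⟨p', a', b'⟩ => ⟨p * p', h.mul a a', mul_mem b b'⟩
      ex_c := fun q hq => by
        obtain ⟨p, hp⟩ := s2 q hq
        exact (h.ex_c p hp.1).imp fun c a => ⟨p, a, hp⟩
      ex_q := fun c hc => by
        obtain ⟨p, hp⟩ := h.ex_q c hc
        exact (s1 p (h.mem hp).1).imp fun q a => ⟨p, hp, a⟩
      one := fun ⟨p, a, b⟩ => (on _ b).symm.trans (h.one a)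
      conj := fun g ⟨p, a, b⟩ => by
        obtain ⟨k, hk⟩ := h.surj (π₂ g)
        exact ⟨_, hk ▸ h.conj k a, inv (k, g) hk _ b⟩ }
  refine ⟨F, h.toExt, e2, fun f ⟨a, b, _⟩ => ⟨a, b⟩, ⟨h.es.z_mem, one_mem _, ?_⟩, ⟨one_mem _, e2.es.z_mem, ?_⟩, s1, s2,
    fun p a => (on _ a).2 (Or.inl rfl), fun q a => (on _ a).1 (Or.inl rfl), fun f hf => ?_, inv⟩
  · rw [(k1 _).2 (Or.inr rfl), map_zero, o2]
  · rw [(k2 _).2 (Or.inr rfl), o1, map_zero]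
  · obtain ⟨c, a⟩ := h.ex_c f.1 hf.1
    exact (h.sqf_eq a).trans (h'.sqf_eq ⟨_, a, hf⟩).symm

end

theorem mt_of_match {X G : Type*} [Group X] [Group G] [Finite X] [Finite G] {Q₁ : Subgroup X} {z₁ : X}
    (es1 : ES2 Q₁ z₁) (lg1 : Lg Q₁ z₁) (le1 : Q₁ ≤ centralizer {z₁}) {π₁ : centralizer ({z₁} : Set X) →* UU}
    {Q H : Subgroup G} {z : G} (es : ES2 Q z) (lg : Lg Q z) (hQ : Q ≤ H) (hf : Hf H z) {π : H →* UU}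
    {F : Subgroup (centralizer ({z₁} : Set X) × H)}
    (m : Match (Q₁.subgroupOf _) (Q.subgroupOf H) ⟨z₁, le1 es1.z_mem⟩ ⟨z, hQ es.z_mem⟩ π₁ π F) :
    ∃ N Δ, Mt Q₁ z₁ Q H z N Δ := by
  have s1 := m.e1.surj
  have k1 := m.e1.ker
  have hπ := m.e2.surj
  have ker := m.e2.ker
  obtain ⟨D, d⟩ := m.exists_half
  let N := (π₁.comp (MonoidHom.fst _ _)).eqLocus (π.comp (MonoidHom.snd _ _)) ⊓
    normalizer (D : Set (centralizer ({z₁} : Set X) × H))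
  have FN : F ≤ N := fun f hf => ⟨((k1 _).2 (m.le f hf).1).trans ((ker _).2 (m.le f hf).2).symm, m.le_norm d hf⟩
  have ad : ∀ x y, π₁ x = π y → ∃ q ∈ Q.subgroupOf H, (x, y * q) ∈ N := fun x y e => by
    obtain ⟨q, hq, hn⟩ := m.adjust d (m := (x, y)) e
    refine ⟨q, hq, ?_, by simpa using hn⟩
    change π₁ x = π (y * q)
    rw [map_mul, (ker q).2 hq, mul_one, e]
  let ι := (centralizer ({z₁} : Set X)).subtype.prodMap H.subtype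
  refine ⟨N.map ι, D.map ι, es1, lg1, es, lg, hf, map_mono (d.le.trans FN), ?_, fun x hx => ?_, fun y hy => ?_, ?_, ?_,
    ⟨_, FN m.hb, rfl⟩, ?_, fun p hp => ?_, fun q hq => ?_, ⟨_, d.hζ, rfl⟩, ?_, ?_⟩
  · rintro _ ⟨n, -, rfl⟩
    exact ⟨mem_centralizer_singleton.1 n.1.2, n.2.2⟩
  · obtain ⟨y, hy⟩ := hπ (π₁ ⟨x, mem_centralizer_singleton.2 hx⟩)
    obtain ⟨q, -, hn⟩ := ad _ _ hy.symm
    exact ⟨_, _, hn, rfl⟩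
  · obtain ⟨x, hx⟩ := s1 (π ⟨y, hy⟩)
    obtain ⟨q, hq, hn⟩ := ad _ _ hx
    obtain ⟨p, hp⟩ := m.s2 q hq
    exact ⟨_, _, mul_mem hn (inv_mem (FN hp)), Prod.ext rfl (by simp [ι])⟩
  · rintro x ⟨⟨a, b⟩, hn, e⟩
    obtain rfl : b = 1 := Subtype.ext (congrArg Prod.snd e)
    obtain rfl : a.1 = x := congrArg Prod.fst e
    exact (m.k1 a (m.mem_of_norm d ((k1 a).1 (hn.1.trans (map_one π))) (one_mem _) hn.2)).imp
      (congrArg Subtype.val) (congrArg Subtype.val)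
  · rintro y ⟨⟨a, b⟩, hn, e⟩
    obtain rfl : a = 1 := Subtype.ext (congrArg Prod.fst e)
    obtain rfl : b.1 = y := congrArg Prod.snd e
    exact (m.k2 b (m.mem_of_norm d (one_mem _) ((ker b).1 (hn.1.symm.trans (map_one π₁))) hn.2)).imp
      (congrArg Subtype.val) (congrArg Subtype.val)
  · rintro _ ⟨n, hn, rfl⟩
    exact m.le n (d.le hn)
  · obtain ⟨q, hq⟩ := m.d1 d (p := ⟨p, le1 hp⟩) hp
    exact ⟨_, _, hq, rfl⟩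
  · obtain ⟨p, hp⟩ := m.d2 d (q := ⟨q, hQ hq⟩) hq
    exact ⟨_, _, hp, rfl⟩
  · rintro ⟨⟨a, b⟩, hn, e⟩
    obtain rfl : a = 1 := Subtype.ext (congrArg Prod.fst e)
    obtain rfl : b = ⟨z, hQ es.z_mem⟩ := Subtype.ext (congrArg Prod.snd e)
    exact m.nb d hn
  · rintro _ ⟨n, hn, rfl⟩ _ ⟨x, hx, rfl⟩
    exact ⟨_, (mem_normalizer_iff.1 hn.2 x).1 hx, by simp⟩

/-- The class of an element of the model. -/
def RQ {X : Type*} [Group X] (ψ : CE →* X) (c : LL) (x : X) : Prop := ∃ e h1 h2, ψ (qE e c h1 h2) = x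

namespace Mo

variable {X : Type*} [Group X] {ψ : CE →* X} {c d : LL} {p q : X}

theorem rq_mem (a : RQ ψ c q) : q ∈ QX ψ ∧ PP2 c := by
  obtain ⟨e, h1, h2, a⟩ := a
  exact ⟨mem_QX.2 ⟨qE e c h1 h2, mem_QK.2 ⟨e, c, rfl⟩, a⟩, h1, h2⟩

theorem rq_mul (a : RQ ψ c q) (b : RQ ψ d p) : RQ ψ (c + d) (q * p) := by
  obtain ⟨e, h1, h2, rfl⟩ := a
  obtain ⟨f, k1, k2, rfl⟩ := b
  exact ⟨_, _, _, Mo.qE_mul.symm⟩

theorem rq_one (h : Mo ψ) (a : RQ ψ c q) : q = 1 ∨ q = ψ zE ↔ InR c := by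
  obtain ⟨e, h1, h2, rfl⟩ := a
  have := h.qE_eqv (e := e) (f := 0) (h1 := h1) (h2 := h2) (k1 := pp2_zero.1) (k2 := pp2_zero.2)
  rwa [Mo.qE_zero, add_zero, Eqv, mul_one] at this

theorem rq_conj (x : SS) (a : RQ ψ c q) :
    RQ ψ (csm (thU x) c) (ψ ⟨x, SS_le_CE x.2⟩ * q * (ψ ⟨x, SS_le_CE x.2⟩)⁻¹) := by
  obtain ⟨e, h1, h2, rfl⟩ := a
  obtain ⟨f, k1, k2, b⟩ := Mo.conj_qE (ψ := ψ) x e h1 h2
  exact ⟨f, k1, k2, b.symm⟩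

end Mo

theorem br2_of {X : Type*} [Group X] {Q C : Subgroup X} {z : C} (le : Q ≤ C) {π : C →* UU}
    (e1 : Ext (Q.subgroupOf C) z π) {R : LL → X → Prop} (mem : ∀ {c q}, R c q → q ∈ Q ∧ PP2 c)
    (mul : ∀ {c d q p}, R c q → R d p → R (c + d) (q * p)) (ex_c : ∀ q ∈ Q, ∃ c, R c q)
    (ex_q : ∀ c, PP2 c → ∃ q, R c q) (one : ∀ {c q}, R c q → (q = 1 ∨ q = z ↔ InR c))
    (conj : ∀ {c q} (g : C), R c q → R (csm (π g) c) (g * q * (g : X)⁻¹)) :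
    BR2 (Q.subgroupOf C) z π fun c q => R c q.1 where
  toExt := e1
  mem := mem
  mul := mul
  ex_c := fun q => ex_c q
  ex_q := fun c hc => (ex_q c hc).elim fun q a => ⟨⟨q, le (mem a).1⟩, a⟩
  one := fun a => (or_congr Subtype.ext_iff Subtype.ext_iff).trans (one a)
  conj := fun g a => conj g a

theorem exists_mt {X G : Type*} [Group X] [Group G] [Finite G] {ψ : CE →* X} (h : Mo ψ) {Q H : Subgroup G} {z : G}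
    (es : ES2 Q z) (lg : Lg Q z) (hc : Nat.card Q = 2 ^ 21) (hQ : Q ≤ H) (hf : Hf H z) (π : H →* UU)
    (hπ : Function.Surjective π) (ker : ∀ x, π x = 1 ↔ x.1 ∈ Q) :
    ∃ N Δ, Mt (QX ψ) (ψ zE) Q H z N Δ := by
  have := h.finite
  obtain ⟨π₁, s1, k1, p1⟩ := h.exists_pi
  have le1 : QX ψ ≤ centralizer {ψ zE} := fun q hq => mem_centralizer_singleton.2 (h.es.z_comm q hq)
  have e1 : Ext ((QX ψ).subgroupOf _) ⟨ψ zE, le1 h.es.z_mem⟩ π₁ :=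
    ⟨h.es.subgroupOf le1, fun c => Subtype.ext (mem_centralizer_singleton.1 c.2), s1, k1⟩
  have e2 : Ext (Q.subgroupOf H) ⟨z, hQ es.z_mem⟩ π := ⟨es.subgroupOf hQ, fun c => Subtype.ext (hf.cen c c.2), hπ, ker⟩
  have br := br2_of (R := RQ ψ) le1 e1 Mo.rq_mem Mo.rq_mul
    (fun q hq => (h.exists_qE hq).elim fun e ⟨c, a⟩ => ⟨c, e, a⟩) (fun c hc => ⟨_, 0, hc.1, hc.2, rfl⟩) h.rq_one
    fun {c q} ⟨g, hg⟩ a => by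
      obtain ⟨x, rfl⟩ := h.lift (mem_centralizer_singleton.1 hg)
      rw [p1]
      exact Mo.rq_conj x a
  obtain ⟨F, m⟩ := exists_match br e2
    (fun c hc => h.lg.triv c (mem_centralizer_singleton.1 c.2) fun q hq =>
      (hc ⟨q, le1 hq⟩ hq).imp (congrArg Subtype.val) (congrArg Subtype.val))
    (fun c hc => lg.triv c (hf.cen c c.2) fun q hq =>
      (hc ⟨q, hQ hq⟩ hq).imp (congrArg Subtype.val) (congrArg Subtype.val))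
    ((Nat.card_congr (subgroupOfEquivOfLe le1).toEquiv).trans h.card_QX)
    ((Nat.card_congr (subgroupOfEquivOfLe hQ).toEquiv).trans hc)
  exact mt_of_match h.es h.lg le1 es lg hQ hf m

end Cfsg.Agent.E6R
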