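import Mathlib
import Cfsg.Agent.E6R.Defs
import Cfsg.Agent.Chev.E62L
import Cfsg.Agent.S2130

/-! Root elements, the BN-pair and an outer involution of the twisted group of type `E₆` over `F₄`. -/

set_option autoImplicit false
set_option backward.isDefEq.respectTransparency false

namespace Cfsg.Agent.E6R

section Letters

open Cfsg.Agent.PcT Cfsg.Agent.E62 Cfsg.Agent.Chev Cfsg.Lie Cfsg.Lie.ChevalleyDatum

theorem lt_tabW : ∀ i < 36, W 35 i = [] ∧ (i ≤ 34 → W 34 i = [] ∨ i ≠ 34 ∧ W 34 i = [35]) := by decide +kernel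

theorem lt_tabW' : W 34 5 = [35] ∧ W 34 4 = [] ∧ W 34 33 = [] ∧ W 33 4 = [34] ∧ W 4 4 = [] ∧ W 5 5 = [] := by
  decide +kernel

theorem lt_tabC : (∀ m < 3, 35 ∈ dom (4 + m) ∧ 34 ∈ dom (4 + m) ∧ C (4 + m) 35 = [35] ∧ C (4 + m) 34 = [34]) ∧
    (∀ g : Fin 4, 35 ∈ dom g ∧ 34 ∈ dom g ∧ 33 ∈ dom g ∧ C g 35 = [![34, 35, 35, 35] g] ∧
      C g 34 = [![35, 33, 34, 34] g]) ∧ C 0 33 = [33] ∧ 5 ∈ dom 1 ∧ C 1 5 = [10] ∧ 10 ∈ dom 0 ∧ C 0 10 = [4] := by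
  decide +kernel

theorem lt_uw : uw 35 = [70] ∧ uw 34 = [68] ∧ uw 5 = [20] ∧ uw 4 = [6] ∧
    chevE6.rfW [1] (chevE6.rfW [3] 25) = 32 := by decide +kernel

variable {K : Type*} [Field K] [CharP K 2] {f : RingAut K} {ω : K}

theorem lt_rel (h : F4 f ω) {j i : ℕ} (hj : j < 36) (hij : i < j) :
    u ω j * u ω i = u ω i * u ω j * ev (u ω) (W j i) := by
  have := relU h j i ⟨by omega, hj⟩ ⟨by omega, by omega⟩ hij.le
  rwa [rw'_ne _ hij.ne', ev_cons, ev_cons, mul_one, ← mul_assoc] at this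

theorem lt_sq (h : F4 f ω) {j : ℕ} (hj : j < 36) (e : W j j = []) : u ω j * u ω j = 1 := by
  have := relU h j j ⟨by omega, hj⟩ ⟨by omega, hj⟩ le_rfl
  rwa [rw'_self, e, ev_nil, mul_one] at this

theorem lt_a_comm (h : F4 f ω) {i : ℕ} (hi : i < 36) : u ω 35 * u ω i = u ω i * u ω 35 := by
  rcases (show i = 35 ∨ i < 35 by omega) with rfl | h1
  · rfl
  · rw [lt_rel h (by omega) h1, (lt_tabW i hi).1, ev_nil, mul_one]

theorem lt_U (h : F4 f ω) {g : GL chevE6.Idx K} (hg : g ∈ (twE6 f).rel.U) :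
    u ω 35 * g = g * u ω 35 ∧ (g * u ω 34 * g⁻¹ = u ω 34 ∨ g * u ω 34 * g⁻¹ = u ω 35 * u ω 34) := by
  have a2 := lt_sq h (j := 35) (by omega) (lt_tabW 35 (by omega)).1
  rw [← (U_eq h).1, gen, sup_bot_eq] at hg
  induction hg using Subgroup.closure_induction with
  | mem x hx =>
    obtain ⟨i, hi, rfl⟩ := hx
    have hi : i < 36 := by simpa using hi
    refine ⟨lt_a_comm h hi, ?_⟩
    rcases (show i = 35 ∨ i = 34 ∨ i < 34 by omega) with rfl | rfl | h1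
    · left; rw [lt_a_comm h (by omega)]; simp
    · left; simp
    · have h2 := lt_rel h (j := 34) (by omega) h1
      rcases (lt_tabW i hi).2 h1.le with e | ⟨-, e⟩ <;> rw [e] at h2
      · left; rw [mul_inv_eq_iff_eq_mul, h2]; simp
      · right
        rw [mul_inv_eq_iff_eq_mul, mul_assoc, h2, ev_cons, ev_nil, mul_one, ← mul_assoc, ← mul_assoc,
          lt_a_comm h hi, mul_assoc (u ω i), lt_a_comm h (i := 34) (by omega), mul_assoc, mul_assoc, a2, mul_one]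
  | one => simp
  | mul x y _ _ hx hy =>
    refine ⟨by rw [← mul_assoc, hx.1, mul_assoc, hy.1, mul_assoc], ?_⟩
    have e : x * y * u ω 34 * (x * y)⁻¹ = x * (y * u ω 34 * y⁻¹) * x⁻¹ := by group
    have e' : x * (u ω 35 * u ω 34) * x⁻¹ = u ω 35 * (x * u ω 34 * x⁻¹) := by
      rw [← mul_assoc, ← hx.1]; group
    rw [e]
    rcases hy.2 with e1 | e1 <;> rw [e1]
    · exact hx.2
    · rw [e']
      rcases hx.2 with e2 | e2 <;> rw [e2]
      · exact Or.inr rfl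
      · left; rw [← mul_assoc, a2, one_mul]
  | inv x _ hx =>
    have h1 : u ω 35 * x⁻¹ = x⁻¹ * u ω 35 := by
      rw [mul_inv_eq_iff_eq_mul, mul_assoc, hx.1, inv_mul_cancel_left]
    refine ⟨h1, ?_⟩
    rcases hx.2 with e | e
    · left; nth_rw 1 [← e]; group
    · right
      have e2 : u ω 34 = u ω 35 * (x * u ω 34 * x⁻¹) := by rw [e, ← mul_assoc, a2, one_mul]
      nth_rw 1 [e2]
      rw [← mul_assoc, ← h1]; group

theorem lt_B (h : F4 f ω) {g : GL chevE6.Idx K} (hg : g ∈ (chevE6.rootBN K).B ⊓ (twE6 f).G1) :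
    u ω 35 * g = g * u ω 35 ∧ (g * u ω 34 * g⁻¹ = u ω 34 ∨ g * u ω 34 * g⁻¹ = u ω 35 * u ω 34) := by
  obtain ⟨v, hv, hvK, k, hk, hkK, rfl⟩ := (twE6 f).sub.closed.mem_B_iff.1 hg
  obtain ⟨m, hm, e⟩ := conj_h h (γ := k) ⟨hk, hkK⟩
  obtain ⟨a1, a2, a3, a4⟩ := lt_tabC.1 m hm
  have e1 := e 35 a1
  have e2 := e 34 a2
  rw [a3, ev_cons, ev_nil, mul_one, mul_inv_eq_iff_eq_mul] at e1
  rw [a4, ev_cons, ev_nil, mul_one] at e2
  obtain ⟨b1, b2⟩ := lt_U h (g := v) ⟨hv, hvK⟩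
  refine ⟨by rw [← mul_assoc, b1, mul_assoc, ← e1, mul_assoc], ?_⟩
  rwa [show v * k * u ω 34 * (v * k)⁻¹ = v * (k * u ω 34 * k⁻¹) * v⁻¹ by group, e2]

theorem lt_y_sq (j : Fin 4) : (twE6 f).y j 1 * (twE6 f).y j 1 = 1 ∧ (twE6 f).ym j 1 * (twE6 f).ym j 1 = 1 ∧
    (twE6 f).t j = (twE6 f).y j 1 * (twE6 f).ym j 1 * (twE6 f).y j 1 ∧
    (twE6 f).t j * (twE6 f).y j 1 * ((twE6 f).t j)⁻¹ = (twE6 f).ym j 1 := by
  refine ⟨by rw [← Twist.y_add, CharTwo.add_self_eq_zero, Twist.y_zero],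
    by rw [← Twist.ym_add, CharTwo.add_self_eq_zero, Twist.ym_zero], ?_, ?_⟩
  · rw [Twist.t, Twist.nn_eq, inv_one, CharTwo.neg_eq]
  · rw [Twist.t_conj_y, CharTwo.neg_eq]

theorem lt_t_sq (j : Fin 4) : (twE6 f).t j * (twE6 f).t j = 1 ∧ ((twE6 f).t j * (twE6 f).y j 1) ^ 3 = 1 := by
  obtain ⟨h1, h2, h3, h4⟩ := lt_y_sq (f := f) j
  generalize (twE6 f).y j 1 = x at *
  generalize (twE6 f).ym j 1 = v at *
  generalize (twE6 f).t j = n at *
  have h5 : n * n = 1 := by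
    rw [h3, show x * v * x * (x * v * x) = x * (v * (x * x) * v) * x by group, h1, mul_one, h2, mul_one, h1]
  refine ⟨h5, ?_⟩
  rw [show (n * x) ^ 3 = n * x * n⁻¹ * (n * n) * x * n * x by simp [pow_succ, mul_assoc], h4, h5, h3,
    show v * 1 * x * (x * v * x) * x = v * (x * x) * v * (x * x) by group, h1, mul_one, mul_one, h2]

omit [CharP K 2] in
theorem lt_u : u ω 5 = (twE6 f).y 0 1 ∧ u ω 4 = (twE6 f).y 1 1 ∧ u ω 35 = chevE6.X K 71 1 ∧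
    u ω 34 = chevE6.X K 70 1 ∧ u ω 5 = chevE6.X K 46 1 := by
  simp [(twE6_y f 1).1, (twE6_y f 1).2.1, u, lt_uw.1, lt_uw.2.1, lt_uw.2.2.1, lt_uw.2.2.2.1, x6]

theorem lt_conj (h : F4 f ω) (g : Fin 4) {k m : ℕ} (hk : k ∈ dom g) (e : C g k = [m]) :
    (twE6 f).t g * u ω k * ((twE6 f).t g)⁻¹ = u ω m := by
  rw [conj_s h g k hk, e, ev_cons, ev_nil, mul_one]

theorem lt_y (h : F4 f ω) :
    (twE6 f).t 0 * (twE6 f).t 1 * u ω 5 * ((twE6 f).t 0 * (twE6 f).t 1)⁻¹ = u ω 4 := by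
  obtain ⟨-, -, -, a1, a2, a3, a4⟩ := lt_tabC
  rw [← lt_conj h 0 a3 a4, ← lt_conj h 1 a1 a2]; group

theorem lt_braid (h : F4 f ω) : ((twE6 f).t 0 * (twE6 f).t 1) ^ 3 = 1 := by
  have h1 := lt_y h
  rw [(lt_u (f := f)).1, (lt_u (f := f)).2.1] at h1
  have h2 : (twE6 f).t 0 * (twE6 f).t 1 * (twE6 f).ym 0 1 * ((twE6 f).t 0 * (twE6 f).t 1)⁻¹ = (twE6 f).ym 1 1 := by
    have e0 : (twE6 f).t 0 = chevE6.nW K [1] := by rw [Twist.t_eq_nW, twE6_lw]; rfl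
    have e1 : (twE6 f).t 1 = chevE6.nW K [3] := by rw [Twist.t_eq_nW, twE6_lw]; rfl
    rw [(twE6_ym f 1).1, (twE6_ym f 1).2.1, e0, e1, ← lt_uw.2.2.2.2, ← nW_conj_X, ← nW_conj_X]; group
  have h3 : (twE6 f).t 0 * (twE6 f).t 1 * (twE6 f).t 0 * ((twE6 f).t 0 * (twE6 f).t 1)⁻¹ = (twE6 f).t 1 := by
    conv_rhs => rw [(lt_y_sq 1).2.2.1, ← h1, ← h2]
    nth_rw 2 [(lt_y_sq (f := f) 0).2.2.1]
    group
  have h4 := (lt_t_sq (f := f) 0).1
  have h5 := (lt_t_sq (f := f) 1).1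
  generalize (twE6 f).t 0 = a at *
  generalize (twE6 f).t 1 = b at *
  rw [mul_inv_eq_iff_eq_mul] at h3
  rw [show (a * b) ^ 3 = a * b * a * (b * (a * b)) by simp [pow_succ, mul_assoc], ← h3,
    show a * b * a * (a * b * a) = a * (b * (a * a) * b) * a by group, h4, mul_one, h5, mul_one, h4]

theorem lt_odd [Finite K] : Odd (twE6 f).sub.bnPair.B.index := by
  have h1 : ¬ 2 ∣ ((twE6 f).rel.U.subgroupOf (twE6 f).rel.G).index :=
    (RootBN.sylowU (R := (twE6 f).rel) ((chevE6.isPGroup_posUnipotent K 2).to_le inf_le_left)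
      fun g hg => chevE6.eq_one_of_mem_H_pow K 2 g hg.1).not_dvd_index
  refine Nat.not_even_iff_odd.1 fun e => h1 (e.two_dvd.trans (Subgroup.index_dvd_of_le fun x hx => ?_))
  exact (twE6 f).sub.mem_bnPair_B.2 (RootBN.U_le_B hx.1)

omit [CharP K 2] in
theorem lt_field [Finite K] {D : ChevalleyDatum} [D.Good] {J : Type} (T : D.Twist K J) {φ : RingAut K}
    (h : ∀ t, φ (φ t) = t) {j : J} {c : K} (hc : (T.f ^ T.d j) c = c) (hφ : φ c ≠ c) :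
    ∃ σ : MulAut T.G1, σ * σ = 1 ∧ (∀ g, σ ≠ MulAut.conj g) ∧
      ∀ (x : T.G1) (r : D.Rt), (x : GL D.Idx K) = D.X K r 1 → σ x = x := by
  refine ⟨Twist.dfAut (T := T) 1 φ, ?_, fun g e => ?_, fun x r hx => Subtype.ext ?_⟩
  · refine MulEquiv.toMonoidHom_injective (T.G1_ext (fun j t => Subtype.ext ?_) fun j t => Subtype.ext ?_)
    · change D.dfHom (1 : T.C).1 φ (D.dfHom (1 : T.C).1 φ (T.y j t)) = T.y j t
      rw [Twist.dfHom_y, Twist.dfHom_y]; simp [h]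
    · change D.dfHom (1 : T.C).1 φ (D.dfHom (1 : T.C).1 φ (T.ym j t)) = T.ym j t
      rw [Twist.dfHom_ym, Twist.dfHom_ym]; simp [h]
  · have h5 := (RootBN.Sub.conj_mem_NA_iff (T := T.sub) T.cover_S (x := g)).1 (e ▸ Twist.dfAut_mem_NA 1 φ)
    obtain ⟨a, -, -, h6, -⟩ := T.exists_conj_y h5 (T.G1_le_Fix g.2).2 j
    have h7 : ∀ t, (T.f ^ T.d j) t = t → φ t = a * t := fun t h8 => by
      have h9 := congrArg Subtype.val (DFunLike.congr_fun e ⟨_, T.y_mem_G1 j h8⟩)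
      refine T.y_injective j ?_
      rw [← h6, ← show _ = (g : GL D.Idx K) * T.y j t * (g : GL D.Idx K)⁻¹ from h9, Twist.coe_dfAut, Twist.dfHom_y]
      simp
    have h8 := h7 1 (map_one _)
    rw [map_one, mul_one] at h8
    exact hφ (by rw [h7 c hc, ← h8, one_mul])
  · rw [Twist.coe_dfAut, hx, dfHom_X]; simp [chr]

theorem lt_outer [Finite K] (h : F4 f ω) : ∃ σ : MulAut (twE6 f).G1, σ * σ = 1 ∧ (∀ g, σ ≠ MulAut.conj g) ∧
    ∀ (x : (twE6 f).G1) (r : chevE6.Rt), (x : GL chevE6.Idx K) = chevE6.X K r 1 → σ x = x := by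
  have h2 : f ω = 1 + ω := (h.frob ω).trans h.sq
  have h4 : ∀ t, f (f t) = t := fun t => by
    rcases h.all t with rfl | rfl | rfl | rfl <;> simp [h2, ← add_assoc, CharTwo.add_self_eq_zero]
  exact lt_field (twE6 f) h4 (j := 3) (c := ω) (h4 ω) (by simp [h2])

theorem lt_F4 {K : Type*} [Field K] [Fintype K] [CharP K 2] (hK : Fintype.card K = 4) {f : RingAut K}
    (hf : ∀ t, f t = t ^ 2) : ∃ ω, F4 f ω := by
  classical
  obtain ⟨ω, -, h0⟩ := Finset.exists_mem_notMem_of_card_lt_card (s := {0, 1}) (t := (Finset.univ : Finset K))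
    (Finset.card_le_two.trans_lt (by rw [Finset.card_univ, hK]; omega))
  simp only [Finset.mem_insert, Finset.mem_singleton, not_or] at h0
  have h2 := CharTwo.two_eq_zero (R := K)
  have key : ∀ t : K, t ≠ 0 → t ≠ 1 → t ^ 2 = 1 + t := fun t t0 t1 => by
    have h3 := FiniteField.pow_card t
    rw [hK] at h3
    exact mul_left_cancel₀ (mul_ne_zero t0 (sub_ne_zero.2 t1)) (by linear_combination h3 - (t ^ 3 - t) * h2)
  refine ⟨ω, key ω h0.1 h0.2, hf, fun t => ?_⟩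
  by_contra hc
  simp only [not_or] at hc
  exact mul_ne_zero (sub_ne_zero.2 hc.2.2.1) (sub_ne_zero.2 hc.2.2.2) (by
    linear_combination key t hc.1 hc.2.1 + key ω h0.1 h0.2 + (1 + ω - t * ω) * h2)

theorem lt_G1 [Finite K] (h : F4 f ω) (hO : Nat.card (Cfsg.Out (twE6 f).G1) = 6) :
    ∃ (P : BNPair (twE6 f).G1) (a b c x : (twE6 f).G1) (n : Fin 4 → (twE6 f).G1), Lt P a b c x n ∧ Ox a := by
  let v : ℕ → (twE6 f).G1 := fun k => ⟨u ω k, (u_mem h k).2⟩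
  obtain ⟨w1, w2, w3, w4, w5, w6⟩ := lt_tabW'
  obtain ⟨-, c1, c2, -⟩ := lt_tabC
  have a2 := lt_sq h (j := 35) (by omega) (lt_tabW 35 (by omega)).1
  have b2 : u ω 34 * u ω 34 = 1 := by rw [(lt_u (f := f)).2.2.2.1, X_mul_self]
  have x2 := lt_sq h (j := 5) (by omega) w6
  have y2 := lt_sq h (j := 4) (by omega) w5
  have ab := lt_a_comm h (i := 34) (by omega)
  have bc : u ω 34 * u ω 33 = u ω 33 * u ω 34 := by rw [lt_rel h (by omega) (by omega), w3, ev_nil, mul_one]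
  have xb : u ω 5 * u ω 34 * (u ω 5)⁻¹ = u ω 35 * u ω 34 := by
    rw [inv_eq_of_mul_eq_one_right x2, mul_assoc, lt_rel h (j := 34) (by omega) (by omega), w1, ev_cons, ev_nil,
      mul_one, ← mul_assoc, ← mul_assoc, x2, one_mul, ab]
  have ca := fun g => lt_conj h g (c1 g).1 (c1 g).2.2.2.1
  have cb := fun g => lt_conj h g (c1 g).2.1 (c1 g).2.2.2.2
  let n : Fin 4 → (twE6 f).G1 := fun j => ⟨_, (twE6 f).t_mem_G1 j⟩
  have hy : n 0 * n 1 * v 5 * (n 0 * n 1)⁻¹ = v 4 := Subtype.ext (lt_y h)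
  obtain ⟨σ, s1, s2, s3⟩ := lt_outer h
  refine ⟨(twE6 f).sub.bnPair, v 35, v 34, v 33, v 5, n, ⟨?_, lt_odd, fun e => ?_, Subtype.ext a2,
    fun g hg => Subtype.ext (lt_B h hg).1, fun g hg => (lt_B h hg).2.imp Subtype.ext Subtype.ext, Subtype.ext bc,
    Subtype.ext (ca 0), Subtype.ext (lt_conj h 0 (c1 0).2.2.1 c2), Subtype.ext (ca 1), Subtype.ext (cb 1),
    Subtype.ext (ca 2), Subtype.ext (cb 2), Subtype.ext (ca 3), Subtype.ext (cb 3), Subtype.ext (lt_t_sq 0).1,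
    Subtype.ext (lt_t_sq 1).1, Subtype.ext (lt_braid h), (twE6 f).sub.mem_bnPair_B.2 (RootBN.U_le_B (u_mem h 5).1),
    Subtype.ext ?_, Subtype.ext xb, ?_, ?_, ?_⟩, hO, σ, v 5, v 34, s1, s2,
    s3 _ (e6r 46) (lt_u (f := f)).2.2.2.2, s3 _ (e6r 70) (lt_u (f := f)).2.2.2.1, Subtype.ext x2, Subtype.ext b2,
    Subtype.ext ?_⟩
  · ext g
    exact ⟨fun ⟨j, e⟩ => ⟨j, Subtype.ext e.symm⟩, fun ⟨j, e⟩ => ⟨j, e ▸ rfl⟩⟩
  · have h1 : chevE6.X K (e6r 71) 1 = chevE6.X K (e6r 71) 0 := by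
      rw [X_zero]; exact (lt_u (f := f) (ω := ω)).2.2.1.symm.trans (congrArg Subtype.val e)
    exact one_ne_zero (chevE6.X_injective K _ h1)
  · change ((twE6 f).t 0 * u ω 5) ^ 3 = 1
    rw [(lt_u (f := f)).1]; exact (lt_t_sq 0).2
  · rw [hy]; refine Subtype.ext ?_
    change u ω 4 * u ω 35 * (u ω 4)⁻¹ = u ω 35
    rw [← lt_a_comm h (by omega), mul_inv_cancel_right]
  · rw [hy]; refine Subtype.ext ?_
    change u ω 4 * u ω 34 * (u ω 4)⁻¹ = u ω 34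
    rw [mul_inv_eq_iff_eq_mul, lt_rel h (j := 34) (by omega) (by omega), w2, ev_nil, mul_one]
  · rw [hy]; refine Subtype.ext ?_
    change u ω 4 * u ω 33 * (u ω 4)⁻¹ = u ω 34 * u ω 33
    rw [inv_eq_of_mul_eq_one_right y2, mul_assoc, lt_rel h (j := 33) (by omega) (by omega), w4, ev_cons, ev_nil,
      mul_one, ← mul_assoc, ← mul_assoc, y2, one_mul, bc]
  · change u ω 5 * u ω 34 * (u ω 5)⁻¹ * (u ω 34)⁻¹ = u ω 35
    rw [xb, mul_inv_cancel_right]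

end Letters

open Subgroup Cfsg.Agent.Spor Cfsg.Agent.Spor.Leech Cfsg.Agent.Spor.LC Cfsg.Agent.Gr Cfsg.Agent.Gr.Rk Cfsg.Agent.Gr.TriV

theorem exists_lt {F : Type*} [Field F] [Fintype F] (hF : Fintype.card F = 4) :
    ∃ (P : BNPair (Lie.twistedE6 F 2)) (a b c x : Lie.twistedE6 F 2) (n : Fin 4 → Lie.twistedE6 F 2),
      Lt P a b c x n ∧ Ox a := by
  have hK2 : Fintype.card F = 2 ^ 2 := hF
  have := charP_of_card_eq_prime_pow hK2
  obtain ⟨f, hf⟩ := Chev.tw_exists_frob Nat.prime_two.isPrimePow two_ne_zero hK2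
  obtain ⟨ω, h⟩ := lt_F4 hF hf
  have hO : Nat.card (Cfsg.Out (Lie.twistedE6 F 2)) = 6 := S2130.result (K := F) 2 1 hK2 le_rfl
  rw [← Chev.twE6_G1 hK2 hf] at hO ⊢
  exact lt_G1 h hO

end Cfsg.Agent.E6R
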