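import Mathlib
import Cfsg.Agent.E6R.M0
import Cfsg.Agent.Spor.M24

/-! The cocode modulo the three points, and the monomial elements of `UU`. -/

set_option autoImplicit false

namespace Cfsg.Agent.E6R.MA

open Subgroup Cfsg.Agent.Spor Cfsg.Agent.Spor.Leech Cfsg.Agent.Spor.LC Cfsg.Agent.Gr Cfsg.Agent.Gr.Rk Cfsg.Agent.Gr.TriV
open scoped Pointwise symmDiff

/-- The three points. -/
def T3 : Finset Pt := {none, some 0, some 1}

theorem card_T3 : T3.card = 3 := by decide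

theorem mem_T3 {p : Pt} : p ∈ T3 ↔ p = none ∨ p = some 0 ∨ p = some 1 := by simp [T3]

/-- Words which agree with a code word off the three points. -/
def Z3 (δ : Wd) : Prop := ∃ d, ∀ p, p ∉ T3 → wd d p = δ p

theorem Z3.code {δ : Wd} (h : Z3 δ) {s : Finset Pt} (hs : ∀ p, p ∉ s → p ∉ T3 → δ p = 0) (h5 : s.card ≤ 5) :
    (∀ p, p ∉ T3 → δ p = 0) ∨ (IsCode (T3 ∪ s) ∧ (T3 ∪ s).card = 8) := by
  obtain ⟨d, hd⟩ := h
  have k : support₂ (wd d) ⊆ T3 ∪ s := fun p hp => by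
    by_contra n
    rw [Finset.mem_union, not_or] at n
    rw [mem_supp, hd p n.1, hs p n.2 n.1] at hp
    exact zero_ne_one hp
  have k2 := Finset.card_union_le T3 s
  rw [card_T3] at k2
  rcases (support₂ (wd d)).eq_empty_or_nonempty with e | e
  · refine .inl fun p hp => (z2_cases _).resolve_right fun o => ?_
    have : p ∈ support₂ (wd d) := mem_supp.2 ((hd p hp).trans o)
    simp [e] at this
  · have k3 := (isCode_wd d).eight_le e
    have k4 := Finset.card_le_card k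
    exact .inr ⟨Finset.eq_of_subset_of_card_le k (by omega) ▸ isCode_wd d, by omega⟩

theorem Z3.small {δ : Wd} (h : Z3 δ) {s : Finset Pt} (hs : ∀ p, p ∉ s → p ∉ T3 → δ p = 0) (h4 : s.card ≤ 4) :
    ∀ p, p ∉ T3 → δ p = 0 := by
  refine (h.code hs (by omega)).resolve_right fun k => ?_
  have k2 := Finset.card_union_le T3 s
  rw [card_T3] at k2
  omega

theorem cls1 : cls v1 = clB none (some 0) := (clB_eq_cls _ _).symm

theorem cls2 : cls v2 = clB (some 1) (some 0) := (clB_eq_cls _ _).symm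

theorem e2_eq_zero {i j p : Pt} (hi : p ≠ i) (hj : p ≠ j) : e2 i j p = 0 := by
  rw [e2_apply, if_neg hi, if_neg hj, add_zero]

theorem e2_left {i j : Pt} (h : i ≠ j) : e2 i j i = 1 := by rw [e2_apply, if_pos rfl, if_neg h, add_zero]

theorem e2_right {i j : Pt} (h : j ≠ i) : e2 i j j = 1 := by rw [e2_apply, if_pos rfl, if_neg h, zero_add]

theorem exists_eps {r : LL} (h : InR r) : ∃ ε : Wd, r = (0, sy ε) ∧ ∀ p, p ∉ T3 → ε p = 0 := by
  have a : ∀ p, p ∉ T3 → e2 none (some 0) p = 0 := fun p hp =>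
    e2_eq_zero (fun e => hp (mem_T3.2 (.inl e))) fun e => hp (mem_T3.2 (.inr (.inl e)))
  have b : ∀ p, p ∉ T3 → e2 (some 1) (some 0) p = 0 := fun p hp =>
    e2_eq_zero (fun e => hp (mem_T3.2 (.inr (.inr e)))) fun e => hp (mem_T3.2 (.inr (.inl e)))
  rcases h with h | h | h | h
  · exact ⟨0, by rw [h, map_zero]; rfl, fun _ _ => rfl⟩
  · exact ⟨_, h.trans cls1, a⟩
  · exact ⟨_, h.trans cls2, b⟩
  · refine ⟨e2 none (some 0) + e2 (some 1) (some 0), ?_, fun p hp => by rw [Pi.add_apply, a p hp, b p hp, add_zero]⟩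
    rw [h, cls1, cls2, map_add, clB, clB, Prod.mk_add_mk, add_zero]

theorem z3_of_inR {r : LL} (h : InR r) {δ : Wd} (hδ : r.2 = sy δ) : Z3 δ := by
  obtain ⟨ε, rfl, k⟩ := exists_eps h
  obtain ⟨d, hd⟩ := sy_eq_iff.1 hδ
  exact ⟨d, fun p hp => by rw [hd, Pi.add_apply, k p hp, zero_add]⟩

theorem inR_of_z3 {δ : Wd} (h : Z3 δ) (h0 : ∑ p, δ p = 0) : InR (0, sy δ) := by
  obtain ⟨d, hd⟩ := h
  obtain ⟨ε, hε⟩ : ∃ ε, ε = wd d + δ := ⟨_, rfl⟩
  have k0 : sy δ = sy ε := by rw [hε, map_add, sy_wd, zero_add]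
  have k1 : ∑ p, ε p = 0 := by simp only [hε, Pi.add_apply, Finset.sum_add_distrib, sum_wd, h0, add_zero]
  have k2 : ∀ p, p ∉ T3 → ε p = 0 := fun p hp => by rw [hε, Pi.add_apply, hd p hp, z2_add_self]
  have k3 : ε none + (ε (some 0) + ε (some 1)) = 0 := by
    rw [← Finset.sum_subset (Finset.subset_univ T3) fun p _ hp => k2 p hp, T3,
      Finset.sum_insert (by decide), Finset.sum_pair (by decide)] at k1
    exact k1
  have k4 : ε = ε none • e2 none (some 0) + ε (some 1) • e2 (some 1) (some 0) := funext fun p => by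
    rw [Pi.add_apply, Pi.smul_apply, Pi.smul_apply, smul_eq_mul, smul_eq_mul]
    by_cases hp : p ∈ T3
    · rcases mem_T3.1 hp with rfl | rfl | rfl
      · rw [e2_left (by decide), e2_eq_zero (by decide) (by decide), mul_one, mul_zero, add_zero]
      · rw [e2_right (by decide), e2_right (by decide), mul_one, mul_one]
        exact (by decide : ∀ a b c : ZMod 2, a + (b + c) = 0 → b = a + c) _ _ _ k3
      · rw [e2_left (by decide), e2_eq_zero (by decide) (by decide), mul_one, mul_zero, zero_add]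
    · rw [mem_T3, not_or, not_or] at hp
      rw [e2_eq_zero hp.1 hp.2.1, e2_eq_zero hp.2.2 hp.2.1, mul_zero, mul_zero, add_zero]
      exact k2 p (by rw [mem_T3]; tauto)
  rw [k0, k4, InR, cls1, cls2]
  rcases z2_cases (ε none) with a | a <;> rcases z2_cases (ε (some 1)) with b | b <;> simp [a, b, clB]

theorem inV_iff {c : LL} (h : V12 c) {δ : Wd} (hδ : c.2 = sy δ) : InR c ∨ InR (c + (om, 0)) ↔ Z3 δ := by
  refine ⟨fun k => k.elim (z3_of_inR · hδ) (z3_of_inR · (by rw [Prod.snd_add, add_zero, hδ])), fun k => ?_⟩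
  have := inR_of_z3 k (by rw [← sy_dot_om, ← hδ, h.2])
  refine h.1.imp (fun e => ?_) fun e => ?_
  · rwa [show c = (0, sy δ) from Prod.ext e hδ]
  · rwa [show c = (om, sy δ) from Prod.ext e hδ, Prod.mk_add_mk, cd_add_self, add_zero]

theorem v44_supp {a b i j : Pt} {s t s' t' : ℤˣ} (hab : a ≠ b) (h : v44 a b s t = v44 i j s' t') :
    (a = i ∨ a = j) ∧ (b = i ∨ b = j) := by
  have k : ∀ p, (v44 a b s t : Vec) p = (v44 i j s' t' : Vec) p := fun p => by rw [h]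
  refine ⟨by_contra fun n => ?_, by_contra fun n => ?_⟩ <;> rw [not_or] at n
  · have := k a
    simp [v44_apply, hab, n.1, n.2] at this
  · have := k b
    simp [v44_apply, hab.symm, n.1, n.2] at this

theorem v44_sign {a b : Pt} {s t s' t' : ℤˣ} (hab : a ≠ b) (h : v44 a b s t = v44 a b s' t') :
    s = s' ∧ t = t' := by
  have k : ∀ p, (v44 a b s t : Vec) p = (v44 a b s' t' : Vec) p := fun p => by rw [h]
  have k1 := k a
  have k2 := k b
  simp [v44_apply, hab, hab.symm] at k1 k2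
  exact ⟨Units.ext k1, Units.ext k2⟩

theorem mon_UU {e : Cd} {σ : M24} (h : sgC e * perm σ ∈ UU) :
    (∀ p ∈ T3, σ.1 p = p) ∧ ∀ p ∈ T3, wd e p = 0 := by
  obtain ⟨h1, h2⟩ := mem_St2.1 h
  rw [mul_smul, v1, perm_v44, sgC, sign_v44] at h1
  rw [mul_smul, v2, perm_v44, sgC, sign_v44] at h2
  have a := v44_supp (σ.1.injective.ne (by decide)) h1
  have b := v44_supp (σ.1.injective.ne (by decide)) h2
  have k0 : σ.1 (some 0) = some 0 := a.2.elim (fun x => b.2.elim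
    (fun y => absurd (x.symm.trans y) (by decide)) id) id
  have k1 : σ.1 none = none := a.1.resolve_right fun x =>
    absurd (σ.1.injective (x.trans k0.symm)) (by decide)
  have k2 : σ.1 (some 1) = some 1 := b.1.resolve_right fun x =>
    absurd (σ.1.injective (x.trans k0.symm)) (by decide)
  rw [k0, k1] at h1
  rw [k0, k2] at h2
  have c := v44_sign (by decide) h1
  have d := v44_sign (by decide) h2
  have z : ∀ {p : Pt} {s : ℤˣ}, (if p ∈ support₂ (wd e) then -s else s) = s → wd e p = 0 := fun {p s} o =>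
    (z2_cases _).resolve_right fun x => by
      rw [if_pos (mem_supp.2 x)] at o
      exact (by decide : ∀ s : ℤˣ, -s ≠ s) s o
  constructor <;> intro p hp <;> rcases mem_T3.1 hp with rfl | rfl | rfl
  exacts [k1, k0, k2, z c.1, z c.2, z d.1]

theorem perm_mem_UU {σ : M24} (h : ∀ p ∈ T3, σ.1 p = p) : perm σ ∈ UU := by
  refine mem_St2.2 ⟨?_, ?_⟩
  · rw [v1, perm_v44, h _ (by decide), h _ (by decide)]
  · rw [v2, perm_v44, h _ (by decide), h _ (by decide)]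

theorem sgC_mem_UU {d : Cd} (h : ∀ p ∈ T3, wd d p = 0) : sgC d ∈ UU := by
  have k : ∀ p ∈ T3, p ∉ support₂ (wd d) := fun p hp o => zero_ne_one ((h p hp).symm.trans (mem_supp.1 o))
  exact sign_mem _ ⟨k _ (by decide), k _ (by decide), k _ (by decide)⟩

theorem csm_perm_clB (σ : M24) (i j : Pt) : csm (perm σ) (clB i j) = clB (σ.1 i) (σ.1 j) := by
  rw [clB_eq_cls, csm_cls, perm_v44, clB_eq_cls]

theorem exists_pm (σ : M24) (d : Cd) : ∃ e, wd e = pm σ (wd d) :=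
  exists_wd (isCode_support.1 (by rw [support_pm]; exact (isCode_wd d).smul σ.2))

theorem exists_rS {d : Cd} (h : ∀ p ∈ T3, wd d p = 0) :
    ∃ r : SS, (r : K) ∈ Gr6B.IB.RR ∧ (thU r : Co0) = sgC d := by
  obtain ⟨r, hr, hz, a⟩ := Gr6B.IB.exists_r d
  have k : ∀ c, InR c → r * tq 0 c = tq 0 c * r := fun c hc => by
    obtain ⟨f, e⟩ := a 0 c
    rw [hc.csm (sgC_mem_UU h)] at e
    rcases Gr6B.IB.esRR.aes.conj_eq hr (tq_mem_RR.2 (inR_v12 hc) : tq 0 c ∈ _) with o | o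
    · exact mul_inv_eq_iff_eq_mul.1 o
    · rw [e, tq_mul, tq_inj] at o
      exact absurd (congrArg Prod.fst (right_eq_add.1 o.2)) om_ne_zero
  have m : r ∈ SS := mem_SS.2 ⟨by rw [t0_v1]; exact k _ (.inr (.inl rfl)),
    by rw [s0_v2]; exact k _ (.inr (.inr (.inl rfl))), hz.symm⟩
  exact ⟨⟨r, m⟩, hr, congrArg Subtype.val (thU_eq (x := ⟨r, m⟩) (h := ⟨_, sgC_mem_UU h⟩) a)⟩

variable {X : Type*} [Group X] {ψ : CE →* X}

theorem qE_inv {e : ZMod 2} {c : LL} {h1 h2} : (ψ (qE e c h1 h2))⁻¹ = ψ (qE (e + qL c) c h1 h2) := by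
  rw [← map_inv]; exact congrArg ψ (Subtype.ext (ActH.tq_inv e c))

theorem mul_inv_mem_V (h : Mo ψ) {e f : ZMod 2} {c d : LL} {h1 h2 k1 k2} :
    ψ (qE e c h1 h2) * (ψ (qE f d k1 k2))⁻¹ ∈ V4 (ψ zE) (ψ oE) ↔ InR (c + d) ∨ InR (c + d + (om, 0)) := by
  rw [qE_inv, Mo.qE_mul, h.qE_mem_V]

theorem qE_mem_Q {e : ZMod 2} {c : LL} {h1 h2} : ψ (qE e c h1 h2) ∈ QX ψ := ⟨_, ⟨_, _, rfl⟩, rfl⟩

theorem qE_mem_E (h : Mo ψ) (e : ZMod 2) {c : LL} (hc : V12 c) :
    ψ (qE e c (v12_p1 hc) (v12_p2 hc)) ∈ QX ψ ⊓ RX ψ := ⟨qE_mem_Q, h.qE_mem_R.2 hc⟩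

theorem exists_perm (h : Mo ψ) {σ : M24} (hσ : ∀ p ∈ T3, σ.1 p = p) : ∃ d, ψ zE * d = d * ψ zE ∧
    ψ oE * d = d * ψ oE ∧ ∀ e c h1 h2, ∃ f k1 k2,
      d * ψ (qE e c h1 h2) * d⁻¹ = ψ (qE f (csm (perm σ) c) k1 k2) := by
  obtain ⟨c, a, b⟩ := h.exists_D (perm_mem_UU hσ) (perm_mem_Mon σ)
  exact ⟨_, h.comm_z c, b, fun e x h1 h2 => a ▸ Mo.conj_qE c e h1 h2⟩

end Cfsg.Agent.E6R.MA
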