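import Mathlib
import Cfsg.Agent.E6R.M1A

/-! The classes fixed by the stabiliser of four points. -/

set_option autoImplicit false

namespace Cfsg.Agent.E6R.MA

open Cfsg.Agent.Spor Cfsg.Agent.Spor.Leech Cfsg.Agent.Gr Cfsg.Agent.Gr.Rk Finset
open scoped Pointwise symmDiff

/-- The four points. -/
def T4 : Finset Pt := insert (some 2) T3

theorem card_T4 : T4.card = 4 := by decide

theorem exists_fix4 {p q : Pt} (hp : p ∉ T4) (hq : q ∉ T4) : ∃ σ ∈ Golay.Fix T4, σ p = q := by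
  obtain ⟨σ, a, b⟩ := Golay.exists_Fix_map_list T4 [p] [q] (by simp) (by simp) (by simpa using hp)
    (by simpa using hq) rfl (by rw [card_T4]; rfl)
  exact ⟨σ, a, by simpa using b⟩

theorem block_empty {B : Finset Pt} (hB : ∀ p ∈ B, p ∉ T4) (h3 : B.card ≤ 3)
    (H : ∀ σ ∈ Golay.Fix T4, ((σ • B) ∆ B).card ≤ 4 → σ • B = B) : B = ∅ := by
  classical
  by_contra n
  obtain ⟨p, hp⟩ := nonempty_iff_ne_empty.2 n
  have c : ∀ σ : Equiv.Perm Pt, ((σ • B) ∆ B).card + 2 * ((σ • B) ∩ B).card = 2 * B.card := fun σ => by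
    rw [BinCode.card_symmDiff_add, card_smul_finset, two_mul]
  by_cases h2 : B.card ≤ 2
  · obtain ⟨q, hq⟩ := exists_notMem (t := T4 ∪ B) (by
      have := card_union_le T4 B
      rw [card_T4] at this
      omega)
    rw [mem_union, not_or] at hq
    obtain ⟨σ, a, b⟩ := exists_fix4 (hB p hp) hq.1
    have := c σ
    exact hq.2 (H σ a (by omega) ▸ mem_smul_finset.2 ⟨p, hp, b⟩)
  have k : ∀ σ ∈ Golay.Fix T4, ∀ x ∈ σ • B, x ∈ B → σ • B = B := fun σ a x x1 x2 => by
    have := c σ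
    have := card_pos.2 ⟨x, mem_inter.2 ⟨x1, x2⟩⟩
    exact H σ a (by omega)
  let P : Finset (Finset Pt) := univ.filter fun C => ∃ σ ∈ Golay.Fix T4, σ • B = C
  have mP : ∀ {C}, C ∈ P ↔ ∃ σ ∈ Golay.Fix T4, σ • B = C := by simp [P]
  have e : P.biUnion id = T4ᶜ := by
    ext x
    simp only [mem_biUnion, mP, id, mem_compl]
    constructor
    · rintro ⟨_, ⟨σ, a, rfl⟩, hx⟩ h4
      obtain ⟨y, hy, rfl⟩ := mem_smul_finset.1 hx
      have := (Golay.mem_Fix.1 a).2 _ h4
      rw [Equiv.Perm.smul_def, σ.injective.eq_iff] at this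
      exact hB y hy (this ▸ h4)
    · intro hx
      obtain ⟨σ, a, b⟩ := exists_fix4 (hB p hp) hx
      exact ⟨_, ⟨σ, a, rfl⟩, mem_smul_finset.2 ⟨p, hp, b⟩⟩
  have d : (P : Set (Finset Pt)).PairwiseDisjoint id := by
    intro C hC D hD ne
    obtain ⟨σ, a, rfl⟩ := mP.1 hC
    obtain ⟨τ, b, rfl⟩ := mP.1 hD
    refine disjoint_left.2 fun x x1 x2 => ne ?_
    have := k (τ⁻¹ * σ) (mul_mem (inv_mem b) a) (τ⁻¹ • x) (by rw [mul_smul]; exact smul_mem_smul_finset x1)
      (inv_smul_mem_iff.2 x2)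
    rwa [mul_smul, inv_smul_eq_iff] at this
  have := card_biUnion d
  rw [e, card_compl, card_T4, card_pt, sum_congr rfl (g := fun _ => 3) fun C hC => by
    obtain ⟨σ, -, rfl⟩ := mP.1 hC
    rw [id, card_smul_finset]
    omega, sum_const, smul_eq_mul] at this
  omega

theorem exists_rep (δ : Wd) : ∃ (t : Finset Pt) (d : Cd), (t \ T4).card ≤ 3 ∧ wd d = δ + ind t := by
  obtain ⟨t, h4, ht⟩ := Golay.isGolay.exists_small δ
  obtain ⟨d, hd⟩ := exists_wd ht
  have k : ∀ {t : Finset Pt}, t.card ≤ 4 → none ∈ t → (t \ T4).card ≤ 3 := fun {t} a b => by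
    have := card_le_card (sdiff_subset_sdiff (subset_refl t) (show {none} ⊆ T4 by decide))
    rw [sdiff_singleton_eq_erase, card_erase_of_mem b] at this
    omega
  by_cases h3 : t.card ≤ 3
  · exact ⟨t, d, (card_le_card sdiff_subset).trans h3, hd⟩
  by_cases hn : none ∈ t
  · exact ⟨t, d, k h4 hn, hd⟩
  obtain ⟨o, ho, h8, hs⟩ := exists_octad_superset (s := insert none t) (by rw [card_insert_of_notMem hn]; omega)
  obtain ⟨e, he⟩ := exists_wd (isCode_iff.1 ho)
  have := card_sdiff_of_subset ((subset_insert _ _).trans hs)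
  refine ⟨o \ t, d + e, k (by omega) (mem_sdiff.2 ⟨hs (mem_insert_self _ _), hn⟩), ?_⟩
  rw [map_add, hd, he, add_assoc, ← symmDiff_of_ge ((subset_insert _ _).trans hs), ind_symmDiff, add_comm (ind o)]
  rfl

theorem fix_core {δ : Wd} (H : ∀ σ : M24, (∀ p ∈ T4, σ.1 p = p) → Z3 (pm σ δ + δ)) :
    ∃ d, ∀ p, p ∉ T4 → wd d p = δ p := by
  obtain ⟨t, d, h3, hd⟩ := exists_rep δ
  have := block_empty (B := t \ T4) (fun p hp => (mem_sdiff.1 hp).2) h3 fun σ a b => by
    obtain ⟨a1, a2⟩ := Golay.mem_Fix.1 a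
    obtain ⟨x, hx⟩ := H ⟨σ, a1⟩ a2
    obtain ⟨y, hy⟩ := exists_pm ⟨σ, a1⟩ d
    have f : ∀ p, σ.symm p ∈ T4 ↔ p ∈ T4 := fun p =>
      ⟨fun o => by have := a2 _ o; rw [Equiv.apply_symm_apply] at this; rwa [this],
        fun o => by rwa [(Equiv.symm_apply_eq _).2 (a2 p o).symm]⟩
    have z : Z3 (ind ((σ • (t \ T4)) ∆ (t \ T4))) := ⟨x + y + d, fun p hp => by
      rw [map_add, map_add, Pi.add_apply, Pi.add_apply, hx p hp, hy, hd, ind_symmDiff]
      simp only [pm, Pi.add_apply, ind, mem_smul_iff, mem_sdiff, f]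
      by_cases o : p ∈ T4
      · rw [(Equiv.symm_apply_eq _).2 (a2 p o).symm]
        simp only [o, not_true, and_false, if_false]
        generalize δ p = u
        split_ifs <;> revert u <;> decide
      · simp only [o, not_false_iff, and_true]
        generalize δ p = u
        generalize δ (σ.symm p) = v
        split_ifs <;> revert u v <;> decide⟩
    have k := z.small (fun p hp _ => if_neg hp) b
    refine symmDiff_eq_empty.1 (eq_empty_of_forall_notMem fun p hp => ?_)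
    have o : p ∉ T4 := by
      rcases mem_symmDiff.1 hp with o | o
      · exact fun h => (mem_sdiff.1 ((mem_smul_iff _ _ _).1 o.1)).2 ((f p).2 h)
      · exact (mem_sdiff.1 o.1).2
    exact one_ne_zero ((if_pos hp).symm.trans (k p fun h => o (mem_insert_of_mem h)))
  refine ⟨d, fun p hp => ?_⟩
  rw [hd, Pi.add_apply, ind, if_neg fun h => notMem_empty p (this ▸ mem_sdiff.2 ⟨h, hp⟩), add_zero]

end Cfsg.Agent.E6R.MA
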