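import Mathlib
import Cfsg.Agent.E6R.M1B
import Cfsg.Agent.Gr.Fix1

/-! The intersection of the two extraspecial groups of the model. -/

set_option autoImplicit false

namespace Cfsg.Agent.E6R

open Subgroup Cfsg.Agent.Spor Cfsg.Agent.Spor.Leech Cfsg.Agent.Spor.LC Cfsg.Agent.Gr Cfsg.Agent.Gr.Rk Cfsg.Agent.Gr.TriV
open MA

namespace MA

theorem exists_fix3 {p q : Pt} (hp : p ∉ T3) (hq : q ∉ T3) : ∃ σ : M24, (∀ x ∈ T3, σ.1 x = x) ∧ σ.1 p = q := by
  obtain ⟨σ, a, b⟩ := Golay.exists_Fix_map_list T3 [p] [q] (by simp) (by simp) (by simpa using hp)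
    (by simpa using hq) rfl (by rw [card_T3]; norm_num)
  exact ⟨⟨σ, (Golay.mem_Fix.1 a).1⟩, (Golay.mem_Fix.1 a).2, by simpa using b⟩

theorem not_z3 {p q : Pt} (hp : p ∉ T3) (hpq : p ≠ q) : ¬ Z3 (e2 none q + e2 none p) := fun h => by
  have n : ∀ x, x ∉ T3 → x ≠ none := fun x hx e => hx (mem_T3.2 (.inl e))
  have := h.small (s := {p, q}) (fun x hx h3 => by
    rw [Finset.mem_insert, Finset.mem_singleton, not_or] at hx
    rw [Pi.add_apply, e2_eq_zero (n x h3) hx.2, e2_eq_zero (n x h3) hx.1, add_zero])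
    (Finset.card_le_two.trans (by norm_num)) p hp
  rw [Pi.add_apply, e2_eq_zero (n p hp) hpq, e2_right (n p hp), zero_add] at this
  exact one_ne_zero this

theorem eq_one_of_fix {k : Co0} (hk : k ∈ UU) (hm : k ∈ Mon) (h : ∀ c, V12 c → InR (csm k c + c)) : k = 1 := by
  obtain ⟨e, σ, rfl⟩ := exists_mon hm
  obtain ⟨a, b⟩ := mon_UU hk
  have s : σ = 1 := Subtype.ext (Equiv.ext fun p => by
    by_cases hp : p ∈ T3
    · exact a p hp
    · by_contra n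
      refine not_z3 hp (Ne.symm n) (z3_of_inR (h _ (v12_clB none p)) ?_)
      rw [Prod.snd_add, ((v12_clB none p).csm_mon rfl e σ).2, pm_e2, a _ (by decide), map_add]
      rfl)
  rw [s, map_one, mul_one] at h ⊢
  have z : e = 0 := wd_injective (funext fun p => by
    have := h _ (v12_clB none p)
    rw [(v12_clB none p).csm_sgC, add_right_comm, ll_add_self, zero_add, clB, sy_dot, e2_dot,
      b _ (by decide), zero_add] at this
    rw [map_zero]
    exact (z2_cases _).resolve_right fun o => not_inR_om (by rwa [o, one_smul] at this))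
  rw [z, sgC_zero]

theorem v12_of_pol {c : LL} (h : ∀ d, V12 d → pol c d = 0) : V12 c := by
  refine ⟨by_contra fun n => ?_, by rw [← pol_om, pol_comm]; exact h _ v12_om⟩
  obtain ⟨i, j, o⟩ := exists_wd_ne n
  have := h _ (v12_clB i j)
  rw [pol_clB, o] at this
  exact one_ne_zero this

theorem exists_k : ∃ k ∈ UU, InR (clB none (some 2) + csm k (om, 0)) := by
  obtain ⟨c, hc, e⟩ := exists_code_inter_of_card_lt (s := T4) (t := {some 2}) (by decide) (by decide)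
  obtain ⟨d, rfl⟩ := exists_wd_of_isCode hc
  have a : ∀ p ∈ T4, wd d p = 1 ↔ p = some 2 := fun p hp => by
    rw [← mem_supp, ← Finset.mem_singleton, ← e, Finset.mem_inter, and_iff_left hp]
  have b : ∀ p ∈ T3, wd d p = 0 := fun p hp => (z2_cases _).resolve_right fun o => by
    rw [(a p (Finset.mem_insert_of_mem hp)).1 o] at hp
    exact absurd hp (by decide)
  have x1 : negOne * xi ∈ UU := mem_St2.2
    ⟨by rw [mul_smul, v1, FixH.xi_v44 (by decide), negOne_smul, neg_neg],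
      by rw [mul_smul, v2, FixH.xi_v44 (by decide), negOne_smul, neg_neg]⟩
  have x2 : xi • e8 (some 2) = v44 none (some 2) 1 (-1) + v44 (some 1) (some 0) 1 1 :=
    Subtype.ext (funext fun p => by
      rw [xi_e8, AddSubgroup.coe_add, Pi.add_apply, v44_apply, v44_apply]
      revert p
      decide)
  refine ⟨sgC d * (negOne * xi), mul_mem (sgC_mem_UU b) x1, .inr (.inr (.inl ?_))⟩
  rw [csm_mul, csm_mul, csm_negOne, ← cls_e8 (some 2), csm_cls xi, x2, cls_add, ← clB_eq_cls, ← clC_eq_cls,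
    ((v12_clB _ _).add (v12_clC _ _)).csm_sgC, cls2, ← add_assoc, ← add_assoc, ll_add_self, zero_add,
    Prod.snd_add, add_dotProduct, clB, clC, sy_dot, sy_dot, e2_dot, e2_dot, b none (by decide),
    b (some 0) (by decide), b (some 1) (by decide), (a (some 2) (by decide)).2 rfl]
  simp [clB, cd_add_self]

theorem inR_clB {p : Pt} (hp : p ∈ T3) : InR (clB none p) := by
  rcases mem_T3.1 hp with rfl | rfl | rfl
  · exact .inl (by rw [clB, e2, wd_add_self, map_zero]; rfl)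
  · exact .inr (.inl cls1.symm)
  · exact .inr (.inr (.inr (by rw [← cls_sub, cls_v3])))

theorem mem_of_v12 (W : AddSubgroup LL) (h0 : ((om, 0) : LL) ∈ W) (h1 : ∀ p, clB none p ∈ W) {c : LL}
    (hc : V12 c) : c ∈ W := by
  obtain ⟨δ, hδ⟩ := sy_surjective c.2
  have h2 : ∑ p, δ p = 0 := by rw [← sy_dot_om, hδ, hc.2]
  have e : ((0, sy δ) : LL) = ∑ p, δ p • clB none p := by
    refine Prod.ext (by simp [Prod.fst_sum, clB]) ?_
    simp only [Prod.snd_sum, clB, Prod.smul_mk, ← map_smul, ← map_sum, e2, smul_add, Finset.sum_add_distrib,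
      ← Finset.sum_smul, h2, zero_smul, zero_add]
    exact congrArg sy (funext fun q => by simp [e1, Finset.sum_apply, Pi.single_apply])
  have k : ((0, sy δ) : LL) ∈ W := e ▸ sum_mem fun p _ => by
    rcases z2_cases (δ p) with o | o <;> rw [o]
    exacts [by rw [zero_smul]; exact zero_mem _, by rw [one_smul]; exact h1 p]
  rcases hc.1 with o | o
  · rwa [show c = (0, sy δ) from Prod.ext o hδ.symm]
  · rw [show c = (om, 0) + (0, sy δ) from Prod.ext (by simp [o]) (by simp [hδ])]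
    exact add_mem h0 k

theorem exists_od : ∃ o d : Cd, (∀ p ∈ T3, wd o p = 1) ∧ (∀ p ∈ T3, wd d p = 0) ∧
    Z3 (wd o * wd d + e2 none (some 2)) := by
  obtain ⟨c, hc, h8, hs⟩ := exists_octad_superset (s := T4) (by decide)
  obtain ⟨o, rfl⟩ := exists_wd_of_isCode hc
  have a : ∀ p ∈ T4, wd o p = 1 := fun p hp => mem_supp.1 (hs hp)
  obtain ⟨d, hd⟩ := exists_mul_eq (o := o) (mem_Oct.2 ((wt_eq_card _).trans h8))
    (add_mem_Ev (wd_mem_Ev o) (add_mem_Ev (e2_mem_Ev (a none (by decide)) (a (some 2) (by decide)))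
      (e2_mem_Ev (a (some 1) (by decide)) (a (some 0) (by decide)))))
  refine ⟨o, d, fun p hp => a p (Finset.mem_insert_of_mem hp), fun p hp => ?_, o, fun p hp => ?_⟩
  · have := congrFun hd p
    rw [Pi.mul_apply, Pi.add_apply, a p (Finset.mem_insert_of_mem hp), mul_one] at this
    rw [this]
    rcases mem_T3.1 hp with rfl | rfl | rfl <;> decide
  · rw [mem_T3, not_or, not_or] at hp
    rw [mul_comm, hd, add_assoc, add_right_comm, wd_add_self, zero_add, Pi.add_apply, e2_eq_zero hp.2.2 hp.2.1,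
      add_zero]

end MA

namespace Mo

variable {X : Type*} [Group X] {ψ : CE →* X} (h : Mo ψ)
include h

theorem cenE (c : X) (hc : ∀ e ∈ QX ψ ⊓ RX ψ, c * e = e * c) : c ∈ QX ψ ⊓ RX ψ := by
  obtain ⟨x, rfl⟩ := h.lift (hc _ ⟨h.es.z_mem, h.pair.z_mem⟩).symm
  have k : (thU x : Co0) = 1 :=
    eq_one_of_fix (thU x).2 (h.thU_mem_Mon (hc _ (qE_mem_E h 1 v12_om)).symm) fun d hd => by
      obtain ⟨f, k1, k2, a⟩ := conj_qE (ψ := ψ) x 0 (v12_p1 hd) (v12_p2 hd)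
      exact h.inR_of_eq (a.symm.trans (mul_inv_eq_iff_eq_mul.2 (hc _ (qE_mem_E h 0 hd))))
  have q := (h.mem_QX_iff (c := ⟨x, SS_le_CE x.2⟩)).2 (thU_eq_one.1 (Subtype.ext k))
  refine ⟨q, ?_⟩
  obtain ⟨e, d, h1, h2, a⟩ := exists_qE' q
  rw [← a] at hc ⊢
  exact h.qE_mem_R.2 (v12_of_pol fun y hy => h.qE_comm.1 (hc _ (qE_mem_E h 0 hy)))

theorem wE_mem : ψ wE ∈ QX ψ ⊓ RX ψ := qE_mem_E h 0 (v12_clB _ _)

theorem wV : ψ wE ∉ V4 (ψ zE) (ψ oE) := fun a => by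
  refine not_z3 (p := some 2) (q := none) (by decide) (by decide) ?_
  rw [e2, wd_add_self, zero_add]
  exact (inV_iff (v12_clB _ _) rfl).1 (h.qE_mem_V.1 a)

theorem wc : ∃ k, ψ zE * k = k * ψ zE ∧ k * ψ oE * k⁻¹ = ψ wE := by
  obtain ⟨k, hk, a⟩ := exists_k
  have p : ∀ {v : Λ}, k • v = v → pol (om, 0) (cls v) = 0 → pol (csm k (om, 0)) (cls v) = 0 :=
    fun e q => by rw [← e, ← csm_cls, pol_csm, q]
  obtain ⟨f, b⟩ : ∃ f, ψ wE = ψ (qE f _ (p hk.1 (v12_p1 v12_om)) (p hk.2 (v12_p2 v12_om))) :=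
    ((h.qE_eqv (f := 0)).2 a).elim (fun o => ⟨_, o⟩) fun o => ⟨_, o.trans z_mul⟩
  obtain ⟨x, -, c⟩ := exists_lift hk not_inR_om 1 f
  refine ⟨_, h.comm_z x, ?_⟩
  rw [b, ← map_inv, ← map_mul, ← map_mul]
  exact congrArg ψ (Subtype.ext c)

theorem fix : ∀ e ∈ QX ψ ⊓ RX ψ, (∀ d, ψ zE * d = d * ψ zE → ψ oE * d = d * ψ oE →
    d * ψ wE * d⁻¹ * (ψ wE)⁻¹ ∈ V4 (ψ zE) (ψ oE) → d * e * d⁻¹ * e⁻¹ ∈ V4 (ψ zE) (ψ oE)) →
    e ∈ V4 (ψ zE) (ψ oE) ∨ e * (ψ wE)⁻¹ ∈ V4 (ψ zE) (ψ oE) := by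
  rintro _ ⟨hq, hr⟩ H
  obtain ⟨e, c, h1, h2, rfl⟩ := exists_qE' hq
  have hc := h.qE_mem_R.1 hr
  obtain ⟨δ, hδ⟩ := sy_surjective c.2
  obtain ⟨d, hd⟩ := fix_core (δ := δ) fun σ hσ => by
    obtain ⟨x, a, b, k⟩ := exists_perm h fun p hp => hσ p (Finset.mem_insert_of_mem hp)
    have := H x a b (by
      obtain ⟨f, k1, k2, o⟩ := k 0 _ (v12_p1 (v12_clB none (some 2))) (v12_p2 (v12_clB _ _))
      rw [wE, o, mul_inv_mem_V h, csm_perm_clB, hσ _ (by decide), hσ _ (by decide), ll_add_self]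
      exact .inl (.inl rfl))
    obtain ⟨f, k1, k2, o⟩ := k e c h1 h2
    have m := hc.csm_mon hδ.symm 0 σ
    rw [sgC_zero, one_mul] at m
    rwa [o, mul_inv_mem_V h, inV_iff (m.1.add hc) (by rw [Prod.snd_add, m.2, ← hδ, map_add])] at this
  rw [h.qE_mem_V, wE, mul_inv_mem_V h, inV_iff hc hδ.symm,
    inV_iff (δ := δ + e2 none (some 2)) (hc.add (v12_clB _ _)) (by rw [Prod.snd_add, ← hδ, map_add]; rfl)]
  have n : ∀ p, p ∉ T3 → p ≠ some 2 → p ∉ T4 := fun p a b o => (Finset.mem_insert.1 o).elim b a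
  by_cases o : wd d (some 2) = δ (some 2)
  · refine .inl ⟨d, fun p hp => ?_⟩
    by_cases q : p = some 2
    exacts [q ▸ o, hd p (n p hp q)]
  · refine .inr ⟨d, fun p hp => ?_⟩
    by_cases q : p = some 2
    · rw [q, Pi.add_apply, e2_right (by decide)]
      exact (by decide : ∀ a b : ZMod 2, ¬ a = b → a = b + 1) _ _ o
    · rw [Pi.add_apply, e2_eq_zero (fun e => hp (mem_T3.2 (.inl e))) q, add_zero, hd p (n p hp q)]

theorem gen (T : Subgroup X) (hV : V4 (ψ zE) (ψ oE) ≤ T)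
    (hT : ∀ d, ψ zE * d = d * ψ zE → ψ oE * d = d * ψ oE → d * ψ wE * d⁻¹ ∈ T) : QX ψ ⊓ RX ψ ≤ T := by
  let W : AddSubgroup LL :=
    { carrier := {c | ∃ e h1 h2, ψ (qE e c h1 h2) ∈ T}
      zero_mem' := ⟨0, pol_zero_left _, pol_zero_left _, by rw [qE_zero]; exact one_mem _⟩
      add_mem' := fun ⟨_, _, _, a⟩ ⟨_, _, _, b⟩ => ⟨_, _, _, qE_mul (ψ := ψ) ▸ mul_mem a b⟩
      neg_mem' := fun a => by rwa [ll_neg] }
  rintro _ ⟨hq, hr⟩
  obtain ⟨e, c, h1, h2, rfl⟩ := exists_qE' hq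
  obtain ⟨f, k1, k2, a⟩ := mem_of_v12 W ⟨1, _, _, hV (subset_closure (.inr rfl))⟩ (fun p => by
    by_cases hp : p ∈ T3
    · exact ⟨0, v12_p1 (v12_clB _ _), v12_p2 (v12_clB _ _), hV (h.qE_mem_V.2 (.inl (inR_clB hp)))⟩
    · obtain ⟨σ, a, b⟩ := exists_fix3 (p := some 2) (by decide) hp
      obtain ⟨x, c, d, k⟩ := exists_perm h a
      obtain ⟨f, k1, k2, o⟩ := k 0 _ (v12_p1 (v12_clB none (some 2))) (v12_p2 (v12_clB _ _))
      have := hT x c d
      rw [wE, o] at this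
      rw [← b, ← a none (by decide), ← csm_perm_clB]
      exact ⟨f, k1, k2, this⟩) (h.qE_mem_R.1 hr)
  rcases (h.qE_eqv (e := e) (f := f) (h1 := h1) (h2 := h2) (k1 := k1) (k2 := k2)).2
    (.inl (ll_add_self c)) with o | o <;> rw [o]
  exacts [a, mul_mem (hV (subset_closure (.inl rfl))) a]

theorem mov : ∃ d, ψ zE * d = d * ψ zE ∧ ψ oE * d = d * ψ oE ∧
    d * ψ wE * d⁻¹ * (ψ wE)⁻¹ ∉ V4 (ψ zE) (ψ oE) := by
  obtain ⟨σ, a, b⟩ := exists_fix3 (p := some 2) (q := some 3) (by decide) (by decide)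
  obtain ⟨x, c, d, k⟩ := exists_perm h a
  obtain ⟨f, k1, k2, o⟩ := k 0 _ (v12_p1 (v12_clB none (some 2))) (v12_p2 (v12_clB _ _))
  refine ⟨x, c, d, ?_⟩
  rw [wE, o, mul_inv_mem_V h, csm_perm_clB, a _ (by decide), b,
    inV_iff ((v12_clB _ _).add (v12_clB _ _)) (map_add sy _ _).symm]
  exact not_z3 (by decide) (by decide)

theorem cm : ∃ a ∈ QX ψ, ∃ b ∈ RX ψ, ψ oE * a = a * ψ oE ∧ ψ zE * b = b * ψ zE ∧
    a * b * a⁻¹ * b⁻¹ * (ψ wE)⁻¹ ∈ V4 (ψ zE) (ψ oE) := by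
  obtain ⟨o, d, a, b, c⟩ := exists_od
  obtain ⟨r, hr, k⟩ := exists_rS b
  have h1 : pol (o, 0) (cls v1) = 0 := by rw [cls1, pol_clB, a _ (by decide), a _ (by decide), z2_add_self]
  have h2 : pol (o, 0) (cls v2) = 0 := by rw [cls2, pol_clB, a _ (by decide), a _ (by decide), z2_add_self]
  have h0 : ((o, 0) : LL).2 ⬝ᵥ om = 0 := zero_dotProduct _
  refine ⟨ψ (qE 0 _ h1 h2), qE_mem_Q, _, (h.mem_RX_iff (c := ⟨r, SS_le_CE r.2⟩)).2 hr,
    h.qE_comm.2 ((pol_om _).trans h0), h.comm_z r, ?_⟩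
  obtain ⟨f, k1, k2, e⟩ := conj_qE (ψ := ψ) r (0 + qL (o, 0)) h1 h2
  rw [mul_assoc (ψ _), mul_assoc (ψ _), qE_inv, e, qE_mul, wE, mul_inv_mem_V h, k, add_comm (o, 0),
    csm_sgC_even h0, inV_iff ((v12_smul _ (by rw [sy_dot_om, sum_mul_eq, wd_dot_wd])).add (v12_clB _ _))
      (map_add sy _ _).symm]
  exact c

end Mo

end Cfsg.Agent.E6R
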