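import Mathlib
import Cfsg.Agent.E6R.M1A
import Cfsg.Agent.Gr6.W2
import Cfsg.Agent.S2182

/-! The centraliser of the four-group has no proper subgroup of index two over `AB`; every involution
of the model is conjugate into the extraspecial group. -/

set_option autoImplicit false

namespace Cfsg.Agent.E6R

open Subgroup Cfsg.Agent.Spor Cfsg.Agent.Spor.Leech Cfsg.Agent.Spor.LC Cfsg.Agent.Gr Cfsg.Agent.Gr.Rk Cfsg.Agent.Gr.TriV
open MA

namespace MB

theorem eq_top_of_two {G : Type*} [Group G] [IsSimpleGroup G] (hc : 2 < Nat.card G) (N : Subgroup G)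
    (h : ∀ a b, a ∉ N → b ∉ N → a * b ∈ N) : N = ⊤ := by
  have n : N.Normal := ⟨fun a ha g => by
    by_cases hg : g ∈ N
    · exact mul_mem (mul_mem hg ha) (inv_mem hg)
    · exact h _ _ (by rwa [mul_mem_cancel_right ha]) (by rwa [inv_mem_iff])⟩
  refine (n.eq_bot_or_eq_top).resolve_left ?_
  rintro rfl
  have : Finite G := Nat.finite_of_card_ne_zero (by omega)
  obtain ⟨g, hg⟩ := exists_ne (1 : G)
  have k : Function.Surjective (fun b : Bool => if b then (1 : G) else g⁻¹) := fun x => by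
    by_cases e : x = 1
    · exact ⟨true, e.symm⟩
    · exact ⟨false, (eq_inv_of_mul_eq_one_left (mem_bot.1 (h x g (by rwa [mem_bot]) (by rwa [mem_bot])))).symm⟩
  have := Nat.card_le_card_of_surjective _ k
  rw [Nat.card_eq_fintype_card (α := Bool), Fintype.card_bool] at this
  omega

theorem e2_one {i j p : Pt} (h : e2 i j p = 1) : p = i ∨ p = j := by
  by_contra n
  rw [not_or] at n
  exact zero_ne_one ((e2_eq_zero n.1 n.2).symm.trans h)

theorem eq_zero_of_short {r : LL} (hr : InR r) (h : r + clB (some 2) (some 3) ∈ ShS) : r = 0 := by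
  obtain ⟨i, j, -, e⟩ := ((inR_v12 hr).add (v12_clB _ _)).short h
  have z : Z3 (e2 i j + e2 (some 2) (some 3)) := z3_of_inR hr (by
    rw [map_add, ← e, Prod.snd_add, clB, add_assoc, cd_add_self, add_zero])
  have k := z.small (s := {i, j, some 2, some 3}) (fun x hx _ => by
    simp only [Finset.mem_insert, Finset.mem_singleton, not_or] at hx
    rw [Pi.add_apply, e2_eq_zero hx.1 hx.2.1, e2_eq_zero hx.2.2.1 hx.2.2.2, add_zero]) Finset.card_le_four
  have a := k (some 2) (by decide)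
  have b := k (some 3) (by decide)
  rw [Pi.add_apply, e2_left (by decide)] at a
  rw [Pi.add_apply, e2_right (by decide)] at b
  have c : e2 i j = e2 (some 2) (some 3) := by
    rcases e2_one (z2_eq_of_add a) with a | a <;> rcases e2_one (z2_eq_of_add b) with b | b
    · exact absurd (a.trans b.symm) (by decide)
    · rw [a, b]
    · rw [a, b, e2_comm]
    · exact absurd (a.trans b.symm) (by decide)
  obtain ⟨ε, rfl, -⟩ := exists_eps hr
  rw [c, Prod.snd_add, clB, add_eq_right] at e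
  exact Prod.ext rfl e

theorem exists_long : ∃ c, V12 c ∧ ∀ r, InR r → r + c ∉ ShS := by
  obtain ⟨o, ho, h8, hs⟩ := exists_octad_superset (s := T3 ∪ {some 2, some 3}) (by decide)
  obtain ⟨q, hq⟩ := exists_notMem (t := o) (by omega)
  have n : ∀ x ∈ T3 ∪ {some 2, some 3}, q ≠ x := fun x hx e => hq (e ▸ hs hx)
  have n3 : q ∉ T3 := fun e => hq (hs (Finset.mem_union_left _ e))
  refine ⟨clB (some 2) (some 3) + clB none q, (v12_clB _ _).add (v12_clB _ _), fun r hr h => ?_⟩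
  obtain ⟨i, j, -, e⟩ := ((inR_v12 hr).add ((v12_clB _ _).add (v12_clB _ _))).short h
  have z : Z3 (e2 i j + (e2 (some 2) (some 3) + e2 none q)) := z3_of_inR hr (by
    rw [map_add, map_add, ← e, Prod.snd_add, Prod.snd_add, clB, clB, add_assoc, cd_add_self, add_zero])
  rcases z.code (s := {some 2, some 3, q, i, j}) (fun x hx h3 => by
    simp only [Finset.mem_insert, Finset.mem_singleton, not_or] at hx
    rw [Pi.add_apply, Pi.add_apply, e2_eq_zero hx.2.2.2.1 hx.2.2.2.2, e2_eq_zero hx.1 hx.2.1,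
      e2_eq_zero (fun e => h3 (mem_T3.2 (.inl e))) hx.2.2.1, add_zero, add_zero]) Finset.card_le_five with k | k
  · have a := k (some 2) (by decide)
    have b := k (some 3) (by decide)
    have c := k q n3
    rw [Pi.add_apply, Pi.add_apply, e2_left (by decide), e2_eq_zero (j := q) (by decide) (n _ (by decide)).symm,
      add_zero] at a
    rw [Pi.add_apply, Pi.add_apply, e2_right (by decide), e2_eq_zero (j := q) (by decide) (n _ (by decide)).symm,
      add_zero] at b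
    rw [Pi.add_apply, Pi.add_apply, e2_right (n none (by decide)), e2_eq_zero (n (some 2) (by decide))
      (n (some 3) (by decide)), zero_add] at c
    rcases e2_one (z2_eq_of_add a) with a | a <;> rcases e2_one (z2_eq_of_add b) with b | b <;>
      rcases e2_one (z2_eq_of_add c) with c | c <;>
      first
        | exact absurd (a.trans b.symm) (by decide)
        | exact n _ (by decide) (c.trans a.symm)
        | exact n _ (by decide) (c.trans b.symm)
  · refine hq (octad_eq_of_five_le k.1 k.2 ho h8 ?_ ▸ by simp)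
    refine le_trans (by decide) (Finset.card_le_card (Finset.subset_inter ?_ hs))
    exact Finset.union_subset_union_right (by simp [Finset.insert_subset_iff])

variable {X : Type*} [Group X] {ψ : CE →* X}

/-- Some preimage is an axis involution. -/
def P1 (ψ : CE →* X) (x : X) : Prop := ∃ u : CE, ψ u = x ∧ (u : K) ∈ DD

/-- Two preimages are axis involutions. -/
def P2 (ψ : CE →* X) (x : X) : Prop := ∃ u : CE, ψ u = x ∧ (u : K) ∈ DD ∧ t0 * u ∈ DD

theorem P1.conj (h : Mo ψ) {x y : X} (a : P1 ψ x) (c : IsConj x y) : P1 ψ y := by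
  obtain ⟨g, rfl⟩ := isConj_iff.1 c
  obtain ⟨g, rfl⟩ := h.surj g
  obtain ⟨u, rfl, a⟩ := a
  exact ⟨g * u * g⁻¹, by rw [map_mul, map_mul, map_inv], conj_mem_DD _ a⟩

theorem P2.conj (h : Mo ψ) {x y : X} (a : P2 ψ x) (c : IsConj x y) : P2 ψ y := by
  obtain ⟨g, rfl⟩ := isConj_iff.1 c
  obtain ⟨g, rfl⟩ := h.surj g
  obtain ⟨u, rfl, a, b⟩ := a
  refine ⟨g * u * g⁻¹, by rw [map_mul, map_mul, map_inv], conj_mem_DD _ a, ?_⟩
  have := conj_mem_DD (g : K) b
  rwa [← mul_assoc, (GenH.mem_cent2.1 g.2).1, mul_assoc t0, mul_assoc t0] at this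

theorem P2.p1 {x : X} (a : P2 ψ x) : P1 ψ x := let ⟨u, b, c, _⟩ := a; ⟨u, b, c⟩

theorem p2_one (h : Mo ψ) : P2 ψ 1 :=
  ⟨sE, (h.ker _).2 (.inr (.inr (.inl rfl))), s0_mem.1, O1_mul_DD t0_mem s0_mem⟩

theorem p2_z (h : Mo ψ) : P2 ψ (ψ zE) := by
  refine ⟨sE * zE, by rw [map_mul, (h.ker _).2 (.inr (.inr (.inl rfl))), one_mul], ?_, ?_⟩
  · change s0 * zz ∈ DD
    rw [s0_v2, tq_mul_zz]
    exact tq_cls_mem _ nm_v2
  · change t0 * (s0 * zz) ∈ DD
    rw [← mul_assoc]
    exact y3_mem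

theorem not_p2 (h : Mo ψ) {h1 h2} : ¬ P2 ψ (ψ (qE 0 (clB (some 2) (some 3)) h1 h2)) := by
  rintro ⟨u, a, b, c⟩
  obtain ⟨r, hr, a⟩ := h.eq_iff'.1 a
  change _ = tq 0 r * tq 0 _ at a
  rw [a, tq_mul, tq_mem_DD_iff] at b
  rw [a, t0_v1, eq_zero_of_short hr b, tq_zero, one_mul, tq_mul, tq_mem_DD_iff] at c
  exact cls_ne_zero nm_v1 (eq_zero_of_short (.inr (.inl rfl)) c)

theorem not_p1 (h : Mo ψ) {c : LL} (hc : ∀ r, InR r → r + c ∉ ShS) {h1 h2} : ¬ P1 ψ (ψ (qE 0 c h1 h2)) := by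
  rintro ⟨u, a, b⟩
  obtain ⟨r, hr, a⟩ := h.eq_iff'.1 a
  change _ = tq 0 r * tq 0 _ at a
  rw [a, tq_mul, tq_mem_DD_iff] at b
  exact hc r hr b

end MB

open MB

variable {X : Type*} [Group X] {ψ : CE →* X}

theorem Mo.perf (h : Mo ψ) (T : Subgroup X) (hA : QX ψ ⊓ centralizer {ψ oE} ≤ T)
    (hB : RX ψ ⊓ centralizer {ψ zE} ≤ T)
    (h2 : ∀ x y, ψ zE * x = x * ψ zE → ψ oE * x = x * ψ oE → ψ zE * y = y * ψ zE → ψ oE * y = y * ψ oE →
      x ∉ T → y ∉ T → x * y ∈ T) :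
    ∀ d, ψ zE * d = d * ψ zE → ψ oE * d = d * ψ oE → d ∈ T := by
  let ρ : SS →* X := ψ.comp (inclusion SS_le_CE)
  have K0 : ∀ c : SS, Commute (ψ oE) (ρ c) → ∀ e, (thU c : Co0) = sgC e → ρ c ∈ T := fun c hc e he => by
    have m : sgC e * perm 1 ∈ UU := by rw [map_one, mul_one, ← he]; exact (thU c).2
    obtain ⟨r, hr, k⟩ := exists_rS (mon_UU m).2
    have r1 : ρ r ∈ RX ψ := (h.mem_RX_iff (c := ⟨r, SS_le_CE r.2⟩)).2 hr
    have r2 : Commute (ψ oE) (ρ r) := h.pair.esR.z_comm _ r1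
    have q : ρ (c * r⁻¹) ∈ QX ψ := (h.mem_QX_iff (c := ⟨_, SS_le_CE (c * r⁻¹).2⟩)).2
      ((thU_eq_one (x := c * r⁻¹)).1
        (by rw [map_mul, map_inv, mul_inv_eq_one]; exact Subtype.ext (he.trans k.symm)))
    rw [map_mul, map_inv] at q
    exact (mul_mem_cancel_right (inv_mem (hB ⟨r1, mem_centralizer_singleton.2 (h.comm_z r)⟩))).1
      (hA ⟨q, mem_centralizer_singleton.2 (hc.mul_right r2.inv_right)⟩)
  let π : Golay.Fix T3 →* Co0 := perm.comp (inclusion fun g hg => (Golay.mem_Fix.1 hg).1)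
  have L : ∀ σ, ∃ c : SS, (thU c : Co0) = π σ ∧ Commute (ψ oE) (ρ c) := fun σ =>
    h.exists_D (perm_mem_UU (Golay.mem_Fix.1 σ.2).2) (perm_mem_Mon _)
  let N : Subgroup (Golay.Fix T3) :=
    { carrier := {σ | ∀ c : SS, Commute (ψ oE) (ρ c) → (thU c : Co0) = π σ → ρ c ∈ T}
      one_mem' := fun c hc e => K0 c hc 0 (by rw [e, map_one, sgC_zero])
      mul_mem' := fun {σ τ} a b c hc e => by
        obtain ⟨x, x1, x2⟩ := L σ
        have := b (x⁻¹ * c) (by rw [map_mul, map_inv]; exact x2.inv_right.mul_right hc)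
          (by rw [map_mul, map_inv, coe_mul, coe_inv, x1, e, map_mul, inv_mul_cancel_left])
        rwa [map_mul, map_inv, mul_mem_cancel_left (inv_mem (a x x2 x1))] at this
      inv_mem' := fun {σ} a c hc e => by
        have := a c⁻¹ (by rw [map_inv]; exact hc.inv_right) (by rw [map_inv, coe_inv, e, map_inv, inv_inv])
        rwa [map_inv, inv_mem_iff] at this }
  have := Golay.simple_Fix_three card_T3
  have top := eq_top_of_two (by rw [Golay.card_Fix_three card_T3]; norm_num) N fun σ τ a b c hc e => by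
    obtain ⟨x, x2, x1, x3⟩ : ∃ x : SS, Commute (ψ oE) (ρ x) ∧ (thU x : Co0) = π σ ∧ ρ x ∉ T := by
      by_contra n
      exact a fun x p q => by_contra fun o => n ⟨x, p, q, o⟩
    obtain ⟨y, y2, y1, y3⟩ : ∃ x : SS, Commute (ψ oE) (ρ x) ∧ (thU x : Co0) = π τ ∧ ρ x ∉ T := by
      by_contra n
      exact b fun x p q => by_contra fun o => n ⟨x, p, q, o⟩
    have := K0 (c * (x * y)⁻¹) (by rw [map_mul, map_inv, map_mul]; exact hc.mul_right (x2.mul_right y2).inv_right)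
      0 (by rw [map_mul, map_inv, map_mul, coe_mul, coe_inv, coe_mul, x1, y1, e, map_mul, mul_inv_cancel, sgC_zero])
    rwa [map_mul, map_inv, map_mul,
      mul_mem_cancel_right (inv_mem (h2 (ρ x) (ρ y) (h.comm_z x) x2 (h.comm_z y) y2 x3 y3))] at this
  intro d hz hs
  obtain ⟨c, rfl⟩ := h.lift hz
  obtain ⟨e, σ, k⟩ := exists_mon (h.thU_mem_Mon hs)
  let s : Golay.Fix T3 := ⟨σ, Golay.mem_Fix.2 ⟨σ.2, (mon_UU (k ▸ (thU c).2)).1⟩⟩
  obtain ⟨x, x1, x2⟩ := L s
  have := K0 (c * x⁻¹) (by rw [map_mul, map_inv]; exact Commute.mul_right hs x2.inv_right) e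
    (by rw [map_mul, map_inv, coe_mul, coe_inv, x1, k]; exact mul_inv_cancel_right _ _)
  rwa [map_mul, map_inv, mul_mem_cancel_right (inv_mem ((top ▸ mem_top s : s ∈ N) x x2 x1))] at this

theorem Mo.cls (h : Mo ψ) (u : X) (hu : u * u = 1) : ∃ g, g * u * g⁻¹ ∈ QX ψ := by
  by_cases h1 : u = 1
  · exact ⟨1, by simp [h1]⟩
  obtain ⟨e⟩ := h.equiv
  obtain ⟨c, hc, hl⟩ := exists_long
  have hb := v12_clB (some 2) (some 3)
  obtain ⟨a, ha⟩ : ∃ a, a = ψ (qE 0 _ (v12_p1 hb) (v12_p2 hb)) := ⟨_, rfl⟩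
  obtain ⟨b, hb'⟩ : ∃ b, b = ψ (qE 0 _ (v12_p1 hc) (v12_p2 hc)) := ⟨_, rfl⟩
  have a1 : P1 ψ a := ⟨_, ha.symm, tq_mem_DD_iff.2 (clB_mem (by decide))⟩
  have a2 : ¬ P2 ψ a := ha ▸ not_p2 h
  have b1 : ¬ P1 ψ b := hb' ▸ not_p1 h hl
  have m : ∀ x : X, x * x = 1 → x ≠ 1 → ConjClasses.mk (e x) ∈
      ConjClasses.mk '' {g : Lie.twistedE6 Cl.GF4 2 | orderOf g = 2} := fun x p q =>
    ⟨e x, by rw [Set.mem_setOf, e.orderOf_eq]; exact orderOf_eq_prime (by rw [sq, p]) q, rfl⟩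
  have c : ∀ {x y : X}, ConjClasses.mk (e x) = ConjClasses.mk (e y) → IsConj x y := fun o => by
    simpa using e.symm.toMonoidHom.map_isConj (ConjClasses.mk_eq_mk_iff_isConj.1 o)
  have n := S2182.result (K := Cl.GF4) 2 Cl.card_GF4
  have s := Set.eq_of_subset_of_ncard_le (s := {ConjClasses.mk (e (ψ zE)), ConjClasses.mk (e a), ConjClasses.mk (e b)})
    (by
      rintro _ (rfl | rfl | rfl)
      · exact m _ h.es.z_sq h.z_ne
      · exact m _ (ha ▸ h.qE_sq.2 hb.qL) fun o => a2 (o ▸ p2_one h)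
      · exact m _ (hb' ▸ h.qE_sq.2 hc.qL) fun o => b1 (o ▸ (p2_one h).p1))
    (by
      rw [n]
      exact (Set.ncard_eq_three.2 ⟨_, _, _, fun o => a2 ((p2_z h).conj h (c o)),
        fun o => b1 ((p2_z h).p1.conj h (c o)), fun o => b1 (a1.conj h (c o)), rfl⟩).ge)
    (Set.finite_of_ncard_ne_zero (by rw [n]; norm_num))
  have k := m u hu h1
  rw [← s] at k
  rcases k with o | o | o <;> obtain ⟨g, o⟩ := isConj_iff.1 (c o) <;> refine ⟨g, ?_⟩ <;> rw [o]
  exacts [h.es.z_mem, ha ▸ qE_mem_Q, hb' ▸ qE_mem_Q]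

end Cfsg.Agent.E6R
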