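import Mathlib
import Cfsg.Agent.E6R.Defs
import Cfsg.Agent.Gr6B.PA

/-! E6R, lattice part: the monomial elements of a group with `Nc u w (om, 0)`. -/

set_option autoImplicit false

namespace Cfsg.Agent.E6R

open Subgroup Cfsg.Agent.Spor Cfsg.Agent.Spor.Leech Cfsg.Agent.Spor.LC Cfsg.Agent.Gr Cfsg.Agent.Gr.Rk Cfsg.Agent.Gr.TriV
open scoped Pointwise

theorem card_le_fib {G α : Type*} [Group G] [Finite G] {E H : Subgroup G} (f : G → α) (T : Finset α)
    (hT : ∀ x ∈ E, f x ∈ T) (h : ∀ x ∈ E, ∀ y ∈ E, f x = f y → x⁻¹ * y ∈ H) :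
    Nat.card E ≤ T.card * Nat.card (E ⊓ H : Subgroup G) := by
  have h1 : Nat.card E = H.relIndex E * Nat.card (E ⊓ H : Subgroup G) := by
    rw [← (H.subgroupOf E).index_mul_card, relIndex, inf_comm, ← inf_subgroupOf_right,
      Nat.card_congr (subgroupOfEquivOfLe (inf_le_right : H ⊓ E ≤ E)).toEquiv]
  rw [h1, ← Nat.card_eq_finsetCard]
  refine Nat.mul_le_mul_right _ ?_
  refine Nat.card_le_card_of_injective
    (fun c : E ⧸ H.subgroupOf E => (⟨f (c.out : E), hT _ (c.out).2⟩ : T)) fun c c' e => ?_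
  rw [← c.out_eq', ← c'.out_eq']
  exact QuotientGroup.eq.2 (h _ (c.out).2 _ (c'.out).2 (congrArg Subtype.val e))

theorem pol_clB_two (a b : Pt) {c : Finset Pt} (hc : IsCode c) :
    pol (clB a b) (cls (two c hc)) = (if a ∈ c then 1 else 0) + if b ∈ c then 1 else 0 := by
  rw [clB_eq_cls, pol_cls, bil_comm,
    bil_eq (n := (if a ∈ c then 1 else 0) - if b ∈ c then 1 else 0) (by
      rw [ip_v44, two_apply, two_apply]; split_ifs <;> simp)]
  split_ifs <;> decide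

theorem pol_om (x : LL) : pol x (om, 0) = x.2 ⬝ᵥ om := by simp [Gr.pol]

theorem eq_one_of_fix {σ : Equiv.Perm Pt} (hσ : σ ∈ M24) (h2 : σ * σ = 1) {s : Finset Pt}
    (h8 : 8 < s.card) (h : ∀ x ∈ s, σ x = x) : σ = 1 := by
  by_contra e
  have h1 := Std.card_fixSet_le hσ h2 e
  have h3 : s.card ≤ (MB.fixSet σ).card := Finset.card_le_card fun x hx => MB.mem_fixSet.2 (h x hx)
  omega

theorem exists_duad {e : Finset Pt} (he : IsCode e) (h8 : e.card = 8) {a b i j : Pt} (ha : a ∈ e)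
    (hb : b ∈ e) (hab : a ≠ b) (hi : i ∉ e) (hj : j ∉ e) :
    ∃ c, IsCode c ∧ c ∩ e = {a, b} ∧ i ∉ c ∧ j ∉ c := by
  obtain ⟨c, hc, h⟩ := exists_code_inter (s := insert i (insert j e)) (t := {a, b})
    (by simp [Finset.insert_subset_iff, ha, hb]) fun d hd hs => by
      rcases d.eq_empty_or_nonempty with rfl | hne
      · simp
      have h2 := hd.eight_le hne
      have h3 : d.card ≤ (insert i (insert j (d ∩ e))).card := Finset.card_le_card fun x hx => by
        have := hs hx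
        simp only [Finset.mem_insert, Finset.mem_inter] at this ⊢
        tauto
      have h4 := Finset.card_insert_le i (insert j (d ∩ e))
      have h5 := Finset.card_insert_le j (d ∩ e)
      have h6 := Finset.card_le_card (Finset.inter_subset_right (s₁ := d) (s₂ := e))
      have h7 := hd.card_cases
      rw [octad_eq_of_five_le hd (by omega) he h8 (by omega),
        Finset.inter_eq_right.2 (by simp [Finset.insert_subset_iff, ha, hb]), Finset.card_pair hab]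
      exact even_two
  have k : ∀ x, (x ∈ c ∧ (x = i ∨ x = j ∨ x ∈ e)) ↔ x = a ∨ x = b := fun x => by
    simpa using Finset.ext_iff.1 h x
  refine ⟨c, hc, Finset.ext fun x => ?_, fun m => ?_, fun m => ?_⟩
  · rw [Finset.mem_inter, Finset.mem_insert, Finset.mem_singleton]
    exact ⟨fun m => (k x).1 ⟨m.1, .inr (.inr m.2)⟩,
      fun m => ⟨((k x).2 m).1, by rcases m with rfl | rfl <;> assumption⟩⟩
  · rcases (k i).1 ⟨m, .inl rfl⟩ with rfl | rfl <;> contradiction
  · rcases (k j).1 ⟨m, .inr (.inl rfl)⟩ with rfl | rfl <;> contradiction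

/-- The points off the supports of `u` and `w`. -/
structure Ctx (u w : Λ) (N : Subgroup Co0) (Ω : Finset Pt) (i j : Pt) : Prop where
  nc : Nc u w (om, 0) N
  big : 8 < Ω.card
  small : Ω.card ≤ 16
  inv : ∀ d hd σ, sign d hd * perm σ ∈ N → d ⊆ Ω ∧ ∀ a ∈ Ω, σ.1 a ∈ Ω
  pu : ∀ a ∈ Ω, ∀ b ∈ Ω, pol (clB a b) (cls u) = 0 ∧ pol (clB a b) (cls w) = 0
  sp : ∀ z, V12 z → Sp u w z → ∀ a ∈ Ω, ∀ b ∈ Ω, ∀ c ∈ Ω, ∀ d ∈ Ω, z.2 = sy (e2 a b) + sy (e2 c d) → z.2 = 0
  hi : i ∉ Ω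
  hj : j ∉ Ω
  ex : ∀ c : Cd, wd c i = 0 → wd c j = 0 →
    ∃ φ, φ ⬝ᵥ om = 0 ∧ pol (c, φ) (cls u) = 0 ∧ pol (c, φ) (cls w) = 0

namespace Ctx

variable {u w : Λ} {N : Subgroup Co0} {Ω : Finset Pt} {i j : Pt} (h : Ctx u w N Ω i j)
include h

theorem duad {x : LL} (h1 : pol x (cls u) = 0) (h2 : pol x (cls w) = 0) (h3 : pol x (om, 0) = 0)
    {n : Co0} (hn : n ∈ N) (hy : V12 (csm n x + x)) {a b : Pt} (ha : a ∈ Ω) (hb : b ∈ Ω) (hab : a ≠ b)
    (e : (csm n x + x).2 = sy (e2 a b)) {d : Finset Pt} {hd : IsCode d} {σ : M24}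
    (hm : sign d hd * perm σ ∈ N) : σ.1 a = a ∨ σ.1 a = b := by
  obtain ⟨d', -, e'⟩ := exists_sgC hd
  obtain ⟨k1, k2⟩ := hy.csm_mon e d' σ
  rw [pm_e2, ← e'] at k2
  rw [← e'] at k1
  have k3 := k1.add hy
  have k4 : (csm (sign d hd * perm σ) (csm n x + x) + (csm n x + x)).2 =
      sy (e2 (σ.1 a) (σ.1 b)) + sy (e2 a b) := by rw [Prod.snd_add, k2, e]
  have m1 := (h.inv d hd σ hm).2 a ha
  have m2 := (h.inv d hd σ hm).2 b hb
  have k5 : sy (e2 (σ.1 a) (σ.1 b)) + sy (e2 a b) = 0 := by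
    rcases h.nc.quad x h1 h2 h3 n hn _ hm with k | k
    · exact k4 ▸ h.sp _ k3 k _ m1 _ m2 _ ha _ hb k4
    · have := h.sp _ (k3.add v12_om) k _ m1 _ m2 _ ha _ hb (by rw [Prod.snd_add, k4, add_zero])
      rwa [Prod.snd_add, k4, add_zero] at this
  rcases (sy_e2_eq_iff (σ.1.injective.ne hab) hab).1 (cd_eq_of_add k5) with k | k
  exacts [.inl k.1, .inr k.1]

theorem orb {d d' : Finset Pt} {hd : IsCode d} {hd' : IsCode d'} {σ σ' : M24}
    (hn : sign d hd * perm σ ∈ N) (hm : sign d' hd' * perm σ' ∈ N) {a b : Pt} (ha : a ∈ Ω) (hb : b ∈ Ω)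
    (e1 : σ.1 a ≠ a) (e2' : σ.1 b = b) : σ'.1 a = a ∨ σ'.1 a = σ.1 a := by
  obtain ⟨c, -, e⟩ := exists_sgC hd
  obtain ⟨k1, k2⟩ := (v12_clB a b).csm_mon (δ := e2 a b) rfl c σ
  rw [pm_e2, ← e, e2'] at k2
  rw [← e] at k1
  have k3 : sy (e2 (σ.1 a) b) + sy (e2 a b) = sy (e2 a (σ.1 a)) := by
    rw [← map_add, e2, e2, e2, add_add_add_comm, wd_add_self, add_zero, add_comm]
  exact h.duad (x := clB a b) (h.pu a ha b hb).1 (h.pu a ha b hb).2 ((v12_clB a b).pol v12_om) hn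
    (k1.add (v12_clB a b)) ha ((h.inv d hd σ hn).2 a ha) e1.symm
    ((congrArg (· + sy (e2 a b)) k2).trans k3) hm

theorem oct {d d' : Finset Pt} {hd : IsCode d} {hd' : IsCode d'} {σ : M24} (hn : sign d hd ∈ N)
    (h8 : d.card = 8) (hm : sign d' hd' * perm σ ∈ N) : ∀ a ∈ d, σ.1 a = a := by
  have hs := (h.inv d hd 1 (by rwa [map_one, mul_one])).1
  have key : ∀ a ∈ d, ∀ b ∈ d, a ≠ b → σ.1 a = a ∨ σ.1 a = b := fun a ha b hb hab => by
    obtain ⟨c, hc, k1, k2, k3⟩ := exists_duad hd h8 ha hb hab (fun m => h.hi (hs m)) fun m => h.hj (hs m)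
    obtain ⟨c', rfl⟩ := exists_wd_of_isCode hc
    obtain ⟨φ, p0, p1, p2⟩ := h.ex c' ((z2_cases _).resolve_right fun e => k2 (mem_supp.2 e))
      ((z2_cases _).resolve_right fun e => k3 (mem_supp.2 e))
    obtain ⟨e, e1, e2'⟩ := exists_sgC hd
    have k4 : wd c' * wd e = e2 a b := support_inj (by
      rw [support_mul, e1, k1]
      ext x
      rw [mem_supp, e2_apply, Finset.mem_insert, Finset.mem_singleton]
      split_ifs with p q q
      · exact absurd (p.symm.trans q) hab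
      all_goals simp [*])
    have k5 := csm_sgC_even (w := (c', φ)) p0 e
    rw [← e2', k4] at k5
    exact h.duad p1 p2 ((pol_om _).trans p0) hn (k5 ▸ v12_smul _ ((sy_dot_om _).trans (sum_e2 a b)))
      (hs ha) (hs hb) hab (by rw [k5]) hm
  intro a ha
  by_contra hne
  obtain ⟨b, hb, hb'⟩ := exists_mem_notMem (s := d) (t := {a, σ.1 a})
    (Finset.card_le_two.trans_lt (by omega))
  simp only [Finset.mem_insert, Finset.mem_singleton, not_or] at hb'
  exact hb'.2 ((key a ha b hb (Ne.symm hb'.1)).resolve_left hne).symm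

theorem card_le (A : Finset (Finset Pt)) (hA : ∀ d hd, sign d hd ∈ N → d ∈ A ∨ d.card = 8)
    (h1 : 1 ≤ A.card) : Nat.card (N ⊓ Mon : Subgroup Co0) ≤ 32 * A.card := by
  classical
  let π : (N ⊓ Mon : Subgroup Co0) →* Equiv.Perm Pt := Std.proj.comp (Subgroup.inclusion inf_le_right)
  have hπ : ∀ x : (N ⊓ Mon : Subgroup Co0), ∃ (m : π x ∈ M24) (d : _) (hd : IsCode d),
      x.1 = sign d hd * perm ⟨π x, m⟩ := fun x => Std.proj_spec (Subgroup.inclusion inf_le_right x)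
  have hP : ∀ σ ∈ π.range, ∃ (m : σ ∈ M24) (d : _) (hd : IsCode d), sign d hd * perm ⟨σ, m⟩ ∈ N := by
    rintro _ ⟨x, rfl⟩
    obtain ⟨m, d, hd, e⟩ := hπ x
    exact ⟨m, d, hd, e ▸ x.2.1⟩
  have h2 : ∀ σ ∈ π.range, σ * σ = 1 := by
    rintro _ ⟨x, rfl⟩
    rw [← map_mul, show x * x = 1 from Subtype.ext (h.nc.sq x x.2.1), map_one]
  have h16 : ∀ a, Nat.card (π.range ⊓ MulAction.stabilizer _ a : Subgroup (Equiv.Perm Pt)) ≤ 16 := fun a =>
    Nat.le_of_dvd (by norm_num) (Std.card_dvd_sixteen _ (fun σ m => (hP σ m.1).1) (fun σ m => h2 σ m.1)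
      fun σ m => ⟨a, m.2⟩)
  have hst : ∀ (a : Pt) (x y : Equiv.Perm Pt), x a = y a → x⁻¹ * y ∈ MulAction.stabilizer (Equiv.Perm Pt) a :=
    fun a x y e => by
      rw [MulAction.mem_stabilizer_iff, Equiv.Perm.smul_def, Equiv.Perm.mul_apply, ← e]
      exact x.symm_apply_apply a
  have hb := h.big
  have hs := h.small
  have h32 : Nat.card π.range ≤ 32 := by
    by_cases k : ∃ σ ∈ π.range, ∃ a ∈ Ω, ∃ b ∈ Ω, σ a ≠ a ∧ σ b = b
    · obtain ⟨σ, hσ, a, ha, b, hb, k1, k2⟩ := k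
      obtain ⟨m, d, hd, e⟩ := hP σ hσ
      have := card_le_fib (E := π.range) (fun x => x a) {a, σ a} (fun x hx => by
        obtain ⟨m', d', hd', e'⟩ := hP x hx
        simpa using h.orb e e' ha hb k1 k2) fun x _ y _ => hst a x y
      have := h16 a
      have := Finset.card_le_two (a := a) (b := σ a)
      nlinarith
    · obtain ⟨b, hb'⟩ := Finset.card_pos.1 (show 0 < Ω.card by omega)
      have := card_le_fib (E := π.range) (H := ⊥) (fun x => x b) Ω (fun x hx => by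
        obtain ⟨m', d', hd', e'⟩ := hP x hx
        exact (h.inv _ _ _ e').2 b hb') fun x hx y hy e => by
          have m := mul_mem (inv_mem hx) hy
          exact eq_one_of_fix (hP _ m).1 (h2 _ m) hb fun a ha =>
            by_contra fun ne => k ⟨_, m, a, ha, b, hb', ne, hst b x y e⟩
      rw [inf_bot_eq, card_bot] at this
      omega
  have hk : ∀ x : π.ker, ∃ d hd, x.1.1 = sign d hd := fun x => by
    obtain ⟨m, d, hd, e⟩ := hπ x.1
    refine ⟨d, hd, ?_⟩
    rw [e, show (⟨π x.1, m⟩ : M24) = 1 from Subtype.ext x.2, map_one, mul_one]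
  choose f hf1 hf2 using hk
  have hf3 : ∀ x, sign (f x) (hf1 x) ∈ N := fun x => hf2 x ▸ x.1.2.1
  have h3 : ∀ D : Finset (Finset GolayPt), (∀ x, f x ∈ D) → Nat.card π.ker ≤ D.card := fun D hD => by
    rw [← Nat.card_eq_finsetCard]
    refine Nat.card_le_card_of_injective (fun x => ⟨f x, hD x⟩) fun x y e => ?_
    have e' : f x = f y := congrArg Subtype.val e
    exact Subtype.ext (Subtype.ext (by rw [hf2 x, hf2 y]; exact sign_congr _ e'))
  have h4 := π.ker.card_mul_index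
  rw [Subgroup.index_ker] at h4
  rw [← h4]
  have hfix : ∀ x, (f x).card = 8 → ∀ σ ∈ π.range, ∀ a ∈ f x, σ a = a := fun x h8 σ hσ => by
    obtain ⟨m, d, hd, e⟩ := hP σ hσ
    exact h.oct (hf3 x) h8 e
  by_cases k : ∀ x, f x ∈ A
  · rw [mul_comm]
    exact Nat.mul_le_mul h32 (h3 A k)
  obtain ⟨x, hx⟩ := not_forall.1 k
  have x8 := (hA _ _ (hf3 x)).resolve_left hx
  by_cases k' : ∀ y, f y ∈ insert (f x) A
  · obtain ⟨a, ha⟩ := Finset.card_pos.1 (show 0 < (f x).card by omega)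
    have := h16 a
    rw [inf_eq_left.2 fun σ hσ => hfix x x8 σ hσ a ha] at this
    have := Nat.mul_le_mul ((h3 _ k').trans (Finset.card_insert_le _ _)) this
    omega
  · obtain ⟨y, hy⟩ := not_forall.1 k'
    rw [Finset.mem_insert, not_or] at hy
    have y8 := (hA _ _ (hf3 y)).resolve_left hy.2
    have hr : π.range = ⊥ := eq_bot_iff.2 fun σ hσ => eq_one_of_fix (hP σ hσ).1 (h2 σ hσ) (s := f x ∪ f y)
      (by
        by_contra hc
        have e1 := Finset.eq_of_subset_of_card_le (Finset.subset_union_left (s₁ := f x) (s₂ := f y)) (by omega)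
        have e2 := Finset.eq_of_subset_of_card_le (Finset.subset_union_right (s₁ := f x) (s₂ := f y)) (by omega)
        exact hy.1 (e2.trans e1.symm))
      fun a ha => (Finset.mem_union.1 ha).elim (hfix x x8 σ hσ a) (hfix y y8 σ hσ a)
    obtain ⟨s7, hs7, c7⟩ := Finset.exists_subset_card_eq (s := Ωᶜ) (n := 7)
      (by rw [Finset.card_compl, card_pt]; omega)
    have := h3 (codes.filter fun d => d ∩ s7 = ∅) fun z => Finset.mem_filter.2 ⟨mem_codes.2 (hf1 z),
      Finset.eq_empty_of_forall_notMem fun p hp => Finset.mem_compl.1 (hs7 (Finset.mem_inter.1 hp).2)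
        ((h.inv _ _ 1 (by rw [map_one, mul_one]; exact hf3 z)).1 (Finset.mem_inter.1 hp).1)⟩
    have := Gr6.W2.card_disj c7
    rw [hr, card_bot]
    omega

end Ctx

end Cfsg.Agent.E6R
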