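import Mathlib
import Cfsg.Agent.E6R.PL

/-! E6R-PB: a vector of shape `(4, 4)` and an octad vector. -/

set_option autoImplicit false

namespace Cfsg.Agent.E6R

open Subgroup Cfsg.Agent.Spor Cfsg.Agent.Spor.Leech Cfsg.Agent.Spor.LC Cfsg.Agent.Gr Cfsg.Agent.Gr.Rk Cfsg.Agent.Gr.TriV
open scoped Pointwise symmDiff

theorem not_B {o : Finset GolayPt} (ho : IsCode o) (h8 : o.card = 8) {i j : GolayPt} (hi : i ∈ o) (hj : j ∈ o)
    (hij : i ≠ j) {N : Subgroup Co0} : ¬ Nc (v44 i j 1 1) (two o ho) (om, 0) N := fun h => by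
  classical
  have c16 : oᶜ.card = 16 := by rw [Finset.card_compl, card_pt, h8]
  obtain ⟨b0, hb0⟩ := Finset.card_pos.1 (show 0 < oᶜ.card by omega)
  rw [Finset.mem_compl] at hb0
  have nu := nm_v44 hij 1 1
  have nw : nm (two o ho) = 32 := by rw [nm_two, h8]; rfl
  have huw : ip (two o ho) (v44 i j 1 1) = 16 := by simp [ip_v44, two_apply, hi, hj]
  have s1 : cls (v44 i j 1 1) + (om, 0) ∈ ShS := by
    rw [← clC_eq_cls]; simpa [clB, clC, cd_add_self] using clB_mem hij
  have s2 : cls (two o ho) + (om, 0) ∉ ShS := by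
    rw [← cls_e8 i, ← cls_sub]
    have : nm (two o ho - e8 i) = 64 := by rw [nm_sub, nw, nm_e8, ip_e8, two_apply, if_pos hi]; rfl
    exact cls_not_mem_ShS this.le (by omega)
  have s3 : cls (v44 i j 1 1) + cls (two o ho) + (om, 0) ∉ ShS := by
    rw [← cls_e8 i, ← cls_sub, ← cls_sub]
    have : nm (v44 i j 1 1 - two o ho - e8 i) = 64 := by
      rw [nm_sub, nm_sub, nw, nu, nm_e8, ip_e8, ip_comm, huw]
      simp [two_apply, v44_apply, hi, hij]
    exact cls_not_mem_ShS this.le (by omega)
  have s4 : ((om, 0) : LL) ∉ ShS := by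
    rw [← cls_e8 i]; exact cls_not_mem_ShS (nm_e8 i).le (by rw [nm_e8]; omega)
  have hN : N ≤ Mon := fun n hn => mem_Mon_of_csm (by
    have k := (csm_mem (h := n)).2 s1
    rw [csm_add, csm_cls, (h.fix n hn).1] at k
    have e : ∀ z, csm n (om, 0) + (om, 0) = z → csm n (om, 0) = z + (om, 0) := fun z e => by
      rw [← e, add_assoc, ll_add_self, add_zero]
    rcases h.stab n hn with k1 | k1 | k1 | k1 <;> rw [e _ k1] at k ⊢
    · rw [zero_add]
    · rw [← add_assoc, ll_add_self, zero_add] at k; exact absurd k s4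
    · rw [← add_assoc] at k; exact absurd k s3
    · rw [← add_assoc, ← add_assoc, ll_add_self, zero_add] at k; exact absurd k s2)
  have pw : pol (clB i b0) (cls (two o ho)) = 1 := by rw [pol_clB_two, if_pos hi, if_neg hb0, add_zero]
  have vu := v12_v44 i j 1 1
  have hc : Ctx (v44 i j 1 1) (two o ho) N oᶜ i j :=
    { nc := h
      big := by omega
      small := by omega
      inv := fun d hd σ hm => by
        obtain ⟨e1, e2⟩ := Gr6B.PP.fix_two ho (h.fix _ hm).2
        refine ⟨fun x hx => Finset.mem_compl.2 fun m => ?_, fun a ha => Finset.mem_compl.2 fun m => ?_⟩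
        · exact Finset.notMem_empty x (e2 ▸ Finset.mem_inter.2 ⟨hx, m⟩)
        · exact Finset.mem_compl.1 ha ((Golay.apply_mem_iff_of_smul_eq e1 a).1 m)
      pu := fun a ha b hb => ⟨(v12_clB a b).pol vu.1, by
        rw [pol_clB_two, if_neg (Finset.mem_compl.1 ha), if_neg (Finset.mem_compl.1 hb), add_zero]⟩
      sp := fun z hz hs a ha b hb c hc d hd e => by
        have p := (v12_clB i b0).pol hz
        rcases hs with rfl | rfl | rfl | rfl
        · rfl
        · rw [vu.2, ← map_add] at e
          have := eq_zero_of_sy (δ := e2 i j + (e2 a b + e2 c d)) (by rw [map_add, e, cd_add_self]) (by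
            have := wt_add_le (e2 i j) (e2 a b + e2 c d)
            have := wt_add_le (e2 a b) (e2 c d)
            have := wt_e2_le i j
            have := wt_e2_le a b
            have := wt_e2_le c d
            omega)
          have k : ∀ x ∈ oᶜ, i ≠ x := fun x hx e => Finset.mem_compl.1 hx (e ▸ hi)
          have := congrFun this i
          simp [e2_apply, hij, k a ha, k b hb, k c hc, k d hd] at this
        · rw [pw] at p; exact absurd p (by decide)
        · rw [pol_add_right, pw, (v12_clB i b0).pol vu.1] at p; exact absurd p (by decide)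
      hi := by simpa using hi
      hj := by simpa using hj
      ex := fun c c1 c2 => by
        have p0 : (pol (c, 0) (cls (two o ho)) • sy (e2 i b0)) ⬝ᵥ om = 0 := by
          rw [smul_dotProduct, sy_dot_om, sum_e2, smul_zero]
        refine ⟨_, p0, ?_, ?_⟩
        · rw [← clC_eq_cls, Gr.pol, clC, p0, sy_dot, e2_dot, c1, c2]; rfl
        · have : ∀ s : ZMod 2, pol (c, s • sy (e2 i b0)) (cls (two o ho)) =
              pol (c, 0) (cls (two o ho)) + s * pol (clB i b0) (cls (two o ho)) := fun s => by
            simp [Gr.pol, clB, add_comm]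
          rw [this, pw, mul_one, z2_add_self] }
  have := hc.card_le {∅, oᶜ} (fun d hd hm => by
    have hs := (hc.inv d hd 1 (by rwa [map_one, mul_one])).1
    have k1 := Finset.card_le_card hs
    have k2 := (hd.symmDiff ho).card_cases
    have k3 : Disjoint d o := Finset.disjoint_left.2 fun x hx => Finset.mem_compl.1 (hs hx)
    rw [k3.symmDiff_eq_sup, Finset.sup_eq_union, Finset.card_union_of_disjoint k3] at k2
    rcases hd.card_cases with e | e | e | e | e
    · exact .inl (by simp [Finset.card_eq_zero.1 e])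
    · exact .inr e
    · omega
    · exact .inl (by simp [Finset.eq_of_subset_of_card_le hs (by omega)])
    · omega) (Finset.card_pos.2 ⟨_, Finset.mem_insert_self _ _⟩)
  rw [inf_eq_left.2 hN] at this
  have := Finset.card_le_two (a := (∅ : Finset Pt)) (b := oᶜ)
  have := h.card
  omega

end Cfsg.Agent.E6R
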