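import Mathlib
import Cfsg.Agent.E6R.PL

/-! E6R-PC: two octad vectors. -/

set_option autoImplicit false

namespace Cfsg.Agent.E6R

open Subgroup Cfsg.Agent.Spor Cfsg.Agent.Spor.Leech Cfsg.Agent.Spor.LC Cfsg.Agent.Gr Cfsg.Agent.Gr.Rk Cfsg.Agent.Gr.TriV
open scoped Pointwise symmDiff

theorem not_C {o p : Finset GolayPt} (ho : IsCode o) (hp : IsCode p) (h8 : o.card = 8) (k8 : p.card = 8)
    (h4 : (o ∩ p).card = 4) {N : Subgroup Co0} : ¬ Nc (two o ho) (two p hp) (om, 0) N := fun h => by
  classical
  have c1 := Finset.card_union_add_card_inter o p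
  have c12 : (o ∪ p)ᶜ.card = 12 := by rw [Finset.card_compl, card_pt]; omega
  have c2 := Finset.card_sdiff_add_card_inter o p
  have c3 := Finset.card_sdiff_add_card_inter p o
  rw [Finset.inter_comm] at c3
  obtain ⟨b, hb⟩ := Finset.card_pos.1 (show 0 < (o ∪ p)ᶜ.card by omega)
  obtain ⟨i, hi⟩ := Finset.card_pos.1 (show 0 < (o \ p).card by omega)
  obtain ⟨j, hj⟩ := Finset.card_pos.1 (show 0 < (p \ o).card by omega)
  have hm : ∀ {x}, x ∈ (o ∪ p)ᶜ ↔ x ∉ o ∧ x ∉ p := by simp
  rw [Finset.mem_sdiff] at hi hj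
  rw [hm] at hb
  have p1 : pol (clB i b) (cls (two o ho)) = 1 := by rw [pol_clB_two, if_pos hi.1, if_neg hb.1, add_zero]
  have p2 : pol (clB i b) (cls (two p hp)) = 0 := by rw [pol_clB_two, if_neg hi.2, if_neg hb.2, add_zero]
  have p3 : pol (clB j b) (cls (two o ho)) = 0 := by rw [pol_clB_two, if_neg hj.2, if_neg hb.1, add_zero]
  have p4 : pol (clB j b) (cls (two p hp)) = 1 := by rw [pol_clB_two, if_pos hj.1, if_neg hb.2, add_zero]
  have hc : Ctx (two o ho) (two p hp) N (o ∪ p)ᶜ i j :=
    { nc := h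
      big := by omega
      small := by omega
      inv := fun d hd σ hn => by
        obtain ⟨e1, e2⟩ := Gr6B.PP.fix_two ho (h.fix _ hn).1
        obtain ⟨e3, e4⟩ := Gr6B.PP.fix_two hp (h.fix _ hn).2
        refine ⟨fun x hx => hm.2 ⟨fun m => ?_, fun m => ?_⟩, fun a ha => hm.2 ⟨fun m => ?_, fun m => ?_⟩⟩
        · exact Finset.notMem_empty x (e2 ▸ Finset.mem_inter.2 ⟨hx, m⟩)
        · exact Finset.notMem_empty x (e4 ▸ Finset.mem_inter.2 ⟨hx, m⟩)
        · exact (hm.1 ha).1 ((Golay.apply_mem_iff_of_smul_eq e1 a).1 m)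
        · exact (hm.1 ha).2 ((Golay.apply_mem_iff_of_smul_eq e3 a).1 m)
      pu := fun a ha b hb => ⟨by rw [pol_clB_two, if_neg (hm.1 ha).1, if_neg (hm.1 hb).1, add_zero],
        by rw [pol_clB_two, if_neg (hm.1 ha).2, if_neg (hm.1 hb).2, add_zero]⟩
      sp := fun z hz hs _ _ _ _ _ _ _ _ _ => by
        have q1 := (v12_clB i b).pol hz
        have q2 := (v12_clB j b).pol hz
        rcases hs with rfl | rfl | rfl | rfl
        · rfl
        · rw [p1] at q1; exact absurd q1 (by decide)
        · rw [p4] at q2; exact absurd q2 (by decide)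
        · rw [pol_add_right, p1, p2] at q1; exact absurd q1 (by decide)
      hi := fun m => (hm.1 m).1 hi.1
      hj := fun m => (hm.1 m).2 hj.1
      ex := fun c _ _ => by
        have k : ∀ (s t : ZMod 2) (y : LL), pol (c, s • sy (e2 i b) + t • sy (e2 j b)) y =
            pol (c, 0) y + s * pol (clB i b) y + t * pol (clB j b) y := fun s t y => by
          simp only [Gr.pol, clB, add_dotProduct, smul_dotProduct, smul_eq_mul, dotProduct_zero, zero_dotProduct]
          ring
        refine ⟨pol (c, 0) (cls (two o ho)) • sy (e2 i b) + pol (c, 0) (cls (two p hp)) • sy (e2 j b), ?_, ?_, ?_⟩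
        · rw [add_dotProduct, smul_dotProduct, smul_dotProduct, sy_dot_om, sy_dot_om, sum_e2, sum_e2,
            smul_zero, smul_zero, add_zero]
        · rw [k, p1, p3, mul_one, z2_add_self, mul_zero, add_zero]
        · rw [k, p2, p4, mul_one, mul_zero, add_zero, z2_add_self] }
  have k1 := hc.card_le {∅} (fun d hd hn => by
    have hs := (hc.inv d hd 1 (by rwa [map_one, mul_one])).1
    have k1 := Finset.card_le_card hs
    rcases hd.card_cases with e | e | e | e | e
    · exact .inl (by simp [Finset.card_eq_zero.1 e])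
    · exact .inr e
    · have k2 := (hd.compl.symmDiff ho).card_cases
      rw [Finset.eq_of_subset_of_card_le hs (by omega), compl_compl,
        show (o ∪ p) ∆ o = p \ o from Finset.ext fun x => by
          rw [Finset.mem_symmDiff, Finset.mem_union, Finset.mem_sdiff]
          by_cases a : x ∈ o <;> by_cases b : x ∈ p <;> simp [a, b]] at k2
      omega
    · omega
    · omega) (by simp)
  have k2 := card_le_fib (E := N) (H := Mon) (fun n => csm n (om, 0) + (om, 0))
    {0, cls (two o ho), cls (two p hp), cls (two o ho) + cls (two p hp)}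
    (fun n hn => by simpa [Sp] using h.stab n hn) fun x _ y _ e => mem_Mon_of_csm (by
      rw [csm_mul, ← add_right_cancel e, ActH.csm_inv_csm])
  have k3 := Finset.card_le_four (a := (0 : LL)) (b := cls (two o ho)) (c := cls (two p hp))
    (d := cls (two o ho) + cls (two p hp))
  have := Nat.mul_le_mul k3 k1
  have := h.card
  rw [Finset.card_singleton] at *
  omega

end Cfsg.Agent.E6R
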