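import Mathlib
import Cfsg.Agent.E6R.PB
import Cfsg.Agent.E6R.PC
import Cfsg.Agent.E6R.M0

/-! E6R-PA, first part: the shape of the pair of short vectors. -/

set_option autoImplicit false

namespace Cfsg.Agent.E6R

open Subgroup Cfsg.Agent.Spor Cfsg.Agent.Spor.Leech Cfsg.Agent.Spor.LC Cfsg.Agent.Gr Cfsg.Agent.Gr.Rk Cfsg.Agent.Gr.TriV
open scoped Pointwise symmDiff

namespace PA

variable {u w u' w' : Λ} {c r : LL} {N : Subgroup Co0}

theorem csm_inj (k : Co0) {a b : LL} (h : csm k a = csm k b) : a = b := by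
  rw [← ActH.csm_inv_csm k a, h, ActH.csm_inv_csm]

theorem sp_csm (k : Co0) : Sp (k • u) (k • w) (csm k c) ↔ Sp u w c := by
  unfold Sp
  rw [← csm_cls, ← csm_cls, ← csm_add]
  constructor
  · rintro (h | h | h | h)
    · exact .inl (csm_inj k (h.trans (csm_zero k).symm))
    · exact .inr (.inl (csm_inj k h))
    · exact .inr (.inr (.inl (csm_inj k h)))
    · exact .inr (.inr (.inr (csm_inj k h)))
  · rintro (rfl | rfl | rfl | rfl)
    · exact .inl (csm_zero k)
    · exact .inr (.inl rfl)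
    · exact .inr (.inr (.inl rfl))
    · exact .inr (.inr (.inr rfl))

theorem ll_cancel (a b : LL) : a + (a + b) = b := by rw [← add_assoc, ll_add_self, zero_add]

theorem sp_add {a b : LL} (ha : Sp u w a) (hb : Sp u w b) : Sp u w (a + b) := by
  have e1 := ll_add_self (cls u)
  have e2 := ll_add_self (cls w)
  have e3 := ll_add_self (cls u + cls w)
  have e4 := ll_cancel (cls u) (cls w)
  have e5 : cls w + (cls u + cls w) = cls u := by rw [add_comm (cls u), ll_cancel]
  unfold Sp at *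
  rcases ha with rfl | rfl | rfl | rfl <;> rcases hb with rfl | rfl | rfl | rfl <;>
    simp only [add_zero, zero_add, e1, e2, e3, e4, e5, add_comm (cls w) (cls u),
      add_comm (cls u + cls w) (cls u), add_comm (cls u + cls w) (cls w), true_or, or_true]

theorem sp_fix {k : Co0} (h1 : k • u = u) (h2 : k • w = w) (h : Sp u w r) : csm k r = r := by
  rcases h with rfl | rfl | rfl | rfl
  · exact csm_zero _
  · rw [csm_cls, h1]
  · rw [csm_cls, h2]
  · rw [csm_add, csm_cls, csm_cls, h1, h2]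

theorem sp_pol {d : LL} (q1 : pol d (cls u) = 0) (q2 : pol d (cls w) = 0) (h : Sp u w r) :
    pol d r = 0 := by
  rcases h with rfl | rfl | rfl | rfl
  exacts [pol_zero_right _, q1, q2, by rw [pol_add_right, q1, q2, add_zero]]

theorem csm_conj (k n : Co0) (x : LL) : csm (k * n * k⁻¹) (csm k x) = csm k (csm n x) := by
  rw [csm_mul, csm_mul, ActH.csm_inv_csm]

theorem nc_conj (h : Nc u w c N) (k : Co0) :
    Nc (k • u) (k • w) (csm k c) (N.map (MulAut.conj k).toMonoidHom) where
  card := by rw [card_map_of_injective (MulAut.conj k).injective]; exact h.card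
  fix := by
    rintro _ ⟨n, hn, rfl⟩
    change (k * n * k⁻¹) • k • u = k • u ∧ (k * n * k⁻¹) • k • w = k • w
    simp only [mul_smul, inv_smul_smul, (h.fix n hn).1, (h.fix n hn).2, and_self]
  stab := by
    rintro _ ⟨n, hn, rfl⟩
    change Sp _ _ (csm (k * n * k⁻¹) (csm k c) + csm k c)
    rw [csm_conj, ← csm_add, sp_csm]
    exact h.stab n hn
  sq := by
    rintro _ ⟨a, ha, rfl⟩
    rw [← map_mul, h.sq a ha, map_one]
  norm := by
    rintro g h1 h2 h3 _ ⟨n, hn, rfl⟩
    refine ⟨_, h.norm (k⁻¹ * g * k) (by rw [mul_smul, mul_smul, h1, inv_smul_smul])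
      (by rw [mul_smul, mul_smul, h2, inv_smul_smul]) ?_ n hn, ?_⟩
    · rw [← sp_csm k, csm_add, ← csm_mul, ← mul_assoc, ← mul_assoc, mul_inv_cancel, one_mul, csm_mul]
      exact h3
    · change k * _ * k⁻¹ = g * (k * n * k⁻¹) * g⁻¹
      group
  quad := by
    rintro x h1 h2 h3 _ ⟨n, hn, rfl⟩ _ ⟨m, hm, rfl⟩
    obtain ⟨x, rfl⟩ : ∃ y, csm k y = x := (ActH.csmE k).surjective x
    rw [← csm_cls, pol_csm] at h1 h2
    rw [pol_csm] at h3
    change Sp _ _ (csm (k * m * k⁻¹) (csm (k * n * k⁻¹) _ + _) + (csm (k * n * k⁻¹) _ + _)) ∨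
      Sp _ _ (csm (k * m * k⁻¹) (csm (k * n * k⁻¹) _ + _) + (csm (k * n * k⁻¹) _ + _) + _)
    rw [csm_conj, ← csm_add, csm_conj, ← csm_add, ← csm_add, sp_csm, sp_csm]
    exact h.quad x h1 h2 h3 n hn m hm

theorem nc_congr (h : Nc u w c N) (hs : ∀ r, Sp u' w' r ↔ Sp u w r)
    (hf : ∀ g : Co0, (g • u' = u' ∧ g • w' = w') ↔ (g • u = u ∧ g • w = w)) : Nc u' w' c N where
  card := h.card
  fix n hn := (hf n).2 (h.fix n hn)
  stab n hn := (hs _).2 (h.stab n hn)
  sq := h.sq
  norm k h1 h2 h3 := h.norm k ((hf k).1 ⟨h1, h2⟩).1 ((hf k).1 ⟨h1, h2⟩).2 ((hs _).1 h3)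
  quad x h1 h2 h3 n hn m hm := by
    rw [hs, hs]
    exact h.quad x (sp_pol h1 h2 ((hs _).2 (.inr (.inl rfl))))
      (sp_pol h1 h2 ((hs _).2 (.inr (.inr (.inl rfl))))) h3 n hn m hm

theorem nc_swap (h : Nc u w c N) : Nc w u c N :=
  nc_congr h (fun r => by unfold Sp; rw [add_comm (cls w)]; tauto) fun _ => and_comm

theorem nc_sub (h : Nc u w c N) : Nc (u - w) u c N := by
  refine nc_congr h (fun r => ?_) fun g => ⟨fun ⟨a, b⟩ => ⟨b, ?_⟩, fun ⟨a, b⟩ => ⟨?_, a⟩⟩
  · unfold Sp
    rw [cls_sub, add_comm (cls u + cls w), ll_cancel]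
    tauto
  · rw [smul_sub, b] at a
    exact sub_right_injective a
  · rw [smul_sub, a, b]

theorem nc_add (h : Nc u w c N) (hr : Sp u w r) : Nc u w (c + r) N := by
  have e : ∀ k : Co0, k • u = u → k • w = w → csm k (c + r) + (c + r) = csm k c + c :=
    fun k h1 h2 => by
      rw [csm_add, sp_fix h1 h2 hr, add_add_add_comm, ll_add_self, add_zero]
  refine ⟨h.card, h.fix, fun n hn => ?_, h.sq, fun k h1 h2 h3 => h.norm k h1 h2 (e k h1 h2 ▸ h3),
    fun x h1 h2 h3 n hn m hm => ?_⟩
  · rw [e n (h.fix n hn).1 (h.fix n hn).2]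
    exact h.stab n hn
  · rw [pol_add_right, sp_pol h1 h2 hr, add_zero] at h3
    refine (h.quad x h1 h2 h3 n hn m hm).imp_right fun t => ?_
    rw [← add_assoc]
    exact sp_add t hr

theorem csm_om' {g : Co0} (hg : g ∈ Mon) : csm g ((om, 0) : LL) = (om, 0) := by
  simpa using csm_om hg 1

theorem nc_mon (h : Nc u w (om, 0) N) {g : Co0} (hg : g ∈ Mon) :
    ∃ N', Nc (g • u) (g • w) (om, 0) N' := ⟨_, csm_om' hg ▸ nc_conj h g⟩

/-- Shape `(4, 4)`. -/
def T4 (v : Λ) : Prop := ∃ i j s t, i ≠ j ∧ v = v44 i j s t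

/-- Shape `2⁸`. -/
def T8 (v : Λ) : Prop := ∃ o ho d hd, o.card = 8 ∧ v = sign d hd • two o ho

theorem types {v : Λ} (hv : nm v = 32) (p : pol (om, 0) (cls v) = 0) : T4 v ∨ T8 v := by
  rcases short_cases hv with h | ⟨o, ho, d, rfl⟩ | ⟨d, i, rfl⟩
  · exact .inl h
  · refine .inr ⟨_, isCode_wd o, _, isCode_wd d, ?_, rfl⟩
    have := nm_twoC_oct ho
    rw [twoC, nm_two] at this
    omega
  · rw [cls_sgC_lam, Gr.pol_om, clX_par] at p
    exact absurd p (by decide)

theorem exists_code_iff {s : Finset GolayPt} (hs : s.card < 8) (P : GolayPt → Prop) :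
    ∃ c, IsCode c ∧ ∀ i ∈ s, (i ∈ c ↔ P i) := by
  classical
  obtain ⟨c, hc, e⟩ := exists_code_inter_of_card_lt (Finset.filter_subset P s) hs
  refine ⟨c, hc, fun i hi => ?_⟩
  have := Finset.ext_iff.1 e i
  simpa [hi] using this

theorem common {i j l : GolayPt} (hij : i ≠ j) (hil : i ≠ l) (hjl : j ≠ l) (s t t' : ℤˣ) :
    ∃ g ∈ Mon, g • v44 i j s t = v1 ∧ g • v44 i l s t' = v2 := by
  obtain ⟨σ, hσ, e1, e2, e3⟩ := exists_M24_three hij hil hjl p01.symm p12 p02
  obtain ⟨c, hc, e⟩ := exists_code_iff (s := {i, j, l})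
    (Finset.card_le_three.trans_lt (by norm_num))
    fun x => (x = i ∧ s = 1) ∨ (x = j ∧ t = -1) ∨ (x = l ∧ t' = -1)
  have a1 : i ∈ c ↔ s = 1 := by simpa [hij, hil] using e i (by simp)
  have a2 : j ∈ c ↔ t = -1 := by simpa [hij.symm, hjl] using e j (by simp)
  have a3 : l ∈ c ↔ t' = -1 := by simpa [hil.symm, hjl.symm] using e l (by simp)
  have b1 : (if i ∈ c then -s else s) = -1 := by
    rcases Int.units_eq_one_or s with rfl | rfl <;> simp [a1]
  have b2 : (if j ∈ c then -t else t) = 1 := by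
    rcases Int.units_eq_one_or t with rfl | rfl <;> simp [a2]
  have b3 : (if l ∈ c then -t' else t') = 1 := by
    rcases Int.units_eq_one_or t' with rfl | rfl <;> simp [a3]
  refine ⟨perm ⟨σ, hσ⟩ * sign c hc, Mon.mul_mem (perm_mem_Mon _) (sign_mem_Mon _ _), ?_, ?_⟩
  · rw [mul_smul, sign_v44, b1, b2, perm_v44, v44_comm, v1]
    congr 1
  · rw [mul_smul, sign_v44, b1, b3, perm_v44, v44_comm, v2]
    congr 1

theorem half44 {i j k l : GolayPt} (hij : i ≠ j) (hkl : k ≠ l) {s t s' : ℤˣ} (t' : ℤˣ)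
    (h1 : s' * (v44 i j s t : Vec) k = 4) (h2 : (v44 i j s t : Vec) l = 0) :
    ∃ g ∈ Mon, g • v44 i j s t = v1 ∧ g • v44 k l s' t' = v2 := by
  rw [v44_apply] at h1 h2
  have a1 : l ≠ i := by
    rintro rfl
    rw [if_pos rfl, if_neg hij] at h2
    rcases Int.units_eq_one_or s with rfl | rfl <;> simp at h2
  have a2 : l ≠ j := by
    rintro rfl
    rw [if_pos rfl, if_neg hij.symm] at h2
    rcases Int.units_eq_one_or t with rfl | rfl <;> simp at h2
  by_cases e : k = i
  · subst e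
    rw [if_pos rfl, if_neg hij] at h1
    have : s' = s := by
      rcases Int.units_eq_one_or s with rfl | rfl <;> rcases Int.units_eq_one_or s' with rfl | rfl <;>
        simp at h1 ⊢
    subst this
    exact common hij hkl a2.symm _ _ _
  by_cases e' : k = j
  · subst e'
    rw [if_pos rfl, if_neg e] at h1
    have : s' = t := by
      rcases Int.units_eq_one_or t with rfl | rfl <;> rcases Int.units_eq_one_or s' with rfl | rfl <;>
        simp at h1 ⊢
    subst this
    rw [v44_comm i]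
    exact common hij.symm hkl a1.symm _ _ _
  · rw [if_neg e, if_neg e'] at h1
    simp at h1

theorem case44 (hu : T4 u) (hw : T4 w) (h16 : ip u w = 16) : ∃ g ∈ Mon, g • u = v1 ∧ g • w = v2 := by
  obtain ⟨i, j, s, t, hij, rfl⟩ := hu
  obtain ⟨k, l, s', t', hkl, rfl⟩ := hw
  rw [ip_v44] at h16
  have cs : ∀ x, (v44 i j s t : Vec) x = 0 ∨ (v44 i j s t : Vec) x = 4 ∨ (v44 i j s t : Vec) x = -4 := by
    intro x
    rw [v44_apply]
    by_cases a : x = i
    · rw [if_pos a, if_neg (a ▸ hij)]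
      rcases Int.units_eq_one_or s with rfl | rfl <;> simp
    · rw [if_neg a]
      rcases Int.units_eq_one_or t with rfl | rfl <;> split_ifs <;> simp
  have a := cs k
  have b := cs l
  have : (s' * (v44 i j s t : Vec) k = 4 ∧ (v44 i j s t : Vec) l = 0) ∨
      (t' * (v44 i j s t : Vec) l = 4 ∧ (v44 i j s t : Vec) k = 0) := by
    rcases Int.units_eq_one_or s' with rfl | rfl <;> rcases Int.units_eq_one_or t' with rfl | rfl <;>
      simp only [Units.val_one, Units.val_neg] at h16 ⊢ <;> omega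
  rcases this with ⟨c1, c2⟩ | ⟨c1, c2⟩
  · exact half44 hij hkl t' c1 c2
  · rw [v44_comm k]
    exact half44 hij hkl.symm s' c1 c2

theorem case48 (h : Nc u w (om, 0) N) (hu : T4 u) (hw : T8 w) (h16 : ip u w = 16) : False := by
  obtain ⟨i, j, s, t, hij, rfl⟩ := hu
  obtain ⟨o, ho, d, hd, h8, rfl⟩ := hw
  obtain ⟨N', h'⟩ := nc_mon h (sign_mem_Mon d hd)
  rw [← ip_smul (sign d hd)] at h16
  rw [sign_smul_sign, sign_v44] at h' h16
  generalize (if i ∈ d then -s else s) = s' at h' h16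
  generalize (if j ∈ d then -t else t) = t' at h' h16
  rw [ip_comm, ip_v44, two_apply, two_apply] at h16
  have : i ∈ o ∧ j ∈ o ∧ s' = 1 ∧ t' = 1 := by
    rcases Int.units_eq_one_or s' with rfl | rfl <;> rcases Int.units_eq_one_or t' with rfl | rfl <;>
      simp only [Units.val_one, Units.val_neg] at h16 <;> split_ifs at h16 with a b <;>
      first | omega | exact ⟨a, b, rfl, rfl⟩
  obtain ⟨a, b, rfl, rfl⟩ := this
  exact not_B ho h8 a b hij h'

theorem sub_union {o p d : Finset GolayPt} (ho : IsCode o) (h8 : o.card = 8) (k8 : p.card = 8)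
    (h4 : (o ∩ p).card = 4) (hd : IsCode d) (hs : d ⊆ o ∪ p) : d \ o = ∅ ∨ d \ o = p \ o := by
  have s1 : d \ o ⊆ p \ o := fun x hx => by
    have := hs (Finset.mem_sdiff.1 hx).1
    simp only [Finset.mem_sdiff, Finset.mem_union] at hx this ⊢
    tauto
  have c1 := Finset.card_sdiff_add_card_inter p o
  rw [Finset.inter_comm] at c1
  have c2 := Finset.card_le_card s1
  have c3 := Finset.card_sdiff_add_card_inter d o
  have c4 := Finset.card_sdiff_add_card_inter o d
  rw [Finset.inter_comm] at c4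
  have c5 : (d ∆ o).card = (d \ o).card + (o \ d).card := by
    rw [symmDiff_def, Finset.sup_eq_union, Finset.card_union_of_disjoint disjoint_sdiff_sdiff]
  have c6 := hd.card_cases
  have c7 := (hd.symmDiff ho).card_cases
  have : (d \ o).card = 0 ∨ (d \ o).card = 4 := by omega
  exact this.imp Finset.card_eq_zero.1 fun e => Finset.eq_of_subset_of_card_le s1 (by omega)

theorem case888' {o p q e f : Finset GolayPt} {ho : IsCode o} {hp : IsCode p} {hq : IsCode q}
    {he : IsCode e} {hf : IsCode f} (h8 : o.card = 8) (k8 : p.card = 8)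
    (h' : Nc (two o ho) (sign e he • two p hp) (om, 0) N)
    (hv' : two o ho - sign e he • two p hp = sign f hf • two q hq)
    (h16 : ip (two o ho) (sign e he • two p hp) = 16) : False := by
  have k1 : ∀ x ∈ o, x ∈ p → x ∉ e := fun x h1 h2 h3 => by
    have := congrArg (fun v : Λ => (v : Vec) x) hv'
    simp only [AddSubgroup.coe_sub, Pi.sub_apply, sign_apply, two_apply, if_pos h1, if_pos h2,
      if_pos h3] at this
    split_ifs at this <;> omega
  have h4 : (o ∩ p).card = 4 := by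
    rw [ip_comm, ip_two, Finset.sum_congr rfl (g := fun x => if x ∈ p then (2 : ℤ) else 0)
      fun x hx => by
        rw [sign_apply, two_apply]
        by_cases a : x ∈ p
        · rw [if_neg (k1 x hx a)]
        · simp [a], Finset.sum_ite_mem, Finset.sum_const, nsmul_eq_mul] at h16
    omega
  obtain ⟨g, hg, eg⟩ := exists_code_inter (s := o ∪ p) (t := e ∩ p)
    (Finset.inter_subset_right.trans Finset.subset_union_right) fun d hd hs => by
      rcases sub_union ho h8 k8 h4 hd hs with t | t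
      · have : d ∩ (e ∩ p) = ∅ := Finset.eq_empty_of_forall_notMem fun x hx => by
          simp only [Finset.mem_inter] at hx
          have := Finset.ext_iff.1 t x
          simp only [Finset.mem_sdiff, Finset.notMem_empty, iff_false, not_and, not_not] at this
          exact k1 x (this hx.1) hx.2.2 hx.2.1
        rw [this]; simp
      · have : d ∩ (e ∩ p) = e ∩ p := Finset.inter_eq_right.2 fun x hx => by
          simp only [Finset.mem_inter] at hx
          have := Finset.ext_iff.1 t x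
          simp only [Finset.mem_sdiff] at this
          exact (this.2 ⟨hx.2, fun a => k1 x a hx.2 hx.1⟩).1
        rw [this]; exact he.even_inter hp
  have k2 : ∀ x, (x ∈ g ∧ (x ∈ o ∨ x ∈ p)) ↔ (x ∈ e ∧ x ∈ p) := fun x => by
    simpa using Finset.ext_iff.1 eg x
  obtain ⟨N'', h''⟩ := nc_mon h' (sign_mem_Mon g hg)
  have a1 : sign g hg • two o ho = two o ho := Subtype.ext (funext fun x => by
    rw [sign_apply, two_apply]
    by_cases a : x ∈ o
    · rw [if_neg fun b => k1 x a ((k2 x).1 ⟨b, .inl a⟩).2 ((k2 x).1 ⟨b, .inl a⟩).1]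
    · simp [a])
  have a2 : sign g hg • sign e he • two p hp = two p hp := Subtype.ext (funext fun x => by
    rw [sign_apply, sign_apply, two_apply]
    by_cases a : x ∈ p
    · have : x ∈ g ↔ x ∈ e := by simpa [a] using k2 x
      by_cases b : x ∈ e <;> simp [this, b]
    · simp [a])
  rw [a1, a2] at h''
  exact not_C ho hp h8 k8 h4 h''

theorem case888 (h : Nc u w (om, 0) N) (hu : T8 u) (hw : T8 w) (hv : T8 (u - w))
    (h16 : ip u w = 16) : False := by
  obtain ⟨o, ho, d, hd, h8, rfl⟩ := hu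
  obtain ⟨p, hp, e0, he0, k8, rfl⟩ := hw
  obtain ⟨q, hq, f0, hf0, -, hv⟩ := hv
  obtain ⟨N', h'⟩ := nc_mon h (sign_mem_Mon d hd)
  rw [← ip_smul (sign d hd)] at h16
  have hv' := congrArg (sign d hd • ·) hv
  simp only [smul_sub] at hv'
  rw [sign_smul_sign, ← mul_smul, sign_mul_sign] at h' h16
  rw [sign_smul_sign, ← mul_smul, ← mul_smul, sign_mul_sign, sign_mul_sign] at hv'
  exact case888' h8 k8 h' hv' h16

theorem shape (h : Nc u w (om, 0) N) (hu : nm u = 32) (hw : nm w = 32) (h16 : ip u w = 16)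
    (p1 : pol (om, 0) (cls u) = 0) (p2 : pol (om, 0) (cls w) = 0) :
    ∃ g ∈ Mon, g • u = v1 ∧ g • w = v2 := by
  rcases types hu p1 with a | a <;> rcases types hw p2 with b | b
  · exact case44 a b h16
  · exact (case48 h a b h16).elim
  · exact (case48 (nc_swap h) b a (ip_comm u w ▸ h16)).elim
  · rcases types (v := u - w) (by rw [nm_sub, hu, hw, h16]; norm_num)
      (by rw [cls_sub, pol_add_right, p1, p2, add_zero]) with d | d
    · exact (case48 (nc_sub h) d a (by rw [ip_sub_left, ip_self, hu, ip_comm, h16]; norm_num)).elim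
    · exact (case888 h a b d h16).elim

theorem exists_long (c : LL) : ∃ r, InR r ∧ c + r ∉ ShS := by
  by_contra hn
  push Not at hn
  have a0 := hn 0 (.inl rfl)
  rw [add_zero] at a0
  obtain ⟨x, hx, rfl⟩ := mem_ShS.1 a0
  have a1 := (add_mem_ShS hx nm_v1).1 (hn _ (.inr (.inl rfl)))
  have a2 := (add_mem_ShS hx nm_v2).1 (hn _ (.inr (.inr (.inl rfl))))
  have a3 := (add_mem_ShS hx nm_v3).1 (cls_sub v1 v2 ▸ hn _ (.inr (.inr (.inr rfl))))
  rw [ip_sub_right] at a3
  omega

end PA

end Cfsg.Agent.E6R
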