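import Mathlib
import Cfsg.Agent.E6R.PB
import Cfsg.Agent.E6R.PC
import Cfsg.Agent.E6R.PA0

/-! E6R-PA: the class `c` is conjugate to `om`, and the standard group moves a class by a duad. -/

set_option autoImplicit false

namespace Cfsg.Agent.E6R

open Subgroup Cfsg.Agent.Spor Cfsg.Agent.Spor.Leech Cfsg.Agent.Spor.LC Cfsg.Agent.Gr Cfsg.Agent.Gr.Rk Cfsg.Agent.Gr.TriV
open scoped Pointwise symmDiff

namespace PA

variable {N : Subgroup Co0}

/-! ### The standard case -/

theorem fixv {d : Finset GolayPt} {hd : IsCode d} {σ : M24} {v : Λ}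
    (h : (sign d hd * perm σ) • v = v) (i : GolayPt) :
    (v : Vec) (σ.1 i) = if σ.1 i ∈ d then -(v : Vec) i else (v : Vec) i := by
  conv_lhs => rw [← h]
  rw [mul_smul, sign_apply, perm_apply']

theorem fix3 {d : Finset GolayPt} {hd : IsCode d} {σ : M24} (h1 : (sign d hd * perm σ) • v1 = v1)
    (h2 : (sign d hd * perm σ) • v2 = v2) :
    (σ.1 none = none ∧ σ.1 (some 0) = some 0 ∧ σ.1 (some 1) = some 1) ∧ Av d := by
  have a0 := fixv h1 (some 0)
  have a1 := fixv h1 none
  have b0 := fixv h2 (some 0)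
  have b1 := fixv h2 (some 1)
  simp only [v1, v2, v44_apply, if_neg p01, if_neg p01.symm, if_neg p12, if_neg p12.symm,
    if_true, Units.val_one, Units.val_neg] at a0 a1 b0 b1
  have e0 : σ.1 (some 0) = some 0 := by
    by_contra t
    rw [if_neg t] at a0 b0
    have u1 : σ.1 (some 0) = none := by by_contra t'; rw [if_neg t'] at a0; split_ifs at a0 <;> omega
    rw [u1, if_neg p02] at b0
    split_ifs at b0 <;> omega
  have n1 : σ.1 none ≠ some 0 := fun t => p01 (σ.1.injective (t.trans e0.symm))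
  have n2 : σ.1 (some 1) ≠ some 0 := fun t => p12.symm (σ.1.injective (t.trans e0.symm))
  rw [if_neg n1] at a1
  rw [if_neg n2] at b1
  have e1 : σ.1 none = none := by by_contra t'; rw [if_neg t'] at a1; split_ifs at a1 <;> omega
  have e2 : σ.1 (some 1) = some 1 := by by_contra t'; rw [if_neg t'] at b1; split_ifs at b1 <;> omega
  rw [e0, if_neg p01.symm, if_pos rfl] at a0
  rw [e1, if_pos rfl] at a1
  rw [e2, if_pos rfl] at b1
  refine ⟨⟨e1, e0, e2⟩, fun t => ?_, fun t => ?_, fun t => ?_⟩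
  · rw [if_pos t] at a1; omega
  · rw [if_pos t] at a0; omega
  · rw [if_pos t] at b1; omega

theorem le_Mon (h : Nc v1 v2 (om, 0) N) : N ≤ Mon := fun n hn => by
  rcases inR_short (h.stab n hn) with t | ⟨-, t⟩
  · exact mem_Mon_of_csm (ll_eq_of_add t)
  · rw [add_assoc, ll_add_self, add_zero, csm_mem] at t
    exact (om_not_mem t).elim

theorem exists_tau {p q : GolayPt} (hp : p ∉ ({none, some 0, some 1} : Finset GolayPt))
    (hq : q ∉ ({none, some 0, some 1} : Finset GolayPt)) :
    ∃ τ : M24, (τ.1 none = none ∧ τ.1 (some 0) = some 0 ∧ τ.1 (some 1) = some 1) ∧ τ.1 q = p := by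
  obtain ⟨τ, hτ, e⟩ := exists_M24_extend (s := {none, some 0, some 1, q})
    (Finset.card_le_four.trans (by norm_num)) (f := Equiv.swap q p) (Equiv.injective _).injOn
  simp only [Finset.mem_insert, Finset.mem_singleton, not_or] at hp hq
  refine ⟨⟨τ, hτ⟩, ⟨?_, ?_, ?_⟩, ?_⟩
  · exact (e _ (by simp)).trans (Equiv.swap_apply_of_ne_of_ne (Ne.symm hq.1) (Ne.symm hp.1))
  · exact (e _ (by simp)).trans (Equiv.swap_apply_of_ne_of_ne (Ne.symm hq.2.1) (Ne.symm hp.2.1))
  · exact (e _ (by simp)).trans (Equiv.swap_apply_of_ne_of_ne (Ne.symm hq.2.2) (Ne.symm hp.2.2))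
  · exact (e _ (by simp)).trans (Equiv.swap_apply_left _ _)

theorem conj_mem (h : Nc v1 v2 (om, 0) N) {τ : M24}
    (t : τ.1 none = none ∧ τ.1 (some 0) = some 0 ∧ τ.1 (some 1) = some 1)
    {d : Finset GolayPt} {hd : IsCode d} {σ : M24} (hn : sign d hd * perm σ ∈ N) :
    sign (τ.1 • d) (hd.smul τ.2) * perm (τ * σ * τ⁻¹) ∈ N := by
  have m := h.norm (perm τ) (by rw [v1, perm_v44, t.1, t.2.1]) (by rw [v2, perm_v44, t.2.2, t.2.1])
    (by rw [csm_om' (perm_mem_Mon τ), ll_add_self]; exact .inl rfl) _ hn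
  rw [← mul_assoc, perm_mul_sign] at m
  rw [map_mul, map_mul, map_inv]
  simpa only [mul_assoc] using m

theorem exists_fixed (h : Nc v1 v2 (om, 0) N) : ∃ p ∉ ({none, some 0, some 1} : Finset GolayPt),
    ∀ d hd (σ : M24), sign d hd * perm σ ∈ N → σ.1 p = p := by
  have : Fact (Nat.Prime 2) := ⟨Nat.prime_two⟩
  let π : N →* Equiv.Perm GolayPt := Std.proj.comp (Subgroup.inclusion (le_Mon h))
  have hπ : ∀ d hd (σ : M24) (m : sign d hd * perm σ ∈ N), π ⟨_, m⟩ = σ.1 := fun d hd σ m => by
    obtain ⟨k, d', hd', e⟩ := Std.proj_spec (Subgroup.inclusion (le_Mon h) ⟨_, m⟩)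
    exact (congrArg Subtype.val (sign_mul_perm_inj e).2).symm
  have hp : IsPGroup 2 N := fun g => ⟨1, Subtype.ext (by
    rw [pow_one, coe_pow, pow_two]; exact h.sq g g.2)⟩
  have hm := (hp.of_surjective _ π.rangeRestrict_surjective).card_modEq_card_fixedPoints GolayPt
  by_contra hn
  push Not at hn
  have e : MulAction.fixedPoints π.range GolayPt = (({none, some 0, some 1} : Finset GolayPt) : Set _) := by
    ext p
    constructor
    · intro hp
      by_contra t
      obtain ⟨d, hd, σ, m, ne⟩ := hn p t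
      exact ne (hπ d hd σ m ▸ hp ⟨_, ⟨_, m⟩, rfl⟩)
    · rintro hp ⟨_, ⟨n, hn⟩, rfl⟩
      obtain ⟨d, hd, σ, rfl⟩ := le_Mon h hn
      have := (fix3 (h.fix _ hn).1 (h.fix _ hn).2).1
      change π ⟨_, hn⟩ p = p
      rw [hπ]
      simp only [Finset.coe_insert, Finset.coe_singleton, Set.mem_insert_iff,
        Set.mem_singleton_iff] at hp
      rcases hp with rfl | rfl | rfl
      exacts [this.1, this.2.1, this.2.2]
  rw [e, Nat.card_eq_fintype_card, card_pt, Nat.card_coe_set_eq, Set.ncard_coe_finset] at hm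
  revert hm
  decide

theorem perm_one (h : Nc v1 v2 (om, 0) N) {d : Finset GolayPt} {hd : IsCode d} {σ : M24}
    (hn : sign d hd * perm σ ∈ N) : σ = 1 := by
  obtain ⟨p, hp, hf⟩ := exists_fixed h
  refine Subtype.ext (Equiv.ext fun q => ?_)
  change σ.1 q = q
  by_cases hq : q ∈ ({none, some 0, some 1} : Finset GolayPt)
  · have := (fix3 (h.fix _ hn).1 (h.fix _ hn).2).1
    simp only [Finset.mem_insert, Finset.mem_singleton] at hq
    rcases hq with rfl | rfl | rfl
    exacts [this.1, this.2.1, this.2.2]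
  · obtain ⟨τ, t, e⟩ := exists_tau hp hq
    have := hf _ _ _ (conj_mem h t hn)
    rw [← e] at this
    simp only [coe_mul, coe_inv, Equiv.Perm.mul_apply, Equiv.Perm.coe_inv,
      Equiv.symm_apply_apply] at this
    exact τ.1.injective this

theorem exists_four {d : Finset GolayPt} (hd : IsCode d) (ha : Av d) (hne : d.Nonempty) :
    ∃ o, IsCode o ∧ o.card = 8 ∧ ({none, some 0, some 1} : Finset GolayPt) ⊆ o ∧ (o ∩ d).card = 4 := by
  obtain ⟨p, hp⟩ := id hne
  have h8 := hd.eight_le hne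
  have cF : ({none, some 0, some 1, p} : Finset GolayPt).card = 4 := by
    have a1 : none ≠ p := fun t => ha.1 (t ▸ hp)
    have a2 : some 0 ≠ p := fun t => ha.2.1 (t ▸ hp)
    have a3 : some 1 ≠ p := fun t => ha.2.2 (t ▸ hp)
    rw [Finset.card_insert_of_notMem (by simp [a1]),
      Finset.card_insert_of_notMem (by simp [a2, z01]), Finset.card_pair a3]
  have ex : ∀ q : GolayPt, ∃ o, IsCode o ∧ o.card = 8 ∧
      insert q ({none, some 0, some 1, p} : Finset GolayPt) ⊆ o := fun q =>
    exists_octad_superset ((Finset.card_insert_le _ _).trans (by omega))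
  choose o o1 o2 o3 using ex
  have o4 : ∀ q, ({none, some 0, some 1, p} : Finset GolayPt) ⊆ o q := fun q =>
    (Finset.subset_insert _ _).trans (o3 q)
  have o5 : ∀ q, ({none, some 0, some 1} : Finset GolayPt) ⊆ o q := fun q =>
    Finset.Subset.trans (by intro x; simp only [Finset.mem_insert, Finset.mem_singleton]; tauto) (o4 q)
  by_contra hn
  have k : ∀ q, (o q ∩ d).card ≤ 2 := fun q => by
    have e1 := (o1 q).even_inter hd
    have e2 : (o q ∩ d).card ≠ 4 := fun t => hn ⟨o q, o1 q, o2 q, o5 q, t⟩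
    have e3 := Finset.card_sdiff_add_card_inter (o q) d
    have e4 : ({none, some 0, some 1} : Finset GolayPt) ⊆ o q \ d := fun x hx =>
      Finset.mem_sdiff.2 ⟨o5 q hx, by
        simp only [Finset.mem_insert, Finset.mem_singleton] at hx
        rcases hx with rfl | rfl | rfl
        exacts [ha.1, ha.2.1, ha.2.2]⟩
    have e5 := Finset.card_le_card e4
    rw [show ({none, some 0, some 1} : Finset GolayPt).card = 3 by decide] at e5
    have := o2 q
    obtain ⟨m, hm⟩ := e1
    omega
  have c1 : ((d.erase p).biUnion fun q => o q \ {none, some 0, some 1, p}).card =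
      ∑ q ∈ d.erase p, (o q \ {none, some 0, some 1, p}).card := by
    refine Finset.card_biUnion fun q hq q' hq' hne => ?_
    refine Finset.disjoint_left.2 fun x h1 h2 => ?_
    rw [Finset.mem_sdiff] at h1 h2
    have e : o q = o q' := octad_eq_of_five_le (o1 q) (o2 q) (o1 q') (o2 q') (by
      have : insert x ({none, some 0, some 1, p} : Finset GolayPt) ⊆ o q ∩ o q' :=
        Finset.insert_subset (Finset.mem_inter.2 ⟨h1.1, h2.1⟩) (Finset.subset_inter (o4 q) (o4 q'))
      have := Finset.card_le_card this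
      rwa [Finset.card_insert_of_notMem h1.2, cF] at this)
    have hq1 := Finset.mem_erase.1 (Finset.mem_coe.1 hq)
    have hq2 := Finset.mem_erase.1 (Finset.mem_coe.1 hq')
    have : ({p, q, q'} : Finset GolayPt) ⊆ o q ∩ d := by
      intro y hy
      simp only [Finset.mem_insert, Finset.mem_singleton] at hy
      rcases hy with rfl | rfl | rfl
      · exact Finset.mem_inter.2 ⟨o4 q (by simp), hp⟩
      · exact Finset.mem_inter.2 ⟨o3 _ (Finset.mem_insert_self _ _), hq1.2⟩
      · exact Finset.mem_inter.2 ⟨e ▸ o3 _ (Finset.mem_insert_self _ _), hq2.2⟩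
    have := (Finset.card_le_card this).trans (k q)
    rw [Finset.card_insert_of_notMem (by simp [hq1.1.symm, hq2.1.symm]), Finset.card_pair hne] at this
    omega
  rw [Finset.sum_congr rfl (g := fun _ => 4) fun q _ => by
    rw [Finset.card_sdiff_of_subset (o4 q), o2, cF], Finset.sum_const, Finset.card_erase_of_mem hp,
    smul_eq_mul] at c1
  have c2 := Finset.card_le_univ ((d.erase p).biUnion fun q => o q \ {none, some 0, some 1, p})
  rw [card_pt] at c2
  omega

theorem final {d o : Finset GolayPt} (hd : IsCode d) (ho : IsCode o)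
    (e : o \ d = {none, some 0, some 1, some 2}) : ∃ x : LL, pol x (cls v1) = 0 ∧
    pol x (cls v2) = 0 ∧ pol x (om, 0) = 0 ∧ (InR (csm (sign d hd) x + x + clB none (some 2)) ∨
      InR (csm (sign d hd) x + x + clB none (some 2) + (om, 0))) := by
  obtain ⟨D, rfl⟩ := exists_wd_of_isCode hd
  obtain ⟨O, rfl⟩ := exists_wd_of_isCode ho
  have k : ∀ x, (wd O x = 1 ∧ ¬ wd D x = 1) ↔ (x = none ∨ x = some 0 ∨ x = some 1 ∨ x = some 2) :=
    fun x => by simpa only [Finset.mem_sdiff, mem_supp, Finset.mem_insert, Finset.mem_singleton]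
      using Finset.ext_iff.1 e x
  have k0 := (k none).2 (by simp)
  have k1 := (k (some 0)).2 (by simp)
  have k2 := (k (some 1)).2 (by simp)
  have k3 := (k (some 2)).2 (by simp)
  have hs : sy (wd O * wd D) + sy (e2 none (some 2)) = sy (e2 (some 1) (some 0)) := by
    have : wd O * wd D + e2 none (some 2) = wd O + e2 (some 1) (some 0) := funext fun x => by
      simp only [Pi.add_apply, Pi.mul_apply, e2_apply]
      have z : ∀ a : ZMod 2, ¬ a = 1 → a = 0 := by decide
      by_cases t : x = none ∨ x = some 0 ∨ x = some 1 ∨ x = some 2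
      · rcases t with rfl | rfl | rfl | rfl
        · rw [k0.1, z _ k0.2]; decide
        · rw [k1.1, z _ k1.2]; decide
        · rw [k2.1, z _ k2.2]; decide
        · rw [k3.1, z _ k3.2]; decide
      · have t' := mt (k x).1 t
        push Not at t
        rw [if_neg t.1, if_neg t.2.1, if_neg t.2.2.1, if_neg t.2.2.2]
        revert t'
        generalize wd O x = a
        generalize wd D x = b
        revert a b
        decide
    rw [← map_add, this, map_add, sy_wd, zero_add]
  have hv : cls v2 = clB (some 1) (some 0) := (clB_eq_cls _ _).symm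
  refine ⟨cls (twoC O), ?_, ?_, ?_, ?_⟩
  · rw [pol_cls, bil_eq_zero_iff, ip_v1, twoC_apply, twoC_apply, k0.1, k1.1]; simp
  · rw [pol_cls, bil_eq_zero_iff, ip_v2, twoC_apply, twoC_apply, k2.1, k1.1]; simp
  · rw [pol_comm, Gr.pol_om, cls_twoC, th_dot_om]
  · change InR (csm (sgC D) _ + _ + _) ∨ InR (csm (sgC D) _ + _ + _ + _)
    rw [csm_cls, cls_sgC_twoC, add_comm (cls (twoC O) + _), ll_cancel]
    rcases z2_cases (q2 (wd O * wd D)) with t | t <;> rw [t]
    · refine .inl (.inr (.inr (.inl ?_)))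
      rw [hv, clB, clB, Prod.mk_add_mk, hs, zero_smul, add_zero]
    · refine .inr (.inr (.inr (.inl ?_)))
      rw [hv, clB, clB, Prod.mk_add_mk, Prod.mk_add_mk, hs, one_smul, add_zero, add_zero, cd_add_self]

end PA

open PA

theorem Nc.root {c : LL} {N : Subgroup Co0} (h : Nc v1 v2 c N) (q : qL c = 0) (h1 : pol c (cls v1) = 0)
    (h2 : pol c (cls v2) = 0) (n : ¬ InR c) : ∃ k ∈ UU, InR (csm k c + (om, 0)) := by
  obtain ⟨r, hr, hs⟩ := exists_long c
  have q' : qL (c + r) = 0 := by
    rw [qL_add, q, sp_pol h1 h2 hr, zero_add, add_zero]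
    exact (inR_v12 hr).qL
  have h0 : c + r ≠ 0 := fun t => n (ll_eq_of_add t ▸ hr)
  have p1 : pol (c + r) (cls v1) = 0 := by rw [pol_add_left, h1, v12_p1 (inR_v12 hr), add_zero]
  have p2 : pol (c + r) (cls v2) = 0 := by rw [pol_add_left, h2, v12_p2 (inR_v12 hr), add_zero]
  have hN := nc_add h hr
  obtain ⟨y, hy⟩ := cls_surjective (c + r)
  obtain ⟨x, m, hx⟩ := MT.exists_short' y
  rw [cls_eq_iff.2 m] at hy
  rw [← hy] at q' h0 hs p1 p2 hN
  rcases hx with hx | hx | hx | hx
  · exact (h0 (hx ▸ cls_zero)).elim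
  · exact (hs (cls_mem_ShS hx)).elim
  · rw [qL_cls, qd_eq (n := 3) (by rw [hx]; rfl)] at q'
    exact absurd q' (by decide)
  · obtain ⟨k, hk⟩ := exists_smul_eq_of_64 hx (nm_e8 none)
    have e : csm k (cls x) = (om, 0) := by rw [csm_cls, hk, cls_e8]
    have := nc_conj hN k
    rw [e] at this
    obtain ⟨g, hg, g1, g2⟩ := shape this (by rw [nm_smul, nm_v1]) (by rw [nm_smul, nm_v2])
      (by rw [ip_smul, ip_v1_v2]) (by rw [← e, ← csm_cls, pol_csm, p1])
      (by rw [← e, ← csm_cls, pol_csm, p2])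
    have hU : g * k ∈ UU := mem_St2.2 ⟨by rw [mul_smul, g1], by rw [mul_smul, g2]⟩
    refine ⟨g * k, hU, ?_⟩
    have e2 : csm (g * k) (c + r) = (om, 0) := by rw [← hy, csm_mul, e, csm_om' hg]
    rw [← e2, csm_add, ll_cancel, hr.csm hU]
    exact hr

theorem Nc.std {N : Subgroup Co0} (h : Nc v1 v2 (om, 0) N) : ∃ n ∈ N, ∃ x : LL, pol x (cls v1) = 0 ∧
    pol x (cls v2) = 0 ∧ pol x (om, 0) = 0 ∧ (InR (csm n x + x + clB none (some 2)) ∨
      InR (csm n x + x + clB none (some 2) + (om, 0))) := by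
  have hb : N ≠ ⊥ := fun t => by
    have := h.card
    rw [t, card_bot] at this
    omega
  obtain ⟨⟨n, hn⟩, n1⟩ := ne_bot_iff_exists_ne_one.1 hb
  obtain ⟨d, hd, σ, rfl⟩ := le_Mon h hn
  obtain rfl := perm_one h hn
  have ha := (fix3 (h.fix _ hn).1 (h.fix _ hn).2).2
  have hne : d.Nonempty := Finset.nonempty_iff_ne_empty.2 fun t => n1 (Subtype.ext (by
    subst t
    change sign ∅ hd * perm 1 = 1
    rw [map_one, mul_one, sign_empty]))
  obtain ⟨o, ho, h8, hs, h4⟩ := exists_four hd ha hne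
  have e4 : ({none, some 0, some 1} : Finset GolayPt) ⊆ o \ d := fun x hx =>
    Finset.mem_sdiff.2 ⟨hs hx, by
      simp only [Finset.mem_insert, Finset.mem_singleton] at hx
      rcases hx with rfl | rfl | rfl
      exacts [ha.1, ha.2.1, ha.2.2]⟩
  have c3 : ({none, some 0, some 1} : Finset GolayPt).card = 3 := by decide
  have c4 : (o \ d).card = 4 := by have := Finset.card_sdiff_add_card_inter o d; omega
  obtain ⟨r, hr, hr'⟩ := exists_mem_notMem (s := o \ d) (t := {none, some 0, some 1}) (by omega)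
  have e : o \ d = insert r {none, some 0, some 1} := (Finset.eq_of_subset_of_card_le
    (Finset.insert_subset hr e4) (by rw [Finset.card_insert_of_notMem hr']; omega)).symm
  obtain ⟨τ, t, et⟩ := exists_tau (p := some 2) (by decide) hr'
  have m := conj_mem h t hn
  rw [mul_one, mul_inv_cancel, map_one, mul_one] at m
  refine ⟨_, m, final _ (ho.smul τ.2) ?_⟩
  rw [← Finset.smul_finset_sdiff, e]
  simp only [Finset.smul_finset_insert, Finset.smul_finset_singleton, Equiv.Perm.smul_def, t.1,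
    t.2.1, t.2.2, et]
  decide

end Cfsg.Agent.E6R
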