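import Mathlib
import Cfsg.Agent.E6R.M0
import Cfsg.Agent.E6R.PA

/-! From subgroups with `Bg` in the model to subgroups with `Nc` in the Conway group. -/

set_option autoImplicit false

namespace Cfsg.Agent.E6R

open Subgroup Cfsg.Agent.Spor Cfsg.Agent.Spor.Leech Cfsg.Agent.Spor.LC Cfsg.Agent.Gr Cfsg.Agent.Gr.Rk Cfsg.Agent.Gr.TriV

namespace PP

theorem mem_V4 {X : Type*} [Group X] {z p x : X} (hz : z * z = 1) (hp : p * p = 1) (c : z * p = p * z)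
    (hx : x ∈ V4 z p) : Eqv z x 1 ∨ Eqv z x p := by
  rcases (mem_closure_pair_iff_four hz hp c).1 hx with m | m | m | m
  exacts [.inl (.inl m), .inl (.inr (m.trans (mul_one _).symm)), .inr (.inl m), .inr (.inr m)]

theorem card_map {X A : Type*} [Group X] [Group A] [Finite X] {C Y Q : Subgroup X} {π : C →* A} (hY : Y ≤ C)
    (k : ∀ x, π x = 1 ↔ x.1 ∈ Q) {n : ℕ} (h : n * Nat.card ↥(Y ⊓ Q) ≤ Nat.card Y) :
    n ≤ Nat.card ((Y.subgroupOf C).map π) := by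
  have c1 := MT.card_eq_ker_mul π (Y.subgroupOf C)
  have c2 : π.ker ⊓ Y.subgroupOf C = (Y ⊓ Q).subgroupOf C := by
    ext x
    rw [mem_inf, MonoidHom.mem_ker, k, and_comm]
    rfl
  rw [c2, Nat.card_congr (subgroupOfEquivOfLe hY).toEquiv,
    Nat.card_congr (subgroupOfEquivOfLe (inf_le_left.trans hY)).toEquiv] at c1
  rw [c1, mul_comm] at h
  exact Nat.le_of_mul_le_mul_left h Nat.card_pos

/-- An element of `SS` inside `CE`. -/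
noncomputable abbrev iS (x : SS) : CE := ⟨x, SS_le_CE x.2⟩

theorem conj_qE (x : SS) (e : ZMod 2) {c : LL} (h1 : pol c (cls v1) = 0) (h2 : pol c (cls v2) = 0) :
    ∃ f k1 k2, iS x * qE e c h1 h2 * (iS x)⁻¹ = qE f (csm (thU x) c) k1 k2 := by
  obtain ⟨f, hf⟩ := thU_spec x e c
  have m : tq f (csm (thU x) c) ∈ SS := hf ▸ mul_mem (mul_mem x.2 (tq_mem_SS.2 ⟨h1, h2⟩)) (inv_mem x.2)
  exact ⟨f, (tq_mem_SS.1 m).1, (tq_mem_SS.1 m).2, Subtype.ext hf⟩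

theorem qE_mul (e f : ZMod 2) {c d : LL} (h1 : pol c (cls v1) = 0) (h2 : pol c (cls v2) = 0)
    (k1 : pol d (cls v1) = 0) (k2 : pol d (cls v2) = 0) :
    ∃ g l1 l2, qE e c h1 h2 * qE f d k1 k2 = qE g (c + d) l1 l2 := by
  have m : tq _ (c + d) ∈ SS := tq_mul e f c d ▸ mul_mem (tq_mem_SS.2 ⟨h1, h2⟩) (tq_mem_SS.2 ⟨k1, k2⟩)
  exact ⟨_, (tq_mem_SS.1 m).1, (tq_mem_SS.1 m).2, Subtype.ext (tq_mul e f c d)⟩

theorem comm_qE (x : SS) (e : ZMod 2) {c : LL} (h1 : pol c (cls v1) = 0) (h2 : pol c (cls v2) = 0) :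
    ∃ f k1 k2, iS x * qE e c h1 h2 * (iS x)⁻¹ * (qE e c h1 h2)⁻¹ = qE f (csm (thU x) c + c) k1 k2 := by
  obtain ⟨f, k1, k2, hf⟩ := conj_qE x e h1 h2
  obtain ⟨g, l1, l2, hg⟩ := qE_mul f (e + qL c) k1 k2 h1 h2
  exact ⟨g, l1, l2, by rw [hf, ← hg]; exact congrArg _ (Subtype.ext (ActH.tq_inv e c))⟩

variable {X : Type*} [Group X] {ψ : CE →* X} (h : Mo ψ)
include h

theorem inR_iff {e : ZMod 2} {c : LL} {h1 h2} : Eqv (ψ zE) (ψ (qE e c h1 h2)) 1 ↔ InR c := by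
  rw [← map_one ψ, show (1 : CE) = qE 0 0 (pol_zero_left _) (pol_zero_left _) from Subtype.ext tq_zero.symm,
    h.qE_eqv, add_zero]

theorem exists_sign {c d : LL} (r : InR (c + d)) (h1 h2 k1 k2) (e : ZMod 2) :
    ∃ f, ψ (qE f c h1 h2) = ψ (qE e d k1 k2) := by
  rcases (h.qE_eqv (e := 0) (f := e) (h1 := h1) (h2 := h2) (k1 := k1) (k2 := k2)).2 r with m | m
  · exact ⟨0, m⟩
  · refine ⟨0 + 1, ?_⟩
    rw [show qE (0 + 1) c h1 h2 = zE * qE 0 c h1 h2 from Subtype.ext (zz_mul_tq 0 c).symm, map_mul, m,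
      ← mul_assoc, h.es.z_sq, one_mul]

theorem exists_conj {k : Co0} (hk : k ∈ UU) {c d : LL} (n : ¬ InR c) (r : InR (csm k c + d)) (h1 h2 k1 k2)
    (e f : ZMod 2) : ∃ x : SS, (thU x : Co0) = k ∧
      ψ (iS x) * ψ (qE e c h1 h2) * (ψ (iS x))⁻¹ = ψ (qE f d k1 k2) := by
  obtain ⟨x, rfl⟩ := thU_surjective ⟨k, hk⟩ |>.imp fun x hx => congrArg Subtype.val hx
  obtain ⟨-, l1, l2, -⟩ := conj_qE x e h1 h2
  obtain ⟨g, hg⟩ := exists_sign h r l1 l2 k1 k2 f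
  obtain ⟨y, hy, m⟩ := exists_lift hk n e g
  refine ⟨y, hy, ?_⟩
  rw [← hg, ← map_inv, ← map_mul, ← map_mul]
  exact congrArg ψ (Subtype.ext m)

theorem not_inR {e : ZMod 2} {c : LL} {h1 h2} {Y : Subgroup X}
    (b : Bg (QX ψ) (ψ zE) (ψ (qE e c h1 h2)) Y) : ¬ InR c := fun r =>
  ((inR_iff h).2 r).elim b.p1 fun m => b.pz (m.trans (mul_one _))

theorem comm_mem {e : ZMod 2} {c : LL} {h1 h2} {Y : Subgroup X}
    (b : Bg (QX ψ) (ψ zE) (ψ (qE e c h1 h2)) Y) {y : SS} (hy : ψ (iS y) ∈ Y) {x : LL} (x1 : pol x (cls v1) = 0)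
    (x2 : pol x (cls v2) = 0) (x3 : pol x c = 0) : ∃ f k1 k2, ψ (qE f (csm (thU y) x + x) k1 k2) ∈ Y := by
  obtain ⟨f, k1, k2, hf⟩ := comm_qE y 0 x1 x2
  refine ⟨f, k1, k2, ?_⟩
  rw [← hf, map_mul, map_mul, map_mul, map_inv, map_inv]
  exact b.cm1 _ hy _ (h.mem_QX_iff.2 ⟨_, _, rfl⟩) (h.qE_comm.2 x3).symm

theorem exists_Nc {e : ZMod 2} {c : LL} {h1 h2} {Y : Subgroup X}
    (b : Bg (QX ψ) (ψ zE) (ψ (qE e c h1 h2)) Y) :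
    ∃ N, Nc v1 v2 c N ∧ ∀ n ∈ N, ∃ y : SS, ψ (iS y) ∈ Y ∧ (thU y : Co0) = n := by
  have := h.finite
  obtain ⟨π, -, p1, p2⟩ := h.exists_pi
  have hY : Y ≤ centralizer {ψ zE} := fun y hy => mem_centralizer_singleton_iff.2 (b.cen y hy).1.symm
  obtain ⟨N, hN, cN⟩ : ∃ N : Subgroup Co0, (∀ n, n ∈ N ↔ ∃ y : SS, ψ (iS y) ∈ Y ∧ (thU y : Co0) = n) ∧
      2 ^ 8 ≤ Nat.card N := by
    refine ⟨(Y.subgroupOf _).map (UU.subtype.comp π), fun n => ⟨?_, ?_⟩, ?_⟩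
    · rintro ⟨⟨y, hy⟩, m, rfl⟩
      obtain ⟨x, rfl⟩ := h.lift (b.cen y m).1
      exact ⟨x, m, congrArg Subtype.val (p2 x hy).symm⟩
    · rintro ⟨x, m, rfl⟩
      exact ⟨⟨_, hY m⟩, m, congrArg Subtype.val (p2 x _)⟩
    · exact card_map hY (fun x => (map_eq_one_iff _ UU.subtype_injective).trans (p1 x)) b.card
  refine ⟨N, ⟨cN, ?_, ?_, ?_, ?_, ?_⟩, fun n hn => (hN n).1 hn⟩
  · intro n hn
    obtain ⟨y, -, rfl⟩ := (hN n).1 hn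
    exact (thU y).2
  · intro n hn
    obtain ⟨y, hy, rfl⟩ := (hN n).1 hn
    obtain ⟨f, k1, k2, hf⟩ := conj_qE y e h1 h2
    refine (h.qE_eqv (e := f) (f := e) (h1 := k1) (h2 := k2) (k1 := h1) (k2 := h2)).1 (.inl ?_)
    rw [← hf, map_mul, map_mul, map_inv, ← (b.cen _ hy).2, mul_inv_cancel_right]
  · intro n hn
    obtain ⟨y, hy, rfl⟩ := (hN n).1 hn
    have := b.sq _ hy
    rw [← map_mul, h.mem_QX_iff] at this
    rw [← coe_mul, ← map_mul, (thU_eq_one (x := y * y)).2 this, coe_one]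
  · intro k k1 k2 r n hn
    obtain ⟨y, hy, rfl⟩ := (hN n).1 hn
    obtain ⟨x, rfl, m⟩ := exists_conj h (k := k) ⟨k1, k2⟩ (not_inR h b) r h1 h2 h1 h2 e e
    refine (hN _).2 ⟨x * y * x⁻¹, ?_, by simp⟩
    rw [show iS (x * y * x⁻¹) = iS x * iS y * (iS x)⁻¹ from rfl, map_mul, map_mul, map_inv]
    exact b.norm _ (h.comm_z x) (mul_inv_eq_iff_eq_mul.1 m).symm _ hy
  · intro x x1 x2 x3 n hn m hm
    obtain ⟨y, hy, rfl⟩ := (hN n).1 hn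
    obtain ⟨u, hu, rfl⟩ := (hN m).1 hm
    obtain ⟨f, k1, k2, hf⟩ := comm_mem h b hy x1 x2 x3
    obtain ⟨g, l1, l2, hg⟩ := comm_qE u f k1 k2
    have := b.cm2 _ hu _ ⟨hf, h.mem_QX_iff.2 ⟨_, _, rfl⟩⟩
    rw [← map_inv, ← map_inv, ← map_mul, ← map_mul, ← map_mul, hg] at this
    exact (mem_V4 h.es.z_sq b.p2 (h.es.z_comm _ b.pQ) this).imp (inR_iff h).1 h.qE_eqv.1

end PP

variable {X : Type*} [Group X] {ψ : CE →* X}

theorem Mo.big1 (h : Mo ψ) {p : X} {Y : Subgroup X} (b : Bg (QX ψ) (ψ zE) p Y) :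
    ∃ k, ψ zE * k = k * ψ zE ∧ k * p * k⁻¹ = ψ oE := by
  obtain ⟨e, c, h1, h2, rfl⟩ := h.exists_qE b.pQ
  obtain ⟨N, hN, -⟩ := PP.exists_Nc h b
  obtain ⟨k, hk, r⟩ := hN.root (h.qE_sq.1 b.p2) h1 h2 (PP.not_inR h b)
  obtain ⟨x, -, m⟩ := PP.exists_conj h hk (PP.not_inR h b) r h1 h2 (v12_p1 v12_om) (v12_p2 v12_om) e 1
  exact ⟨_, h.comm_z x, m⟩

theorem Mo.big2 (h : Mo ψ) {Y : Subgroup X} (b : Bg (QX ψ) (ψ zE) (ψ oE) Y) : ψ wE ∈ Y := by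
  obtain ⟨N, hN, k⟩ := PP.exists_Nc h b
  obtain ⟨n, hn, x, x1, x2, x3, r⟩ := hN.std
  obtain ⟨y, hy, rfl⟩ := k n hn
  obtain ⟨f, k1, k2, hf⟩ := PP.comm_mem h b hy x1 x2 x3
  obtain ⟨g, l1, l2, hg⟩ := PP.qE_mul f 0 k1 k2 (v12_p1 (v12_clB none (some 2))) (v12_p2 (v12_clB _ _))
  have m := (h.qE_mem_V (e := g) (h1 := l1) (h2 := l2)).2 r
  rw [← hg, map_mul] at m
  refine (mul_mem_cancel_left hf).1 ((closure_le _).2 ?_ m)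
  rintro _ (rfl | rfl)
  exacts [b.zY, b.pY]

end Cfsg.Agent.E6R
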