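import Mathlib
import Cfsg.Agent.E6R.Defs
import Cfsg.Agent.Chev.BN
import Cfsg.Agent.S0311

/-! A group with a BN-pair is the universal completion of its parabolic subgroups of rank at most two. -/

set_option autoImplicit false

namespace Cfsg.Agent.E6R

open Subgroup Cfsg.BNPair

variable {X G : Type*} [Group X] [Group G]

theorem Gf.exists_hom {K : Subgroup (X × G)} (h : Gf K) (on : ∀ x, ∃ y, (x, y) ∈ K) :
    ∃ φ : X →* G, ∀ p ∈ K, φ p.1 = p.2 :=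
  ⟨MonoidHom.mk' (fun x => (on x).choose) fun a b => h.eq (on _).choose_spec
    (mul_mem (on a).choose_spec (on b).choose_spec), fun p hp => h.eq (on _).choose_spec hp⟩

section

variable {P : BNPair X} {Bt : Subgroup (X × G)} {σ : X → G}

theorem bn_conj (s : P.S) {b : X} (hb : b ∈ P.B) {x y : X} (hx : x ∈ P.cell (P.simple s))
    (hy : y ∈ P.cell (P.simple s)) : x * b * y ∈ P.B ∨ x * b * y ∈ P.cell (P.simple s) := by
  rcases mul_simple_mem_or (mem_cell_mul hx hb) hy with e | e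
  · exact .inl (mem_cell_one.1 (P.simple_mul_self s ▸ e))
  · exact .inr e

theorem bn_inv (s : P.S) : (s : X)⁻¹ ∈ P.cell (P.simple s) := inv_simple s ▸ inv_mem_cell (coe_mem_cell_simple s)

theorem bn_in (on : ∀ b ∈ P.B, ∃ y, (b, y) ∈ Bt) {Γ : Subgroup (X × G)} (g : Gf Γ) (le : Bt ≤ Γ) {p : X × G}
    (hp : p ∈ Γ) (hb : p.1 ∈ P.B) : p ∈ Bt :=
  let ⟨y, e⟩ := on _ hb; (show (p.1, y) = p from Prod.ext rfl (g.eq (le e) hp)) ▸ e

theorem bn_weyl (hB : ∀ p ∈ Bt, p.1 ∈ P.B) (on : ∀ b ∈ P.B, ∃ y, (b, y) ∈ Bt)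
    (loc : ∀ s ∈ P.S, ∃ Γ, Gf Γ ∧ Bt ≤ Γ ∧ (s, σ s) ∈ Γ)
    (br : ∀ s ∈ P.S, ∀ t ∈ P.S, ∀ m : ℕ, (s * t) ^ m ∈ P.B → ((s, σ s) * (t, σ t)) ^ m ∈ Bt) :
    ∃ Nt : Subgroup (X × G), (∀ p ∈ Nt, p.1 ∈ P.N) ∧ (∀ s ∈ P.S, (s, σ s) ∈ Nt) ∧
      ∀ p ∈ Nt, p.1 ∈ P.B → p ∈ Bt := by
  let Ht := Bt ⊓ P.N.comap (MonoidHom.fst X G)
  let M := normalizer (Ht : Set (X × G))
  have hM : ∀ s : P.S, ((s : X), σ s) ∈ M := fun s => by
    obtain ⟨Γ, g, le, hs⟩ := loc s s.2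
    have k : ∀ p ∈ Γ, p.1 ∈ P.N → ∀ h ∈ Ht, p * h * p⁻¹ ∈ Ht := fun p hp hn h hh =>
      ⟨bn_in on g le (mul_mem (mul_mem hp (le hh.1)) (inv_mem hp)) (P.conj_mem _ hn _ ⟨hB _ hh.1, hh.2⟩),
        P.N.mul_mem (P.N.mul_mem hn hh.2) (P.N.inv_mem hn)⟩
    exact mem_normalizer_iff.2 fun h => ⟨k _ hs (P.subset s.2) h, fun a => by
      convert k _ (inv_mem hs) (P.N.inv_mem (P.subset s.2)) _ a using 1
      group⟩
  let f := QuotientGroup.mk' (Ht.subgroupOf M)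
  have fk : ∀ x : M, f x = 1 ↔ x.1 ∈ Ht := fun x => QuotientGroup.eq_one_iff x
  have lf : P.coxM.IsLiftable fun s => f ⟨_, hM s⟩ := fun s t => by
    rw [← map_mul, ← map_pow, fk]
    refine ⟨br s s.2 t t.2 _ ((P.toW_eq_one_iff (n := (P.repN s * P.repN t) ^ P.coxM s t)).1 ?_),
      P.N.pow_mem (P.N.mul_mem (P.subset s.2) (P.subset t.2)) _⟩
    rw [map_pow, map_mul, toW_repN, toW_repN, coxM_apply, pow_orderOf_eq_one]
  let ω := P.cs.lift ⟨_, lf⟩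
  refine ⟨{ carrier := {p | ∃ (h : p ∈ M) (h' : p.1 ∈ P.N), f ⟨p, h⟩ = ω (P.toW ⟨p.1, h'⟩)}
            one_mem' := ⟨one_mem _, one_mem _, (map_one f).trans ((map_one ω).symm.trans
              (congrArg ω (map_one P.toW).symm))⟩
            mul_mem' := by
              rintro a b ⟨a1, a2, a3⟩ ⟨b1, b2, b3⟩
              refine ⟨mul_mem a1 b1, mul_mem a2 b2, ?_⟩
              rw [← MulMemClass.mk_mul_mk _ _ _ a1 b1, map_mul, a3, b3, ← map_mul, ← map_mul]; rfl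
            inv_mem' := by
              rintro a ⟨a1, a2, a3⟩
              refine ⟨inv_mem a1, inv_mem a2, ?_⟩
              rw [show (⟨a⁻¹, inv_mem a1⟩ : M) = (⟨a, a1⟩ : M)⁻¹ from rfl, map_inv, a3, ← map_inv, ← map_inv]
              rfl }, fun p hp => hp.2.1, fun s hs => ⟨hM ⟨s, hs⟩, P.subset hs, ?_⟩, fun p hp hb => ?_⟩
  · exact (P.cs.lift_apply_simple lf ⟨s, hs⟩).symm.trans (congrArg ω ((P.cs_simple _).trans (P.toW_repN _).symm))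
  · obtain ⟨a1, a2, a3⟩ := hp
    rw [P.toW_eq_one_iff.2 hb, map_one, fk] at a3
    exact a3.1

variable {Nt : Subgroup (X × G)} (hB : ∀ p ∈ Bt, p.1 ∈ P.B) (on : ∀ b ∈ P.B, ∃ y, (b, y) ∈ Bt)
  (loc : ∀ s ∈ P.S, ∃ Γ, Gf Γ ∧ Bt ≤ Γ ∧ (s, σ s) ∈ Γ) (n1 : ∀ p ∈ Nt, p.1 ∈ P.N)
  (n2 : ∀ s ∈ P.S, (s, σ s) ∈ Nt) (n3 : ∀ p ∈ Nt, p.1 ∈ P.B → p ∈ Bt)
include hB on loc n1 n2 n3

theorem bn_key (l : ℕ) : ∀ n (hn : n ∈ Nt), P.cs.length (P.toW ⟨n.1, n1 n hn⟩) = l → ∀ b ∈ Bt,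
    (n⁻¹ * b * n).1 ∈ P.B → n⁻¹ * b * n ∈ Bt := by
  induction l using Nat.strong_induction_on with
  | _ l ih =>
    intro n hn hl b hb k
    by_cases e : P.toW ⟨n.1, n1 n hn⟩ = 1
    · have := n3 n hn (P.toW_eq_one_iff.1 e)
      exact mul_mem (mul_mem (inv_mem this) hb) this
    obtain ⟨s, hs⟩ := P.cs.exists_leftDescent_of_ne_one e
    obtain ⟨Γ, g, le, sΓ⟩ := loc s s.2
    have hn' := mul_mem (inv_mem (n2 s s.2)) hn
    have e' : P.toW ⟨_, n1 _ hn'⟩ = P.simple s * P.toW ⟨n.1, n1 n hn⟩ := by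
      rw [← inv_simple, ← toW_repN, ← map_inv, ← map_mul]; rfl
    rcases bn_conj s (hB b hb) (bn_inv s) (coe_mem_cell_simple s) with o | o
    · have := ih _ (by rw [← hl, e', ← cs_simple]; exact hs) _ hn' rfl _
        (bn_in on g le (mul_mem (mul_mem (inv_mem sΓ) (le hb)) sΓ) o) (by convert k using 2; group)
      convert this using 1
      group
    · have k1 := simple_mul_mem (w := P.simple s * P.toW ⟨n.1, n1 n hn⟩)
        (by rw [← cs_simple]; exact P.cs.isLeftDescent_iff_not_isLeftDescent_mul.1 hs) o (coe_mem_cell e')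
      have k2 := mem_cell_mul (coe_mem_cell e') k
      refine (simple_mul_ne s _ (eq_of_mem_cell k1 ?_)).elim
      convert k2 using 1
      simp [mul_assoc]

theorem bn_step {s : P.S} {b n : X × G} (hb : b ∈ Bt) (hn : n ∈ Nt) :
    ∃ c ∈ Bt, ∃ m ∈ Nt, ∃ d ∈ Bt, ((s : X), σ s) * b * n = c * m * d := by
  obtain ⟨Γ, g, le, sΓ⟩ := loc s s.2
  have up : ∀ b ∈ Bt, ∀ n (hn : n ∈ Nt), ¬ P.cs.IsLeftDescent (P.toW ⟨n.1, n1 n hn⟩) s →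
      ∃ c ∈ Bt, ∃ m ∈ Nt, ∃ d ∈ Bt, ((s : X), σ s) * b * n = c * m * d := fun b hb n hn hs => by
    have bn := mul_mem_cell (hB b hb) (coe_mem_cell (n := ⟨n.1, n1 n hn⟩) rfl)
    obtain ⟨c, hc, d, hd, e⟩ := (mem_cell_iff (n := P.repN s * ⟨n.1, n1 n hn⟩) (by rw [map_mul, toW_repN])).1
      (simple_mul_mem hs (coe_mem_cell_simple s) bn)
    change (s : X) * (b.1 * n.1) = c * (s * n.1) * d at e
    have e1 : (s : X)⁻¹ * c⁻¹ * s * (b.1 * n.1) = n.1 * d := by rw [mul_assoc, e]; group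
    have k : (s : X)⁻¹ * c⁻¹ * s ∈ P.B := (bn_conj s (inv_mem hc) (bn_inv s) (coe_mem_cell_simple s)).resolve_right
      fun o => simple_mul_ne s _ (eq_of_mem_cell (simple_mul_mem hs o bn)
        (e1 ▸ mem_cell_mul (coe_mem_cell (n := ⟨n.1, n1 n hn⟩) rfl) hd))
    obtain ⟨y, hy⟩ := on _ k
    refine ⟨_, bn_in on g le (mul_mem (mul_mem sΓ (le (inv_mem hy))) (inv_mem sΓ)) (by simpa [mul_assoc] using hc),
      _, mul_mem (n2 s s.2) hn, _, bn_key hB on loc n1 n2 n3 _ n hn rfl _ (mul_mem hy hb) ?_, by group⟩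
    change n.1⁻¹ * ((s : X)⁻¹ * c⁻¹ * s * b.1) * n.1 ∈ P.B
    rwa [mul_assoc, mul_assoc, e1, inv_mul_cancel_left]
  by_cases hs : P.cs.IsLeftDescent (P.toW ⟨n.1, n1 n hn⟩) s
  swap
  · exact up b hb n hn hs
  have hn' := mul_mem (inv_mem (n2 s s.2)) hn
  have e' : P.toW ⟨_, n1 _ hn'⟩ = P.simple s * P.toW ⟨n.1, n1 n hn⟩ := by
    rw [← inv_simple, ← toW_repN, ← map_inv, ← map_mul]; rfl
  have gΓ := mul_mem (mul_mem sΓ (le hb)) sΓ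
  rcases bn_conj s (hB b hb) (coe_mem_cell_simple s) (coe_mem_cell_simple s) with o | o
  · exact ⟨_, bn_in on g le gΓ o, _, hn', 1, one_mem _, by group⟩
  · obtain ⟨c, hc, d, hd, e⟩ := (mem_cell_iff (P.toW_repN s)).1 o
    obtain ⟨u, hu⟩ := on c hc
    obtain ⟨v, hv⟩ := on d hd
    have e2 : ((s : X), σ s) * b * ((s : X), σ s) = (c, u) * ((s : X), σ s) * (d, v) :=
      Prod.ext e (g.eq (x := c * s * d) (e ▸ gΓ) (mul_mem (mul_mem (le hu) sΓ) (le hv)))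
    obtain ⟨c', hc', m, hm, d', hd', e3⟩ := up _ hv _ hn' (by
      rw [e', ← cs_simple]; exact P.cs.isLeftDescent_iff_not_isLeftDescent_mul.1 hs)
    refine ⟨_, mul_mem hu hc', m, hm, d', hd', ?_⟩
    calc _ = ((s : X), σ s) * b * ((s : X), σ s) * (((s : X), σ s)⁻¹ * n) := by group
      _ = (c, u) * (((s : X), σ s) * (d, v) * (((s : X), σ s)⁻¹ * n)) := by rw [e2]; group
      _ = _ := by rw [e3]; group

theorem bn_gf (gf : Gf Bt) : ∃ K : Subgroup (X × G), Gf K ∧ Bt ≤ K ∧ ∀ s ∈ P.S, (s, σ s) ∈ K := by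
  let Ω : Set (X × G) := {p | ∃ c ∈ Bt, ∃ m ∈ Nt, ∃ d ∈ Bt, p = c * m * d}
  have k1 : ∀ b ∈ Bt, ∀ p ∈ Ω, b * p ∈ Ω := by
    rintro b hb _ ⟨c, hc, m, hm, d, hd, rfl⟩
    exact ⟨_, mul_mem hb hc, m, hm, d, hd, by group⟩
  have k2 : ∀ s ∈ P.S, ∀ p ∈ Ω, (s, σ s) * p ∈ Ω := by
    rintro s hs _ ⟨c, hc, m, hm, d, hd, rfl⟩
    obtain ⟨c', hc', m', hm', d', hd', e⟩ := bn_step hB on loc n1 n2 n3 (s := ⟨s, hs⟩) hc hm
    exact ⟨c', hc', m', hm', _, mul_mem hd' hd, by rw [← mul_assoc, ← mul_assoc, e, mul_assoc]⟩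
  refine ⟨{ carrier := {g | ∀ p ∈ Ω, g * p ∈ Ω ∧ g⁻¹ * p ∈ Ω}
            one_mem' := fun p hp => by simpa using hp
            mul_mem' := fun {a b} ha hb p hp => by
              rw [mul_inv_rev, mul_assoc, mul_assoc]
              exact ⟨(ha _ (hb p hp).1).1, (hb _ (ha p hp).2).2⟩
            inv_mem' := fun {a} ha p hp => by rw [inv_inv]; exact (ha p hp).symm }, fun y hy => ?_,
    fun b hb p hp => ⟨k1 b hb p hp, k1 _ (inv_mem hb) p hp⟩, fun s hs p hp => ⟨k2 s hs p hp, ?_⟩⟩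
  · obtain ⟨c, hc, m, hm, d, hd, e⟩ := (hy 1 ⟨1, one_mem _, 1, one_mem _, 1, one_mem _, by simp⟩).1
    rw [mul_one] at e
    refine gf y (e ▸ mul_mem (mul_mem hc (n3 m hm ?_)) hd)
    rw [show m.1 = c.1⁻¹ * (c * m * d).1 * d.1⁻¹ by simp [mul_assoc], ← e]
    exact mul_mem (mul_mem (inv_mem (hB c hc)) (one_mem _)) (inv_mem (hB d hd))
  · convert k1 _ (inv_mem (n3 _ (mul_mem (n2 s hs) (n2 s hs)) (P.sq_mem s hs))) _ (k2 s hs p hp) using 1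
    group

end

/-- Tits: a group with a BN-pair is the universal completion of its parabolic subgroups of rank at most two. -/
theorem exists_hom {X G : Type*} [Group X] [Group G] (P : BNPair X) (Bt : Subgroup (X × G)) (gf : Gf Bt)
    (hB : ∀ p ∈ Bt, p.1 ∈ P.B) (on : ∀ b ∈ P.B, ∃ y, (b, y) ∈ Bt) (σ : X → G)
    (loc : ∀ s ∈ P.S, ∃ Γ, Gf Γ ∧ Bt ≤ Γ ∧ (s, σ s) ∈ Γ)
    (br : ∀ s ∈ P.S, ∀ t ∈ P.S, ∀ m : ℕ, (s * t) ^ m ∈ P.B → ((s, σ s) * (t, σ t)) ^ m ∈ Bt) :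
    ∃ φ : X →* G, ∀ Γ, Gf Γ → Bt ≤ Γ → (∀ s ∈ P.S, ∀ y, (s, y) ∈ Γ → (s, σ s) ∈ Γ) →
      ∀ p ∈ Γ, φ p.1 = p.2 := by
  obtain ⟨Nt, n1, n2, n3⟩ := bn_weyl hB on loc br
  obtain ⟨K, k1, k2, k3⟩ := bn_gf hB on loc n1 n2 n3 gf
  have hb : ∀ {Γ : Subgroup (X × G)}, Bt ≤ Γ → P.B ≤ Γ.map (MonoidHom.fst X G) := fun le b hb =>
    let ⟨_, e⟩ := on b hb; ⟨_, le e, rfl⟩
  obtain ⟨φ, hφ⟩ := k1.exists_hom fun x => by
    have : ⊤ ≤ K.map (MonoidHom.fst X G) := by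
      rw [← P.sup_eq_top, ← P.closure_sup]
      exact sup_le (hb k2) (sup_le ((closure_le _).2 fun s hs => ⟨_, k3 s hs, rfl⟩) (inf_le_left.trans (hb k2)))
    obtain ⟨p, a, rfl⟩ := this (mem_top x)
    exact ⟨p.2, a⟩
  refine ⟨φ, fun Γ g le hs p hp => ?_⟩
  obtain ⟨J, hJ, e⟩ := S0311.result P _ (hb le)
  have : Γ.map (MonoidHom.fst X G) ≤ (Γ ⊓ K).map (MonoidHom.fst X G) := by
    refine e.le.trans (sup_le (hb (le_inf le k2)) ((closure_le _).2 fun s h => ?_))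
    obtain ⟨q, a, rfl⟩ := e.ge (mem_sup_right (subset_closure h))
    exact ⟨_, ⟨hs _ (hJ h) q.2 a, k3 _ (hJ h)⟩, rfl⟩
  obtain ⟨q, a, e⟩ := this ⟨p, hp, rfl⟩
  rw [← (show q.1 = p.1 from e), hφ q a.2]
  exact g.eq (x := p.1) ((show q.1 = p.1 from e) ▸ a.1) hp

end Cfsg.Agent.E6R
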