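import Mathlib
import Cfsg.Agent.E6R.Defs

/-! Matching the two extraspecial pairs. -/

set_option autoImplicit false

namespace Cfsg.Agent.E6R

open Subgroup Cfsg.Agent.Spor

variable {X G : Type*} [Group X] [Group G]

theorem card_map_two {A B : Type*} [Group A] [Group B] (f : A →* B) {M : Subgroup A} {t : A} (ht : t ∈ M)
    (t1 : t ≠ 1) (t2 : t * t = 1) (k : ∀ m ∈ M, f m = 1 ↔ m = 1 ∨ m = t) :
    Nat.card (M.map f) * 2 = Nat.card M := by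
  rw [← card_zpowers_of_sq t1 t2, ← relIndex_ker, ← Nat.card_congr (subgroupOfEquivOfLe
    (zpowers_le_of_mem ht)).toEquiv, show (zpowers t).subgroupOf M = f.ker.subgroupOf M from
      Subgroup.ext fun m => ((mem_zpowers_iff_of_sq t2).trans (k m m.2).symm :)]
  exact index_mul_card _

theorem card_le_two {N H : Subgroup G} [Finite G] (h : ∀ a ∈ N, ∀ b ∈ N, a ∉ H → b ∉ H → a * b ∈ H) :
    Nat.card N ≤ 2 * Nat.card ↥(N ⊓ H) := by
  rw [← (H.subgroupOf N).index_mul_card, ← card_map_of_injective N.subtype_injective, subgroupOf_map_subtype,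
    inf_comm]
  refine Nat.mul_le_mul_right _ ?_
  by_cases e : ∀ a : N, a ∈ H.subgroupOf N
  · rw [index_eq_one.2 (top_le_iff.1 fun a _ => e a)]; norm_num
  · obtain ⟨a, ha⟩ := not_forall.1 e
    refine (index_eq_two_iff.2 ⟨a, fun b => ?_⟩).le
    by_cases hb : b ∈ H.subgroupOf N
    · exact .inr ⟨hb, fun k => ha ((mul_mem_cancel_left hb).1 k)⟩
    · exact .inl ⟨h b b.2 a a.2 hb ha, hb⟩

theorem v4_comm (z s : X) : V4 z s = V4 s z := congrArg Subgroup.closure (Set.pair_comm z s)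

theorem pmul {S : Subgroup (X × G)} {a c : X} {b d : G} (h : (a, b) ∈ S) (k : (c, d) ∈ S) : (a * c, b * d) ∈ S :=
  mul_mem h k

theorem pinv {S : Subgroup (X × G)} {a : X} {b : G} (h : (a, b) ∈ S) : (a⁻¹, b⁻¹) ∈ S := inv_mem h

theorem Hf.norm {H : Subgroup G} {z c y : G} (h : Hf H z) (hc : z * c = c * z) (hy : y ∈ H) : c * y * c⁻¹ ∈ H := by
  by_cases k : c ∈ H
  · exact mul_mem (mul_mem k hy) (inv_mem k)
  · exact h.two _ _ (Commute.mul_right hc (h.cen y hy)) (Commute.inv_right hc)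
      (fun a => k ((mul_mem_cancel_right hy).1 a)) fun a => k (inv_mem_iff.1 a)

theorem conj_comm {g a b : G} : g * a * g⁻¹ * (g * b * g⁻¹) = g * b * g⁻¹ * (g * a * g⁻¹) ↔ a * b = b * a := by
  rw [conj_mul, conj_mul, mul_left_inj, mul_right_inj]

namespace Mt

variable {Q₁ : Subgroup X} {z₁ : X} {Q₂ H : Subgroup G} {z₂ : G} {N Δ : Subgroup (X × G)}
  (h : Mt Q₁ z₁ Q₂ H z₂ N Δ)
include h

theorem gd : Gf Δ := fun y hy => (h.k2 y (h.le hy)).resolve_right fun e => h.dn (e ▸ hy)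

theorem eq1 {x x' : X} {y : G} (a : (x, y) ∈ Δ) (b : (x', y) ∈ Δ) : x = x' := by
  have k : (x⁻¹ * x', 1) ∈ Δ := by simpa using mul_mem (inv_mem a) b
  rcases h.k1 _ (h.le k) with e | e
  · exact inv_mul_eq_one.1 e
  · exact (h.dn (by simpa [e, h.es1.z_sq] using mul_mem k h.dz)).elim

theorem hz1 : (z₁, 1) ∈ N := by simpa [h.es2.z_sq] using mul_mem (h.le h.dz) h.hz

theorem QH : Q₂ ≤ H := fun q hq => let ⟨_, a⟩ := h.d2 q hq; (h.mem _ (h.le a)).2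

theorem eqv2 {x : X} {y y' : G} (a : (x, y) ∈ N) (b : (x, y') ∈ N) : y = y' ∨ y = z₂ * y' := by
  simpa only [mul_inv_eq_iff_eq_mul, one_mul] using h.k2 (y * y'⁻¹) (by simpa using mul_mem a (inv_mem b))

theorem eqv1 {x x' : X} {y : G} (a : (x, y) ∈ N) (b : (x', y) ∈ N) : x = x' ∨ x = z₁ * x' := by
  simpa only [mul_inv_eq_iff_eq_mul, one_mul] using h.k1 (x * x'⁻¹) (by simpa using mul_mem a (inv_mem b))

theorem zmul {x : X} {y : G} (a : (x, y) ∈ N) : (x, z₂ * y) ∈ N := by simpa using mul_mem h.hz a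

theorem memQ {x : X} {y : G} (a : (x, y) ∈ N) : x ∈ Q₁ ↔ y ∈ Q₂ := by
  refine ⟨fun k => ?_, fun k => ?_⟩
  · obtain ⟨q, b⟩ := h.d1 x k
    rcases h.eqv2 a (h.le b) with e | e <;> rw [e]
    exacts [(h.dm _ b).2, mul_mem h.es2.z_mem (h.dm _ b).2]
  · obtain ⟨q, b⟩ := h.d2 y k
    rcases h.eqv1 a (h.le b) with e | e <;> rw [e]
    exacts [(h.dm _ b).1, mul_mem h.es1.z_mem (h.dm _ b).1]

theorem cj {x p : X} {y q : G} (a : (x, y) ∈ N) (b : (p, q) ∈ Δ) : (x * p * x⁻¹, y * q * y⁻¹) ∈ Δ := h.nm _ a _ b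

theorem comm_iff {x p : X} {y q : G} (a : (x, y) ∈ N) (b : (p, q) ∈ Δ) : p * x = x * p ↔ q * y = y * q := by
  have k := h.cj a b
  refine ⟨fun e => ?_, fun e => ?_⟩
  · rw [← e, mul_inv_cancel_right] at k
    exact (mul_inv_eq_iff_eq_mul.1 (h.gd.eq k b)).symm
  · rw [← e, mul_inv_cancel_right] at k
    exact (mul_inv_eq_iff_eq_mul.1 (h.eq1 k b)).symm

theorem conj (σ : X × G) : Mt (Q₁.map (MulAut.conj σ.1).toMonoidHom) (σ.1 * z₁ * σ.1⁻¹)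
    (Q₂.map (MulAut.conj σ.2).toMonoidHom) (H.map (MulAut.conj σ.2).toMonoidHom) (σ.2 * z₂ * σ.2⁻¹)
    (N.map (MulAut.conj σ).toMonoidHom) (Δ.map (MulAut.conj σ).toMonoidHom) where
  es1 := h.es1.conj _
  lg1 := h.lg1.conj _
  es2 := h.es2.conj _
  lg2 := h.lg2.conj _
  hf := ⟨fun _ a => conj_comm_iff.2 (h.hf.cen _ (mem_map_conj_iff.1 a)), fun a b ha hb na nb => by
    rw [mem_map_conj_iff] at na nb ⊢
    convert h.hf.two _ _ (conj_comm_iff.1 ha) (conj_comm_iff.1 hb) na nb using 1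
    group⟩
  le := map_mono h.le
  mem := fun n a => ⟨conj_comm_iff.2 (h.mem _ (mem_map_conj_iff.1 a)).1,
    mem_map_conj_iff.2 (h.mem _ (mem_map_conj_iff.1 a)).2⟩
  on1 := fun x a => by
    obtain ⟨y, b⟩ := h.on1 _ (conj_comm_iff.1 a)
    exact ⟨σ.2 * y * σ.2⁻¹, mem_map_conj_iff.2 (by convert b using 1; ext <;> simp [mul_assoc])⟩
  on2 := fun y a => by
    obtain ⟨x, b⟩ := h.on2 _ (mem_map_conj_iff.1 a)
    exact ⟨σ.1 * x * σ.1⁻¹, mem_map_conj_iff.2 (by convert b using 1; ext <;> simp [mul_assoc])⟩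
  k1 := fun x a => by
    have := h.k1 (σ.1⁻¹ * x * σ.1) (by convert mem_map_conj_iff.1 a using 1; ext <;> simp)
    exact this.imp (fun e => by simpa [mul_assoc] using congrArg (σ.1 * · * σ.1⁻¹) e) fun e => by rw [← e]; group
  k2 := fun x a => by
    have := h.k2 (σ.2⁻¹ * x * σ.2) (by convert mem_map_conj_iff.1 a using 1; ext <;> simp)
    exact this.imp (fun e => by simpa [mul_assoc] using congrArg (σ.2 * · * σ.2⁻¹) e) fun e => by rw [← e]; group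
  hz := by convert conj_mem_map_conj σ h.hz using 1; ext <;> simp
  dm := fun d a => ⟨mem_map_conj_iff.2 (h.dm _ (mem_map_conj_iff.1 a)).1,
    mem_map_conj_iff.2 (h.dm _ (mem_map_conj_iff.1 a)).2⟩
  d1 := fun x a => by
    obtain ⟨y, b⟩ := h.d1 _ (mem_map_conj_iff.1 a)
    exact ⟨σ.2 * y * σ.2⁻¹, mem_map_conj_iff.2 (by convert b using 1; ext <;> simp [mul_assoc])⟩
  d2 := fun y a => by
    obtain ⟨x, b⟩ := h.d2 _ (mem_map_conj_iff.1 a)
    exact ⟨σ.1 * x * σ.1⁻¹, mem_map_conj_iff.2 (by convert b using 1; ext <;> simp [mul_assoc])⟩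
  dz := conj_mem_map_conj σ h.dz
  dn := fun a => h.dn (by convert mem_map_conj_iff.1 a using 1; ext <;> simp [mul_assoc])
  nm := by
    rintro _ ⟨n, a, rfl⟩ _ ⟨d, b, rfl⟩
    exact ⟨_, h.nm n a d b, by simp only [map_mul, map_inv]⟩

end Mt

/-- The subgroup of `X` that `N` matches with `S`. -/
def pull (N : Subgroup (X × G)) (S : Subgroup G) : Subgroup X :=
  (N ⊓ S.comap (MonoidHom.snd X G)).map (MonoidHom.fst X G)

theorem mem_pull {N : Subgroup (X × G)} {S : Subgroup G} {x : X} : x ∈ pull N S ↔ ∃ y ∈ S, (x, y) ∈ N :=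
  ⟨fun ⟨p, a, e⟩ => ⟨p.2, a.2, e ▸ a.1⟩, fun ⟨y, a, b⟩ => ⟨(x, y), ⟨b, a⟩, rfl⟩⟩

namespace Mt

variable {Q₁ : Subgroup X} {z₁ : X} {Q₂ H : Subgroup G} {z₂ : G} {N Δ : Subgroup (X × G)}
  (h : Mt Q₁ z₁ Q₂ H z₂ N Δ)
include h

theorem card_pull {S : Subgroup G} (hS : S ≤ H) (hz : z₂ ∈ S) : Nat.card (pull N S) = Nat.card S := by
  have a := card_map_two (MonoidHom.fst X G) (M := N ⊓ S.comap (MonoidHom.snd X G)) (t := (1, z₂)) ⟨h.hz, hz⟩
    (fun e => h.es2.z_ne (congrArg Prod.snd e)) (Prod.ext (mul_one 1) h.es2.z_sq) fun m hm =>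
      ⟨fun e => (h.k2 m.2 ((show m.1 = 1 from e) ▸ hm.1)).imp (Prod.ext e) (Prod.ext e), by
        rintro (rfl | rfl) <;> rfl⟩
  have b := card_map_two (MonoidHom.snd X G) (M := N ⊓ S.comap (MonoidHom.snd X G)) (t := (z₁, 1))
    ⟨h.hz1, S.one_mem⟩ (fun e => h.es1.z_ne (congrArg Prod.fst e)) (Prod.ext h.es1.z_sq (mul_one 1)) fun m hm =>
      ⟨fun e => (h.k1 m.1 ((show m.2 = 1 from e) ▸ hm.1)).imp (Prod.ext · e) (Prod.ext · e), by
        rintro (rfl | rfl) <;> rfl⟩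
  rw [show (N ⊓ S.comap (MonoidHom.snd X G)).map (MonoidHom.snd X G) = S from le_antisymm
    (by rintro _ ⟨p, a, rfl⟩; exact a.2) fun y hy => let ⟨x, k⟩ := h.on2 y (hS hy); ⟨(x, y), ⟨k, hy⟩, rfl⟩] at b
  unfold pull
  omega

theorem card_eq : Nat.card Q₁ = Nat.card Q₂ := by
  rw [← h.card_pull h.QH h.es2.z_mem]
  congr 2
  ext x
  exact ⟨fun a => let ⟨q, b⟩ := h.d1 x a; mem_pull.2 ⟨q, (h.dm _ b).2, h.le b⟩,
    fun a => let ⟨_, b, c⟩ := mem_pull.1 a; (h.memQ c).2 b⟩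

theorem bg [Finite G] (hc : Nat.card Q₁ = 2 ^ 21) {R₂ : Subgroup G} {s₂ : G} (P : ESPair Q₂ R₂ z₂ s₂) {p : X}
    (hp : (p, s₂) ∈ Δ) : Bg Q₁ z₁ p (pull N (R₂ ⊓ H)) := by
  have A := P.esR
  have zH := h.QH h.es2.z_mem
  have sV : ∀ {x y}, (x, y) ∈ Δ → y = 1 ∨ y = s₂ → x ∈ V4 z₁ p := by
    rintro x y a (rfl | rfl)
    · exact h.eq1 a (one_mem _) ▸ one_mem _
    · exact h.eq1 a hp ▸ subset_closure (by simp)
  refine ⟨(h.dm _ hp).1, h.eq1 (mul_mem hp hp) (A.z_sq ▸ one_mem _), fun e => A.z_ne (h.gd _ (e ▸ hp)),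
    fun e => P.ne (h.gd.eq h.dz (e ▸ hp)), mem_pull.2 ⟨_, ⟨P.z_mem, zH⟩, h.le h.dz⟩,
    mem_pull.2 ⟨_, ⟨A.z_mem, h.QH P.s_mem⟩, h.le hp⟩, fun y hy => ?_, fun c c1 c2 y hy => ?_, fun y hy => ?_, ?_,
    fun y hy a ha e => ?_, fun y hy e he => ?_⟩
  · obtain ⟨b, hb, k⟩ := mem_pull.1 hy
    exact ⟨(h.mem _ k).1, (h.comm_iff k hp).2 (A.z_comm b hb.1)⟩
  · obtain ⟨b, hb, k⟩ := mem_pull.1 hy
    obtain ⟨d, kd⟩ := h.on1 c c1
    have := (h.mem _ kd).2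
    exact mem_pull.2 ⟨d * b * d⁻¹, ⟨P.lgR.norm d ((h.comm_iff kd hp).1 c2) b hb.1,
      H.mul_mem (H.mul_mem this hb.2) (H.inv_mem this)⟩, pmul (pmul kd k) (pinv kd)⟩
  · obtain ⟨b, hb, k⟩ := mem_pull.1 hy
    refine (h.memQ (pmul k k)).2 ?_
    rcases A.sq b hb.1 with e | e <;> rw [e]
    exacts [one_mem _, P.s_mem]
  · have e : pull N (R₂ ⊓ H) ⊓ Q₁ = pull N (Q₂ ⊓ R₂) := by
      ext x
      exact ⟨fun a => let ⟨y, b, c⟩ := mem_pull.1 a.1; mem_pull.2 ⟨y, ⟨(h.memQ c).1 a.2, b.1⟩, c⟩,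
        fun a => let ⟨y, b, c⟩ := mem_pull.1 a; ⟨mem_pull.2 ⟨y, ⟨b.2, h.QH b.1⟩, c⟩, (h.memQ c).2 b.1⟩⟩
    rw [e, h.card_pull (inf_le_left.trans h.QH) ⟨h.es2.z_mem, P.z_mem⟩, h.card_pull inf_le_right ⟨P.z_mem, zH⟩]
    have k1 := h.es2.card_mul_card_centralizer (A := Q₂ ⊓ R₂) inf_le_left ⟨h.es2.z_mem, P.z_mem⟩
    have k2 : Nat.card ↥(Q₂ ⊓ R₂) ≤ Nat.card ↥(Q₂ ⊓ centralizer (Q₂ ⊓ R₂ : Subgroup G)) :=
      card_le_of_le fun x hx => ⟨hx.1, fun y hy => P.E_comm hy hx⟩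
    have k3 := A.card_centralizer_mul_two P.z_mem h.es2.z_ne P.ne
    have k4 : Nat.card R₂ = Nat.card Q₂ := by
      obtain ⟨g, rfl, -⟩ := P.conj
      exact card_map_of_injective (MulAut.conj g).injective
    have k5 := card_le_two (N := R₂ ⊓ centralizer {z₂}) (H := H) fun a ha b hb =>
      h.hf.two a b (mem_centralizer_singleton.1 ha.2) (mem_centralizer_singleton.1 hb.2)
    have k6 : Nat.card ↥(R₂ ⊓ centralizer {z₂} ⊓ H) ≤ Nat.card ↥(R₂ ⊓ H) :=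
      card_le_of_le (inf_le_inf_right _ inf_le_left)
    rw [← h.card_eq, hc] at k1 k4
    have k7 : Nat.card ↥(Q₂ ⊓ R₂) ≤ 2 ^ 11 := by nlinarith
    omega
  · obtain ⟨b, hb, k⟩ := mem_pull.1 hy
    obtain ⟨q, kq⟩ := h.d1 a ha
    have m := pmul (h.cj k kq) (pinv kq)
    refine mem_pull.2 ⟨_, ⟨?_, h.QH (h.dm _ m).2⟩, h.le m⟩
    have := R₂.mul_mem hb.1 (P.lgR.norm q ((h.comm_iff (h.le kq) hp).1 e) _ (R₂.inv_mem hb.1))
    rwa [← mul_assoc, ← mul_assoc] at this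
  · obtain ⟨b, hb, k⟩ := mem_pull.1 hy
    obtain ⟨q, kq⟩ := h.d1 e he.2
    obtain ⟨q', hq', kq'⟩ := mem_pull.1 he.1
    have qR : q ∈ R₂ := by
      rcases h.eqv2 (h.le kq) kq' with o | o <;> rw [o]
      exacts [hq'.1, mul_mem P.z_mem hq'.1]
    refine sV (pmul (h.cj k kq) (pinv kq)) ?_
    rcases A.aes.conj_eq hb.1 qR with o | o <;> simp [o]

theorem fus [Finite G] {R₁ : Subgroup X} {s₁ w : X} (m : Md Q₁ R₁ z₁ s₁ w) {p : X} {q : G} (a : (p, q) ∈ Δ)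
    (c : IsConj z₂ q) : p = z₁ ∨ ∃ k, z₁ * k = k * z₁ ∧ k * p * k⁻¹ = s₁ := by
  obtain ⟨g, rfl⟩ := isConj_iff.1 c
  by_cases e : g * z₂ * g⁻¹ = z₂
  · exact .inl (h.eq1 (e ▸ a) h.dz)
  · exact .inr (m.big1 _ _ (h.bg m.card
      (ESPair.of_width h.es2 h.lg2 (by rw [← h.card_eq, m.card]; norm_num) (h.dm _ a).2 e) a))

end Mt

theorem inv_A [Finite X] {Q R : Subgroup X} {z s : X} (p : ESPair Q R z s)
    (cenE : ∀ c, (∀ e ∈ Q ⊓ R, c * e = e * c) → c ∈ Q ⊓ R)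
    (nf : ∀ e ∈ Q ⊓ R, (∀ d, z * d = d * z → s * d = d * s → d * e * d⁻¹ * e⁻¹ ∈ V4 z s) → e ∈ V4 z s)
    {T : Subgroup X} (hE : Q ⊓ R ≤ T)
    (two : ∀ a ∈ Q ⊓ centralizer {s}, ∀ b ∈ Q ⊓ centralizer {s}, a ∉ T → b ∉ T → a * b ∈ T)
    (inv : ∀ d, z * d = d * z → s * d = d * s → ∀ a ∈ Q ⊓ centralizer {s}, a ∈ T → d * a * d⁻¹ ∈ T) :
    Q ⊓ centralizer {s} ≤ T := by
  obtain ⟨e, he, k⟩ := p.esQ.exists_comm_iff inf_le_left T two fun _ => hE ⟨p.esQ.z_mem, p.z_mem⟩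
  have eE := cenE e fun x hx => (k x ⟨hx.1, mem_centralizer_singleton.2 (p.esR.z_comm x hx.2)⟩).2 (hE hx)
  have nA : ∀ d, z * d = d * z → s * d = d * s → ∀ a ∈ Q ⊓ centralizer {s}, d * a * d⁻¹ ∈ Q ⊓ centralizer {s} :=
    fun d d1 d2 a ha => ⟨p.lgQ.norm d d1 a ha.1, mem_centralizer_singleton.2
      (Commute.mul_right (Commute.mul_right d2 (mem_centralizer_singleton.1 ha.2)) (Commute.inv_right d2))⟩
  have eV := nf e eE fun d d1 d2 => by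
    have q1 := p.lgQ.norm d d1 e he
    refine p.mem_V_of_centralizes (p.esQ.z_comm _ (mul_mem q1 (inv_mem he))) fun a ha as => ?_
    have aA : a ∈ Q ⊓ centralizer {s} := ⟨ha, mem_centralizer_singleton.2 as.symm⟩
    have d1' : z * d⁻¹ = d⁻¹ * z := Commute.inv_right d1
    have d2' : s * d⁻¹ = d⁻¹ * s := Commute.inv_right d2
    have a' := nA _ d1' d2' a aA
    rw [← bf_eq_zero, p.esQ.aes.bf_mul_left q1 (inv_mem he) ha, bf_inv_left, bf_conj,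
      bf_congr (x' := e) (y' := a), CharTwo.add_self_eq_zero]
    rw [inv_inv] at a'
    rw [k _ a', k _ aA]
    exact ⟨fun o => by simpa [mul_assoc] using inv d d1 d2 _ a' o, fun o => by simpa using inv _ d1' d2' a aA o⟩
  exact fun a ha => (k a ha).1 (mem_centralizer_closure_pair.2
    ⟨p.esQ.z_comm a ha.1, mem_centralizer_singleton.1 ha.2⟩ e eV)

namespace Md

variable [Finite X] {Q R : Subgroup X} {z s w : X} (m : Md Q R z s w)
include m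

omit [Finite X] in
theorem nf : ∀ e ∈ Q ⊓ R, (∀ d, z * d = d * z → s * d = d * s → d * e * d⁻¹ * e⁻¹ ∈ V4 z s) → e ∈ V4 z s :=
  fun e he k => (m.fix e he fun d d1 d2 _ => k d d1 d2).resolve_right fun o => by
    obtain ⟨d, d1, d2, n⟩ := m.mov
    have c := mem_centralizer_closure_pair.2 ⟨d1, d2⟩ _ o
    refine n ?_
    have : d * w * d⁻¹ * w⁻¹ = (e * w⁻¹)⁻¹ * (d * e * d⁻¹ * e⁻¹) * (e * w⁻¹) := by
      calc _ = (e * w⁻¹)⁻¹ * (e * w⁻¹ * d) * w * d⁻¹ * w⁻¹ := by group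
        _ = _ := by rw [c]; group
    rw [this]
    exact mul_mem (mul_mem (inv_mem o) (k d d1 d2)) o

theorem invA {T : Subgroup X} (hE : Q ⊓ R ≤ T)
    (two : ∀ a ∈ Q ⊓ centralizer {s}, ∀ b ∈ Q ⊓ centralizer {s}, a ∉ T → b ∉ T → a * b ∈ T)
    (inv : ∀ d, z * d = d * z → s * d = d * s → ∀ a ∈ Q ⊓ centralizer {s}, a ∈ T → d * a * d⁻¹ ∈ T) :
    Q ⊓ centralizer {s} ≤ T := inv_A m.pair m.cenE m.nf hE two inv

theorem invB {T : Subgroup X} (hE : Q ⊓ R ≤ T)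
    (two : ∀ a ∈ R ⊓ centralizer {z}, ∀ b ∈ R ⊓ centralizer {z}, a ∉ T → b ∉ T → a * b ∈ T)
    (inv : ∀ d, z * d = d * z → s * d = d * s → ∀ a ∈ R ⊓ centralizer {z}, a ∈ T → d * a * d⁻¹ ∈ T) :
    R ⊓ centralizer {z} ≤ T :=
  inv_A m.pair.symm (inf_comm Q R ▸ m.cenE) (fun e he k => v4_comm z s ▸ m.nf e ⟨he.2, he.1⟩ fun d d1 d2 =>
    v4_comm s z ▸ k d d2 d1) (inf_comm Q R ▸ hE) two fun d d1 d2 => inv d d2 d1

omit [Finite X] in
theorem cardR : Nat.card R = 2 ^ 21 := by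
  obtain ⟨g, e, -⟩ := m.pair.conj
  rw [e, card_map_of_injective (MulAut.conj g).injective, m.card]

theorem perfD {T : Subgroup X} (two : ∀ x y, z * x = x * z → s * x = x * s → z * y = y * z → s * y = y * s →
    x ∉ T → y ∉ T → x * y ∈ T) : ∀ d, z * d = d * z → s * d = d * s → d ∈ T := by
  have p := m.pair
  have nm : ∀ d, z * d = d * z → s * d = d * s → ∀ x, z * x = x * z → s * x = x * s → x ∈ T →
      d * x * d⁻¹ ∈ T := fun d d1 d2 x x1 x2 hx => by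
    by_cases k : d ∈ T
    · exact mul_mem (mul_mem k hx) (inv_mem k)
    · exact two _ _ (Commute.mul_right d1 x1) (Commute.mul_right d2 x2) (Commute.inv_right d1)
        (Commute.inv_right d2) (fun a => k ((mul_mem_cancel_right hx).1 a)) fun a => k (inv_mem_iff.1 a)
  have cm : ∀ d, z * d = d * z → s * d = d * s → ∀ x, z * x = x * z → s * x = x * s →
      d * x * d⁻¹ * x⁻¹ ∈ T := fun d d1 d2 x x1 x2 => by
    by_cases k : x ∈ T
    · exact mul_mem (nm d d1 d2 x x1 x2 k) (inv_mem k)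
    · have y1 : z * (d * x * d⁻¹) = _ := Commute.mul_right (Commute.mul_right d1 x1) (Commute.inv_right d1)
      have y2 : s * (d * x * d⁻¹) = _ := Commute.mul_right (Commute.mul_right d2 x2) (Commute.inv_right d2)
      refine two _ _ y1 y2 (Commute.inv_right x1) (Commute.inv_right x2) (fun a => k ?_)
        fun a => k (inv_mem_iff.1 a)
      simpa [mul_assoc] using nm _ (Commute.inv_right d1) (Commute.inv_right d2) _ y1 y2 a
  have hV : V4 z s ≤ T := (closure_le _).2 (by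
    rintro _ (rfl | rfl)
    · obtain ⟨a, ha, b, hb, a1, b1, n⟩ := p.esQ.centralizer_nonab (by rw [m.card]; norm_num) p.s_mem
      simpa [p.esQ.aes.eq_of_ne ha hb n, mul_assoc] using cm a (p.esQ.z_comm a ha) a1 b (p.esQ.z_comm b hb) b1
    · obtain ⟨a, ha, b, hb, a1, b1, n⟩ := p.esR.centralizer_nonab (by rw [m.cardR]; norm_num) p.z_mem
      simpa [p.esR.aes.eq_of_ne ha hb n, mul_assoc] using cm a a1 (p.esR.z_comm a ha) b b1 (p.esR.z_comm b hb))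
  have hw : w ∈ T := by
    obtain ⟨a, ha, b, hb, a1, b1, n⟩ := m.cm
    exact inv_mem_iff.1 ((mul_mem_cancel_left (cm a (p.esQ.z_comm a ha) a1 b b1 (p.esR.z_comm b hb))).1 (hV n))
  have hE := m.gen T hV fun d d1 d2 => nm d d1 d2 w (p.esQ.z_comm w m.wE.1) (p.esR.z_comm w m.wE.2) hw
  refine m.perf T (m.invA hE (fun a ha b hb => two a b (p.esQ.z_comm a ha.1) (mem_centralizer_singleton.1 ha.2)
    (p.esQ.z_comm b hb.1) (mem_centralizer_singleton.1 hb.2)) fun d d1 d2 a ha =>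
      nm d d1 d2 a (p.esQ.z_comm a ha.1) (mem_centralizer_singleton.1 ha.2))
    (m.invB hE (fun a ha b hb => two a b (mem_centralizer_singleton.1 ha.2) (p.esR.z_comm a ha.1)
      (mem_centralizer_singleton.1 hb.2) (p.esR.z_comm b hb.1)) fun d d1 d2 a ha =>
        nm d d1 d2 a (mem_centralizer_singleton.1 ha.2) (p.esR.z_comm a ha.1)) two

end Md

/-- A matching that also matches the second extraspecial groups. -/
structure Pm (Q₁ R₁ : Subgroup X) (z₁ s₁ : X) (Q₂ R₂ H : Subgroup G) (z₂ s₂ : G) (N Δ : Subgroup (X × G)) :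
    Prop extends Mt Q₁ z₁ Q₂ H z₂ N Δ where
  p1 : ESPair Q₁ R₁ z₁ s₁
  p2 : ESPair Q₂ R₂ z₂ s₂
  ss : (s₁, s₂) ∈ Δ
  rr : ∀ x y, (x, y) ∈ N → (x ∈ R₁ ↔ y ∈ R₂)
  BH : R₂ ⊓ centralizer {z₂} ≤ H

theorem Mt.exists_pm [Finite X] [Finite G] {Q₁ R₁ : Subgroup X} {z₁ s₁ w : X} {Q₂ H : Subgroup G} {z₂ : G}
    {N Δ : Subgroup (X × G)} (h : Mt Q₁ z₁ Q₂ H z₂ N Δ) (m : Md Q₁ R₁ z₁ s₁ w)
    (nwc : ∃ g : G, g * z₂ * g⁻¹ ∈ Q₂ ∧ g * z₂ * g⁻¹ ≠ z₂) :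
    ∃ R₂ s₂, Pm Q₁ R₁ z₁ s₁ Q₂ R₂ H z₂ s₂ N Δ := by
  obtain ⟨g, g1, g2⟩ := nwc
  obtain ⟨p, hp⟩ := h.d2 _ g1
  obtain ⟨k, k1, k2⟩ := (h.fus m hp (isConj_iff.2 ⟨g, rfl⟩)).resolve_left fun e => g2 (h.gd.eq (e ▸ hp) h.dz)
  obtain ⟨l, hl⟩ := h.on1 k k1
  have ss := h.cj hl hp
  rw [k2, show l * (g * z₂ * g⁻¹) * l⁻¹ = l * g * z₂ * (l * g)⁻¹ by group] at ss
  have P := ESPair.of_width h.es2 h.lg2 (by rw [← h.card_eq, m.card]; norm_num) (h.dm _ ss).2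
    fun e => m.pair.ne (h.eq1 h.dz (e ▸ ss))
  generalize Q₂.map (MulAut.conj (l * g)).toMonoidHom = R₂ at P
  generalize l * g * z₂ * (l * g)⁻¹ = s₂ at P ss
  have b := h.bg m.card P ss
  have p1 := m.pair
  have hE := m.gen _ ((closure_le _).2 (by rintro _ (rfl | rfl); exacts [b.zY, b.pY]))
    fun d d1 d2 => b.norm d d1 d2 w (m.big2 _ b)
  have e12 : ∀ {x y}, (x, y) ∈ Δ → x ∈ R₁ → y ∈ R₂ := fun {x y} a hx => by
    obtain ⟨y', hy, a'⟩ := mem_pull.1 (hE ⟨(h.dm _ a).1, hx⟩)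
    rcases h.eqv2 (h.le a) a' with o | o <;> rw [o]
    exacts [hy.1, mul_mem P.z_mem hy.1]
  have hY : pull N (R₂ ⊓ H) ≤ R₁ := fun x hx => by
    obtain ⟨y, hy, a⟩ := mem_pull.1 hx
    have key : ∀ e ∈ Q₁ ⊓ R₁, x * e * x⁻¹ = e ∨ x * e * x⁻¹ = s₁ * e := fun e he => by
      obtain ⟨f, hf⟩ := h.d1 e he.1
      have := h.cj a hf
      rcases P.esR.aes.conj_eq hy.1 (e12 hf he.2) with o | o <;> rw [o] at this
      exacts [.inl (h.eq1 this hf), .inr (h.eq1 this (mul_mem ss hf))]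
    obtain ⟨r, hr, kr⟩ := p1.esR.exists_comm_iff (A := Q₁ ⊓ R₁) inf_le_right (centralizer {x})
      (fun c hc d hd nc nd => by
        rw [mem_centralizer_singleton, ← mul_inv_eq_iff_eq_mul] at nc nd ⊢
        rw [← conj_mul, (key c hc).resolve_left nc, (key d hd).resolve_left nd, mul_assoc, ← mul_assoc c,
          ← p1.esR.z_comm c hc.2, mul_assoc, p1.esR.z_mul_z_mul])
      fun _ => mem_centralizer_singleton.2 (b.cen x hx).2.symm
    refine (mul_mem_cancel_left (inv_mem hr)).1 (m.cenE _ fun e he => ?_).2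
    have : x * e * x⁻¹ = r * e * r⁻¹ := by
      by_cases o : r * e = e * r
      · rw [mem_centralizer_singleton.1 ((kr e he).1 o), o, mul_inv_cancel_right, mul_inv_cancel_right]
      · rw [p1.esR.aes.conj_of_ne hr he.2 o, (key e he).resolve_left fun a => o
          ((kr e he).2 (mem_centralizer_singleton.2 (mul_inv_eq_iff_eq_mul.1 a)))]
    calc _ = r⁻¹ * (x * e * x⁻¹) * x := by group
      _ = _ := by rw [this]; group
  have c1 := h.card_pull (S := R₂ ⊓ H) inf_le_right ⟨P.z_mem, h.QH h.es2.z_mem⟩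
  have c2 := p1.esR.card_centralizer_mul_two p1.z_mem p1.esQ.z_ne p1.ne
  have c3 := P.esR.card_centralizer_mul_two P.z_mem h.es2.z_ne P.ne
  have c4 : Nat.card R₂ = Nat.card Q₂ := by
    obtain ⟨g, rfl, -⟩ := P.conj
    exact card_map_of_injective (MulAut.conj g).injective
  rw [← h.card_eq, m.card] at c4
  rw [m.cardR] at c2
  have lB : pull N (R₂ ⊓ H) ≤ R₁ ⊓ centralizer {z₁} := fun x hx =>
    ⟨hY hx, mem_centralizer_singleton.2 (b.cen x hx).1⟩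
  have l2 : R₂ ⊓ H ≤ R₂ ⊓ centralizer {z₂} := fun y hy => ⟨hy.1, mem_centralizer_singleton.2 (h.hf.cen y hy.2)⟩
  have hB : R₁ ⊓ centralizer {z₁} ≤ pull N (R₂ ⊓ H) := by
    refine m.invB hE (fun x hx y hy nx ny => ?_) fun d d1 d2 a _ ha => b.norm d d1 d2 a ha
    have c5 := card_le_two (N := R₂ ⊓ centralizer {z₂}) (H := H) fun a ha b hb =>
      h.hf.two a b (mem_centralizer_singleton.1 ha.2) (mem_centralizer_singleton.1 hb.2)
    have c6 : Nat.card ↥(R₂ ⊓ centralizer {z₂} ⊓ H) ≤ Nat.card ↥(R₂ ⊓ H) :=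
      card_le_of_le (inf_le_inf_right _ inf_le_left)
    have c7 := ((pull N (R₂ ⊓ H)).subgroupOf (R₁ ⊓ centralizer {z₁})).index_mul_card
    rw [Nat.card_congr (subgroupOfEquivOfLe lB).toEquiv] at c7
    have c8 : ((pull N (R₂ ⊓ H)).subgroupOf (R₁ ⊓ centralizer {z₁})).index = 2 := by
      have n1 : ((pull N (R₂ ⊓ H)).subgroupOf (R₁ ⊓ centralizer {z₁})).index ≠ 1 := fun o =>
        nx ((index_eq_one.1 o).ge (mem_top (⟨x, hx⟩ : ↥(R₁ ⊓ centralizer {z₁}))))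
      have n0 := ((pull N (R₂ ⊓ H)).subgroupOf (R₁ ⊓ centralizer {z₁})).index_ne_zero_of_finite
      by_contra n2
      have : 3 * Nat.card (pull N (R₂ ⊓ H)) ≤ _ := (Nat.mul_le_mul_right _ (by omega)).trans c7.le
      omega
    exact (mul_mem_iff_of_index_two c8 (a := ⟨x, hx⟩) (b := ⟨y, hy⟩)).2 (iff_of_false nx ny)
  refine ⟨R₂, s₂, h, p1, P, ss, fun x y a => ⟨fun hx => ?_, fun hy => hY (mem_pull.2 ⟨y, ⟨hy, (h.mem _ a).2⟩, a⟩)⟩,
    (eq_of_le_of_card_ge l2 ?_).ge.trans inf_le_right⟩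
  · obtain ⟨y', hy, a'⟩ := mem_pull.1 (hB ⟨hx, mem_centralizer_singleton.2 (h.mem _ a).1⟩)
    rcases h.eqv2 a a' with o | o <;> rw [o]
    exacts [hy.1, mul_mem P.z_mem hy.1]
  · have := card_le_of_le hB
    omega

end Cfsg.Agent.E6R
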