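import Mathlib
import Cfsg.Agent.E6R.T1

/-! The matching over `C(z)` and its mirror image over `C(s)` agree on `C(z, s)` after a conjugation. -/

set_option autoImplicit false

namespace Cfsg.Agent.E6R

open Subgroup Cfsg.Agent.Spor

variable {X G : Type*} [Group X] [Group G]

/-- The radical of an extraspecial pair. -/
abbrev Rad (Q R : Subgroup G) (z s : G) : Subgroup G := (R ⊓ centralizer {z}) ⊔ (Q ⊓ centralizer {s})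

theorem rad_cen {Q R : Subgroup G} {z s r : G} (p : ESPair Q R z s) (hr : r ∈ Rad Q R z s) :
    z * r = r * z ∧ s * r = r * s := mem_centralizer_closure_pair.1 (p.rad_le hr)

theorem cen_mul {z a b : G} (h : z * a = a * z) (k : z * b = b * z) : z * (a * b) = a * b * z :=
  Commute.mul_right h k

theorem cen_inv {z a : G} (h : z * a = a * z) : z * a⁻¹ = a⁻¹ * z := Commute.inv_right h

theorem rad_norm {Q R : Subgroup G} {z s d r : G} (p : ESPair Q R z s) (d1 : z * d = d * z) (d2 : s * d = d * s)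
    (hr : r ∈ Rad Q R z s) : d * r * d⁻¹ ∈ Rad Q R z s := by
  have : Rad Q R z s ≤ (Rad Q R z s).comap (MulAut.conj d).toMonoidHom := sup_le
    (fun x hx => mem_sup_left ⟨p.lgR.norm d d2 x hx.1, mem_centralizer_singleton.2
      (cen_mul (cen_mul d1 (mem_centralizer_singleton.1 hx.2)) (cen_inv d1))⟩)
    fun x hx => mem_sup_right ⟨p.lgQ.norm d d1 x hx.1, mem_centralizer_singleton.2
      (cen_mul (cen_mul d2 (mem_centralizer_singleton.1 hx.2)) (cen_inv d2))⟩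
  exact this hr

theorem v4_norm {z s d v : G} (d1 : z * d = d * z) (d2 : s * d = d * s) (hv : v ∈ V4 z s) : d * v * d⁻¹ = v := by
  rw [← mem_centralizer_closure_pair.2 ⟨d1, d2⟩ v hv, mul_inv_cancel_right]

theorem exists_half_rad [Finite G] {Q R : Subgroup G} {z s : G} (p : ESPair Q R z s) {Θ : Subgroup (G × G)}
    (h1 : ∀ a b, (a, b) ∈ Θ → a ∈ Q ⊓ R ∧ b * a⁻¹ ∈ V4 z s) (on : ∀ a ∈ Q ⊓ R, ∃ b, (a, b) ∈ Θ)
    (hz : (z, z) ∈ Θ) (hs : (s, s) ∈ Θ) :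
    ∃ x ∈ Q, s * x = x * s ∧ ∀ a ∈ Q ⊓ R, (x * a = a * x ↔ (a, a) ∈ Θ ∨ (a, s * a) ∈ Θ) := by
  have S := p.esR
  have mm : ∀ {a} (b), a ∈ R → s * a * (s * b) = a * b := fun {a} b ha => by
    rw [S.z_comm a ha, mul_assoc, S.z_mul_z_mul]
  let T : Subgroup G :=
    { carrier := {a | (a, a) ∈ Θ ∨ (a, s * a) ∈ Θ}
      one_mem' := .inl (one_mem _)
      mul_mem' := by
        rintro a b (ha | ha) (hb | hb)
        · exact .inl (pmul ha hb)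
        · exact .inr (by rw [← mul_assoc, S.z_comm a (h1 _ _ ha).1.2, mul_assoc]; exact pmul ha hb)
        · exact .inr (by rw [← mul_assoc]; exact pmul ha hb)
        · exact .inl (by simpa only [mm b (h1 _ _ ha).1.2] using pmul ha hb)
      inv_mem' := by
        rintro a (ha | ha)
        · exact .inl (pinv ha)
        · exact .inr (by
            rw [S.z_comm _ (inv_mem (h1 _ _ ha).1.2), ← S.z_inv, ← mul_inv_rev]; exact pinv ha) }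
  have k : ∀ a ∈ Q ⊓ R, a ∉ T → (a, z * a) ∈ Θ ∨ (a, z * s * a) ∈ Θ := fun a ha na => by
    obtain ⟨b, hb⟩ := on a ha
    rcases p.mem_V.1 (h1 _ _ hb).2 with e | e | e | e <;> rw [mul_inv_eq_iff_eq_mul] at e <;> subst e
    exacts [(na (.inl (by simpa using hb))).elim, .inl hb, (na (.inr hb)).elim, .inr hb]
  obtain ⟨x, hx, kx⟩ := p.esQ.exists_comm_iff (A := Q ⊓ R) inf_le_left T (fun a ha b hb na nb => by
    have c1 : Commute a z := (p.esQ.z_comm a ha.1).symm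
    have c2 : Commute a (z * s) := c1.mul_right (S.z_comm a ha.2).symm
    have c3 : z * s * z = s := by rw [mul_assoc, ← p.zs_comm, p.esQ.z_mul_z_mul]
    rcases k a ha na with u | u <;> rcases k b hb nb with v | v <;> have := pmul u v
    · exact .inl (by rwa [c1.mul_mul_mul_comm, p.esQ.z_sq, one_mul] at this)
    · exact .inr (by rwa [c2.mul_mul_mul_comm, p.esQ.z_mul_z_mul] at this)
    · exact .inr (by rwa [c1.mul_mul_mul_comm, c3] at this)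
    · exact .inl (by rwa [c2.mul_mul_mul_comm, ← mul_assoc (z * s), c3, S.z_sq, one_mul] at this)) fun _ => .inl hz
  exact ⟨x, hx, ((kx s ⟨p.s_mem, S.z_mem⟩).2 (.inl hs)).symm, kx⟩

theorem exists_rad [Finite G] {Q R : Subgroup G} {z s : G} (p : ESPair Q R z s) {Θ : Subgroup (G × G)} (gf : Gf Θ)
    (h1 : ∀ a b, (a, b) ∈ Θ → a ∈ Q ⊓ R ∧ b * a⁻¹ ∈ V4 z s) (on : ∀ a ∈ Q ⊓ R, ∃ b, (a, b) ∈ Θ)
    (hz : (z, z) ∈ Θ) (hs : (s, s) ∈ Θ) : ∃ r ∈ Rad Q R z s, ∀ a b, (a, b) ∈ Θ → r * a * r⁻¹ = b := by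
  obtain ⟨x, hx, xs, kx⟩ := exists_half_rad p h1 on hz hs
  obtain ⟨y, hy, yz, ky⟩ := exists_half_rad p.symm (fun a b e => ⟨⟨(h1 a b e).1.2, (h1 a b e).1.1⟩,
    v4_comm z s ▸ (h1 a b e).2⟩) (fun a e => on a ⟨e.2, e.1⟩) hs hz
  refine ⟨x * y, mul_mem (mem_sup_right ⟨hx, mem_centralizer_singleton.2 xs⟩)
    (mem_sup_left ⟨hy, mem_centralizer_singleton.2 yz⟩), fun a b e => ?_⟩
  obtain ⟨ha, hv⟩ := h1 a b e
  replace kx := kx a ha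
  replace ky := ky a ⟨ha.2, ha.1⟩
  have n : ∀ {u v}, (a, u * a) ∈ Θ → (a, v * a) ∈ Θ → u = v := fun c d => mul_right_cancel (gf.eq c d)
  have n1 : ∀ {u}, (a, a) ∈ Θ → (a, u * a) ∈ Θ → u = 1 := fun c d => n d (by rwa [one_mul])
  have z1 := p.esQ.z_ne
  have s1 := p.esR.z_ne
  have zs : z * s ≠ 1 := fun o => p.ne (by rw [← p.esQ.z_inv, inv_eq_of_mul_eq_one_right o])
  have cj : ∀ {u : G}, u * a = a * u → u * a * u⁻¹ = a := fun o => by rw [o, mul_inv_cancel_right]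
  have sx : x * (s * a) * x⁻¹ = s * (x * a * x⁻¹) := by rw [← mul_assoc, ← xs]; group
  rw [show x * y * a * (x * y)⁻¹ = x * (y * a * y⁻¹) * x⁻¹ by group]
  rcases p.mem_V.1 hv with o | o | o | o <;> rw [mul_inv_eq_iff_eq_mul] at o <;> subst o
  · rw [one_mul] at e ⊢
    rw [cj (ky.2 (.inl e)), cj (kx.2 (.inl e))]
  · rw [cj (ky.2 (.inr e)), p.esQ.aes.conj_of_ne hx ha.1 fun o =>
      (kx.1 o).elim (fun c => z1 (n1 c e)) fun c => p.ne (n e c)]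
  · rw [p.esR.aes.conj_of_ne hy ha.2 fun o => (ky.1 o).elim (fun c => s1 (n1 c e)) fun c => p.ne (n c e), sx,
      cj (kx.2 (.inr e))]
  · rw [p.esR.aes.conj_of_ne hy ha.2 fun o => (ky.1 o).elim (fun c => zs (n1 c e)) fun c =>
        s1 (mul_eq_left.1 (n e c)), sx, p.esQ.aes.conj_of_ne hx ha.1 fun o =>
      (kx.1 o).elim (fun c => zs (n1 c e)) fun c => z1 (mul_eq_right.1 (n e c)), ← mul_assoc, p.zs_comm]

variable {Q₁ R₁ : Subgroup X} {z₁ s₁ w : X} {Q₂ R₂ H H' : Subgroup G} {z₂ s₂ : G} {N Δ N' Δ' : Subgroup (X × G)}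

namespace Pm

variable (h : Pm Q₁ R₁ z₁ s₁ Q₂ R₂ H z₂ s₂ N Δ)
include h

theorem cs {x : X} {y : G} (a : (x, y) ∈ N) : s₁ * x = x * s₁ ↔ s₂ * y = y * s₂ := h.toMt.comm_iff a h.ss

theorem cz {x : X} {y : G} (a : (x, y) ∈ N) : z₂ * y = y * z₂ := h.hf.cen _ (h.mem _ a).2

theorem memV {x : X} {y : G} (a : (x, y) ∈ Δ) : x ∈ V4 z₁ s₁ ↔ y ∈ V4 z₂ s₂ := by
  have k := pmul h.dz h.ss
  rw [h.p1.mem_V, h.p2.mem_V]
  refine or_congr ?_ (or_congr ?_ (or_congr ?_ ?_))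
  exacts [⟨fun e => h.toMt.gd _ (e ▸ a), fun e => h.toMt.eq1 (y := 1) (e ▸ a) (one_mem _)⟩,
    ⟨fun e => h.toMt.gd.eq (e ▸ a) h.dz, fun e => h.toMt.eq1 (e ▸ a) h.dz⟩,
    ⟨fun e => h.toMt.gd.eq (e ▸ a) h.ss, fun e => h.toMt.eq1 (e ▸ a) h.ss⟩,
    ⟨fun e => h.toMt.gd.eq (e ▸ a) k, fun e => h.toMt.eq1 (e ▸ a) k⟩]

theorem radH : Rad Q₂ R₂ z₂ s₂ ≤ H := sup_le h.BH (inf_le_left.trans h.toMt.QH)

theorem onRad {r : X} (hr : r ∈ Rad Q₁ R₁ z₁ s₁) : ∃ y ∈ Rad Q₂ R₂ z₂ s₂, (r, y) ∈ N := by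
  have : Rad Q₁ R₁ z₁ s₁ ≤ pull N (Rad Q₂ R₂ z₂ s₂) := sup_le
    (fun x hx => let ⟨y, a⟩ := h.on1 x (mem_centralizer_singleton.1 hx.2)
      mem_pull.2 ⟨y, mem_sup_left ⟨(h.rr _ _ a).1 hx.1, mem_centralizer_singleton.2 (h.cz a)⟩, a⟩)
    fun x hx => let ⟨y, a⟩ := h.d1 x hx.1
      mem_pull.2 ⟨y, mem_sup_right ⟨(h.dm _ a).2, mem_centralizer_singleton.2
        ((h.cs (h.le a)).1 (mem_centralizer_singleton.1 hx.2))⟩, h.le a⟩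
  exact mem_pull.1 (this hr)

theorem cenE (m : ∀ c, (∀ e ∈ Q₁ ⊓ R₁, c * e = e * c) → c ∈ Q₁ ⊓ R₁) {c : G} (hc : c ∈ H)
    (k : ∀ e ∈ Q₂ ⊓ R₂, c * e = e * c) : c ∈ Q₂ ⊓ R₂ := by
  obtain ⟨x, a⟩ := h.on2 c hc
  have := m x fun e he => by
    obtain ⟨f, b⟩ := h.d1 e he.1
    exact ((h.toMt.comm_iff a b).2 (k f ⟨(h.dm _ b).2, (h.rr _ _ (h.le b)).1 he.2⟩).symm).symm
  exact ⟨(h.toMt.memQ a).1 this.1, (h.rr _ _ a).1 this.2⟩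

theorem conj (σ : X × G) {Q₁' R₁' : Subgroup X} {z₁' s₁' : X} {Q₂' R₂' : Subgroup G} {z₂' s₂' : G}
    (p1 : ESPair Q₁' R₁' z₁' s₁') (p2 : ESPair Q₂' R₂' z₂' s₂')
    (a1 : σ.1 * z₁ * σ.1⁻¹ = z₁') (b1 : σ.1 * s₁ * σ.1⁻¹ = s₁') (a2 : σ.2 * z₂ * σ.2⁻¹ = z₂')
    (b2 : σ.2 * s₂ * σ.2⁻¹ = s₂') (c1 : Q₁.map (MulAut.conj σ.1).toMonoidHom = Q₁')
    (d1 : R₁.map (MulAut.conj σ.1).toMonoidHom = R₁') (c2 : Q₂.map (MulAut.conj σ.2).toMonoidHom = Q₂')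
    (d2 : R₂.map (MulAut.conj σ.2).toMonoidHom = R₂') :
    Pm Q₁' R₁' z₁' s₁' Q₂' R₂' (H.map (MulAut.conj σ.2).toMonoidHom) z₂' s₂'
      (N.map (MulAut.conj σ).toMonoidHom) (Δ.map (MulAut.conj σ).toMonoidHom) := by
  subst a1 b1 a2 b2 c1 d1 c2 d2
  exact ⟨h.toMt.conj σ, p1, p2, conj_mem_map_conj σ h.ss, fun x y a => by
    rw [mem_map_conj_iff, mem_map_conj_iff]; exact h.rr _ _ (mem_map_conj_iff.1 a), fun y hy =>
      mem_map_conj_iff.2 (h.BH ⟨mem_map_conj_iff.1 hy.1, mem_centralizer_singleton.2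
        (conj_comm_iff.1 (mem_centralizer_singleton.1 hy.2))⟩)⟩

end Pm

theorem map_conj_self [Finite G] {Q : Subgroup G} {z r : G} (l : Lg Q z) (h : z * r = r * z) :
    Q.map (MulAut.conj r).toMonoidHom = Q :=
  (l.map_conj_eq (g := 1) (by rw [← h]; group)).trans (map_conj_one Q)

theorem exists_sw [Finite G] {Q R : Subgroup G} {z s : G} (p : ESPair Q R z s) : ∃ x ∈ Q ⊔ R, x * z * x⁻¹ = s ∧
    x * s * x⁻¹ = z ∧ Q.map (MulAut.conj x).toMonoidHom = R ∧ R.map (MulAut.conj x).toMonoidHom = Q := by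
  obtain ⟨a, ha, a1, -⟩ := p.symm.exists_q
  obtain ⟨b, hb, b1, -⟩ := p.exists_q
  obtain ⟨x, hx, x1, x2⟩ := p.exists_swap (S := Q ⊔ R) ha hb a1.symm b1.symm (mem_sup_right ha) (mem_sup_left hb)
  have k : ∀ {Q R : Subgroup G} {z s : G}, ESPair Q R z s → x * z * x⁻¹ = s →
      Q.map (MulAut.conj x).toMonoidHom = R := fun p e => by
    obtain ⟨g, rfl, rfl⟩ := p.conj
    exact p.lgQ.map_conj_eq e
  exact ⟨x, hx, x1, x2, k p x1, k p.symm x2⟩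

/-- Two matchings that agree modulo the radical. -/
structure Tw (Q₁ R₁ : Subgroup X) (z₁ s₁ : X) (Q₂ R₂ H H' : Subgroup G) (z₂ s₂ : G)
    (N Δ N' Δ' : Subgroup (X × G)) : Prop where
  a : Pm Q₁ R₁ z₁ s₁ Q₂ R₂ H z₂ s₂ N Δ
  b : Pm R₁ Q₁ s₁ z₁ R₂ Q₂ H' s₂ z₂ N' Δ'
  rel : ∀ x y y', (x, y) ∈ N → (x, y') ∈ N' → y' * y⁻¹ ∈ Rad Q₂ R₂ z₂ s₂

theorem Pm.exists_tw [Finite X] [Finite G] (h : Pm Q₁ R₁ z₁ s₁ Q₂ R₂ H z₂ s₂ N Δ) :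
    ∃ H' N' Δ', Tw Q₁ R₁ z₁ s₁ Q₂ R₂ H H' z₂ s₂ N Δ N' Δ' := by
  obtain ⟨x, hx, x1, x2, x3, x4⟩ := exists_sw h.p1
  obtain ⟨y, hy, y1, y2, y3, y4⟩ := exists_sw h.p2
  have b := h.conj (x, y) h.p1.symm h.p2.symm x1 x2 y1 y2 x3 x4 y3 y4
  refine ⟨_, _, _, h, b, fun d u v hu hv => ?_⟩
  have d1 := (h.mem _ hu).1
  have d2 := (b.mem _ hv).1
  obtain ⟨r, hr, k⟩ := h.onRad (h.p1.comm_X_C (inv_mem hx) d (mem_centralizer_closure_pair.2 ⟨d1, d2⟩))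
  have k1 := pmul k hu
  rw [inv_mul_cancel_right, inv_inv] at k1
  have k2 := h.p2.comm_X_C (inv_mem hy) v (mem_centralizer_closure_pair.2 ⟨(b.cs hv).1 d1, b.cz hv⟩)
  rw [inv_inv] at k2
  have zr : z₂ ∈ Rad Q₂ R₂ z₂ s₂ := mem_sup_left ⟨h.p2.z_mem, mem_centralizer_singleton.2 rfl⟩
  have k3 : (x⁻¹ * d * x, y⁻¹ * v * y) ∈ N := mem_map_conj_iff.1 hv
  rcases h.toMt.eqv2 k3 k1 with e | e <;> rw [e] at k2
  · simpa [mul_assoc] using mul_mem (inv_mem k2) hr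
  · convert mul_mem (inv_mem k2) (mul_mem zr hr) using 1
    group

namespace Tw

variable (h : Tw Q₁ R₁ z₁ s₁ Q₂ R₂ H H' z₂ s₂ N Δ N' Δ')
include h

theorem symm : Tw R₁ Q₁ s₁ z₁ R₂ Q₂ H' H s₂ z₂ N' Δ' N Δ :=
  ⟨h.b, h.a, fun x y y' a b => by simpa [Rad, sup_comm] using inv_mem (h.rel x y' y b a)⟩

theorem conj [Finite X] [Finite G] {r : G} (hr : r ∈ Rad Q₂ R₂ z₂ s₂) :
    Tw Q₁ R₁ z₁ s₁ Q₂ R₂ H (H'.map (MulAut.conj r).toMonoidHom) z₂ s₂ N Δ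
      (N'.map (MulAut.conj ((1, r) : X × G)).toMonoidHom) (Δ'.map (MulAut.conj ((1, r) : X × G)).toMonoidHom) := by
  obtain ⟨r1, r2⟩ := rad_cen h.a.p2 hr
  refine ⟨h.a, h.b.conj (1, r) h.b.p1 h.b.p2 (by simp) (by simp) (by simp [← r2]) (by simp [← r1]) (map_conj_one _)
    (map_conj_one _) (map_conj_self h.a.p2.lgR r2) (map_conj_self h.a.p2.lgQ r1), fun x y y' a b => ?_⟩
  have b' : (x, r⁻¹ * y' * r) ∈ N' := by simpa using mem_map_conj_iff.1 b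
  have k := h.rel _ _ _ a b'
  convert mul_mem (mul_mem hr k) (rad_norm h.a.p2 (h.a.cz a) ((h.a.cs a).1 (h.b.mem _ b').1) (inv_mem hr)) using 1
  group

theorem E2 {e : X} {a : G} (k : (e, a) ∈ Δ) (he : e ∈ R₁) : a ∈ Q₂ ⊓ R₂ := ⟨(h.a.dm _ k).2, (h.a.rr _ _ (h.a.le k)).1 he⟩

theorem E2' {e : X} {a : G} (k : (e, a) ∈ Δ') (he : e ∈ Q₁) : a ∈ Q₂ ⊓ R₂ := ⟨(h.symm.E2 k he).2, (h.symm.E2 k he).1⟩

theorem step1 [Finite X] [Finite G] (m : Md Q₁ R₁ z₁ s₁ w) {e : X} {a b : G} (ha : (e, a) ∈ Δ)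
    (hb : (e, b) ∈ Δ') : a * b⁻¹ ∈ V4 z₂ s₂ := by
  have P := h.a.p2
  let T : Subgroup X :=
    { carrier := {e | ∃ a b, (e, a) ∈ Δ ∧ (e, b) ∈ Δ' ∧ a * b⁻¹ ∈ V4 z₂ s₂}
      one_mem' := ⟨1, 1, one_mem _, one_mem _, by simp⟩
      mul_mem' := by
        rintro e f ⟨a, b, h1, h2, h3⟩ ⟨c, d, k1, k2, k3⟩
        refine ⟨_, _, pmul h1 k1, pmul h2 k2, ?_⟩
        have := P.E_comm (P.V_le_E k3) (inv_mem (h.E2' h2 (h.a.dm _ h1).1))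
        convert mul_mem h3 k3 using 1
        rw [mul_assoc a b⁻¹, ← this]; group
      inv_mem' := by
        rintro e ⟨a, b, h1, h2, h3⟩
        refine ⟨_, _, pinv h1, pinv h2, ?_⟩
        convert inv_mem h3 using 1
        rw [inv_inv, mul_inv_rev, inv_inv,
          P.E_comm (inv_mem (h.E2 h1 (h.b.dm _ h2).1)) (h.E2' h2 (h.a.dm _ h1).1)] }
  have key : ∀ {d u v b}, (d, u) ∈ N → (d, v) ∈ N' → b ∈ Q₂ ⊓ R₂ →
      v * b * v⁻¹ * (u * b * u⁻¹)⁻¹ ∈ V4 z₂ s₂ := fun {d u v b} hu hv hb => by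
    convert P.comm_X_E (P.rad_le_X (h.rel _ _ _ hu hv)) (u * b * u⁻¹) ⟨P.lgQ.norm u (h.a.cz hu) b hb.1,
      P.lgR.norm u ((h.a.cs hu).1 (h.b.mem _ hv).1) b hb.2⟩ using 2
    group
  have hw : w ∈ T := by
    obtain ⟨b, hb⟩ := h.b.d1 w m.wE.2
    have bE := h.E2' hb m.wE.1
    obtain ⟨e, he⟩ := h.a.d2 b bE.1
    obtain ⟨a, ha⟩ := h.a.d1 w m.wE.1
    rcases m.fix e ⟨(h.a.dm _ he).1, (h.a.rr _ _ (h.a.le he)).2 bE.2⟩ (fun d d1 d2 k => by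
      obtain ⟨u, hu⟩ := h.a.on1 d d1
      obtain ⟨v, hv⟩ := h.b.on1 d d2
      have k1 := (h.b.memV (pmul (h.b.toMt.cj hv hb) (pinv hb))).1 (v4_comm z₁ s₁ ▸ k)
      rw [v4_comm] at k1
      refine (h.a.memV (pmul (h.a.toMt.cj hu he) (pinv he))).2 ?_
      convert mul_mem (inv_mem (key hu hv bE)) k1 using 1
      group) with o | o
    · exact (m.wV (v4_comm s₁ z₁ ▸ (h.b.memV hb).2 (v4_comm z₂ s₂ ▸ (h.a.memV he).1 o))).elim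
    · exact ⟨a, b, ha, hb, by simpa using inv_mem ((h.a.memV (pmul he (pinv ha))).1 o)⟩
  obtain ⟨a', b', h1, h2, h3⟩ := m.gen T ((closure_le _).2 (by
    rintro _ (rfl | rfl)
    exacts [⟨_, _, h.a.dz, h.b.ss, by simp⟩, ⟨_, _, h.a.ss, h.b.dz, by simp⟩])) (fun d d1 d2 => by
      obtain ⟨a, b, h1, h2, h3⟩ := hw
      obtain ⟨u, hu⟩ := h.a.on1 d d1
      obtain ⟨v, hv⟩ := h.b.on1 d d2
      refine ⟨_, _, h.a.toMt.cj hu h1, h.b.toMt.cj hv h2, ?_⟩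
      convert mul_mem h3 (inv_mem (key hu hv (h.E2' h2 m.wE.1))) using 1
      rw [← v4_norm (h.a.cz hu) ((h.a.cs hu).1 d2) h3]
      group) ⟨(h.a.dm _ ha).1, (h.b.dm _ hb).1⟩
  rwa [h.a.toMt.gd.eq ha h1, h.b.toMt.gd.eq hb h2]

theorem step2 [Finite X] [Finite G] (m : Md Q₁ R₁ z₁ s₁ w) : ∃ H' N' Δ',
    Tw Q₁ R₁ z₁ s₁ Q₂ R₂ H H' z₂ s₂ N Δ N' Δ' ∧ ∀ e a, (e, a) ∈ Δ → e ∈ R₁ → (e, a) ∈ Δ' := by
  let Θ : Subgroup (G × G) :=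
    { carrier := {t | ∃ e, (e, t.1) ∈ Δ' ∧ (e, t.2) ∈ Δ}
      one_mem' := ⟨1, one_mem _, one_mem _⟩
      mul_mem' := fun ⟨_, a, b⟩ ⟨_, c, d⟩ => ⟨_, pmul a c, pmul b d⟩
      inv_mem' := fun ⟨_, a, b⟩ => ⟨_, pinv a, pinv b⟩ }
  obtain ⟨r, hr, k⟩ := exists_rad h.a.p2 (Θ := Θ)
    (fun y ⟨e, a, b⟩ => h.a.toMt.gd y (h.b.toMt.eq1 (x' := 1) a (one_mem _) ▸ b))
    (fun a b ⟨e, c, d⟩ => ⟨h.E2' c (h.a.dm _ d).1, h.step1 m d c⟩) (fun a ha => by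
      obtain ⟨e, c⟩ := h.b.d2 a ha.2
      obtain ⟨b, d⟩ := h.a.d1 e ((h.b.rr _ _ (h.b.le c)).2 ha.1)
      exact ⟨b, e, c, d⟩) ⟨_, h.b.ss, h.a.dz⟩ ⟨_, h.b.dz, h.a.ss⟩
  refine ⟨_, _, _, h.conj hr, fun e a ha he => ?_⟩
  obtain ⟨b, hb⟩ := h.b.d1 e he
  convert conj_mem_map_conj (1, r) hb using 1
  exact Prod.ext (by simp) (k b a ⟨e, hb, ha⟩).symm

section Agree

variable [Finite X] [Finite G] (m : ∀ c, (∀ e ∈ Q₁ ⊓ R₁, c * e = e * c) → c ∈ Q₁ ⊓ R₁)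
  (ag : ∀ e a, (e, a) ∈ Δ → e ∈ R₁ → (e, a) ∈ Δ')
include m ag

theorem step3 {d : X} {u v : G} (hu : (d, u) ∈ N) (hv : (d, v) ∈ N') : v * u⁻¹ ∈ Q₂ ⊓ R₂ := by
  refine h.a.cenE m (h.a.radH (h.rel _ _ _ hu hv)) fun b hb => ?_
  have b1 := h.a.p2.lgQ.norm' (h.a.cz hu) hb.1
  have b2 := h.a.p2.lgR.norm' ((h.a.cs hu).1 (h.b.mem _ hv).1) hb.2
  obtain ⟨e, he⟩ := h.a.d2 _ b1
  have k1 := h.b.toMt.cj hv (ag _ _ he ((h.a.rr _ _ (h.a.le he)).2 b2))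
  have k2 := h.b.toMt.gd.eq k1 (ag _ _ (h.a.toMt.cj hu he) (h.b.dm _ k1).1)
  calc _ = v * (u⁻¹ * b * u) * v⁻¹ * (v * u⁻¹) := by group
    _ = _ := by rw [k2]; group

theorem step4 {a : X} {u v : G} (hu : (a, u) ∈ Δ) (hv : (a, v) ∈ N') : v * u⁻¹ ∈ V4 z₂ s₂ := by
  have P := h.a.p2
  have cE := h.step3 m ag (h.a.le hu) hv
  rw [v4_comm]
  refine P.symm.mem_V_of_centralizes (P.esR.z_comm _ cE.2) fun y hy yz => ?_
  obtain ⟨b, hb⟩ := h.b.d2 y hy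
  obtain ⟨x, hx⟩ := h.a.on1 b ((h.b.cs (h.b.le hb)).2 yz.symm)
  have dE := h.step3 m ag hx (h.b.le hb)
  have k1 := pmul (h.b.toMt.cj hv hb) (pinv hb)
  have k2 := pmul hu (h.a.toMt.cj hx (pinv hu))
  rw [← mul_assoc, ← mul_assoc] at k2
  have k3 := h.b.toMt.gd.eq k1 (ag _ _ k2 (h.b.dm _ k1).1)
  have uQ := (h.a.dm _ hu).2
  have us := (h.a.cs (h.a.le hu)).1 (h.b.mem _ hv).1
  have fE : u * y * u⁻¹ * y⁻¹ ∈ Q₂ ⊓ R₂ := mem_inf.2 ⟨by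
    simpa only [mul_assoc] using mul_mem uQ (P.lgQ.norm y yz.symm _ (inv_mem uQ)),
    mul_mem (P.lgR.norm u us y hy) (inv_mem hy)⟩
  set c := v * u⁻¹
  set d := y * x⁻¹
  have k4 : c * y * c⁻¹ * y⁻¹ = d * (u * d⁻¹ * u⁻¹) := by
    apply mul_left_cancel (a := u * y * u⁻¹ * y⁻¹)
    calc _ = c * (u * y * u⁻¹ * y⁻¹) * y * c⁻¹ * y⁻¹ := by rw [P.E_comm cE fE]; group
      _ = u * (x * u⁻¹ * x⁻¹) := by rw [← k3]; simp only [c]; group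
      _ = u * d⁻¹ * u⁻¹ * (u * y * u⁻¹ * y⁻¹ * d) := by simp only [d]; group
      _ = _ := by
        rw [P.E_comm ⟨P.lgQ.norm u (P.esQ.z_comm u uQ) _ (inv_mem dE.1), P.lgR.norm u us _ (inv_mem dE.2)⟩
          (mul_mem fE dE), mul_assoc]
  rcases P.esR.aes.conj_eq cE.2 hy with o | o
  · exact mul_inv_eq_iff_eq_mul.1 o
  · rw [o, mul_inv_cancel_right] at k4
    rcases P.esQ.aes.conj_eq uQ (inv_mem dE.1) with o' | o' <;> rw [o'] at k4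
    · exact (P.esR.z_ne (by simpa using k4)).elim
    · exact (P.ne (by rw [k4, ← mul_assoc, ← P.esQ.z_comm d dE.1, mul_inv_cancel_right])).elim

theorem step5 : ∃ H' N' Δ', Tw Q₁ R₁ z₁ s₁ Q₂ R₂ H H' z₂ s₂ N Δ N' Δ' ∧
    (∀ e a, (e, a) ∈ Δ → e ∈ R₁ → (e, a) ∈ Δ') ∧ ∀ a u, (a, u) ∈ Δ → s₁ * a = a * s₁ → (a, u) ∈ N' := by
  have P := h.a.p2
  have k : ∀ a u, (a, u) ∈ Δ → s₁ * a = a * s₁ → (a, u) ∈ N' ∨ (a, z₂ * u) ∈ N' := fun a u hu as => by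
    obtain ⟨v, hv⟩ := h.b.on1 a as
    have hs := h.b.toMt.zmul hv
    rcases P.mem_V.1 (h.step4 m ag hu hv) with e | e | e | e <;> rw [mul_inv_eq_iff_eq_mul] at e <;> subst e
    · exact .inl (by simpa using hv)
    · exact .inr hv
    · exact .inl (by rwa [P.esR.z_mul_z_mul] at hs)
    · exact .inr (by rwa [P.zs_comm, mul_assoc, P.esR.z_mul_z_mul] at hs)
  obtain ⟨e, he, ke⟩ := P.esQ.exists_comm_iff (A := Q₂ ⊓ centralizer {s₂}) inf_le_left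
    ((Δ ⊓ N').map (MonoidHom.snd X G)) (fun u hu v hv nu nv => by
      obtain ⟨a, ha⟩ := h.a.d2 u hu.1
      obtain ⟨b, hb⟩ := h.a.d2 v hv.1
      have := pmul ((k a u ha ((h.a.cs (h.a.le ha)).2 (mem_centralizer_singleton.1 hu.2))).resolve_left
        fun o => nu ⟨_, ⟨ha, o⟩, rfl⟩) ((k b v hb ((h.a.cs (h.a.le hb)).2
          (mem_centralizer_singleton.1 hv.2))).resolve_left fun o => nv ⟨_, ⟨hb, o⟩, rfl⟩)
      rw [Commute.mul_mul_mul_comm (P.esQ.z_comm u hu.1).symm, P.esQ.z_sq, one_mul] at this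
      exact ⟨_, ⟨pmul ha hb, this⟩, rfl⟩) fun _ => ⟨_, ⟨h.a.dz, h.b.le h.b.ss⟩, rfl⟩
  have eE := h.a.cenE m (h.a.toMt.QH he) fun f hf => (ke f ⟨hf.1, mem_centralizer_singleton.2
    (P.esR.z_comm f hf.2)⟩).2 (by
      obtain ⟨a, ha⟩ := h.a.d2 f hf.1
      exact ⟨_, ⟨ha, h.b.le (ag _ _ ha ((h.a.rr _ _ (h.a.le ha)).2 hf.2))⟩, rfl⟩)
  refine ⟨_, _, _, h.conj (P.E_le_rad eE), fun a u hu ha => ?_, fun a u hu as => ?_⟩
  · convert conj_mem_map_conj (1, e) (ag _ _ hu ha) using 1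
    exact Prod.ext (by simp) (mul_inv_eq_iff_eq_mul.2 (P.E_comm eE (h.E2 hu ha))).symm
  · have uQ := (h.a.dm _ hu).2
    replace ke := ke u ⟨uQ, mem_centralizer_singleton.2 ((h.a.cs (h.a.le hu)).1 as)⟩
    by_cases o : (a, u) ∈ N'
    · convert conj_mem_map_conj (1, e) o using 1
      exact Prod.ext (by simp) (mul_inv_eq_iff_eq_mul.2 (ke.2 ⟨_, ⟨hu, o⟩, rfl⟩)).symm
    · convert conj_mem_map_conj (1, e) ((k a u hu as).resolve_left o) using 1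
      refine Prod.ext (by simp) ?_
      change u = e * (z₂ * u) * e⁻¹
      rw [← mul_assoc, ← P.esQ.z_comm e he, mul_assoc z₂, mul_assoc z₂, P.esQ.aes.conj_of_ne he uQ fun c => by
        obtain ⟨⟨a', _⟩, ⟨c1, c2⟩, rfl⟩ := ke.1 c
        exact o (h.a.toMt.eq1 c1 hu ▸ c2), P.esQ.z_mul_z_mul]

theorem step6 (dA : ∀ a u, (a, u) ∈ Δ → s₁ * a = a * s₁ → (a, u) ∈ N') {d : X} (d1 : z₁ * d = d * z₁)
    (d2 : s₁ * d = d * s₁) : ∃ y, (d, y) ∈ N ∧ (d, y) ∈ N' := by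
  have P := h.a.p2
  obtain ⟨u, hu⟩ := h.a.on1 d d1
  obtain ⟨v, hv⟩ := h.b.on1 d d2
  have cE := h.step3 m ag hu hv
  have cV := P.mem_V_of_centralizes (P.esQ.z_comm _ cE.1) fun y hy ys => by
    have y1 := P.lgQ.norm' (h.a.cz hu) hy
    obtain ⟨a, ha⟩ := h.a.d2 _ y1
    have us := (h.a.cs hu).1 d2
    have as := (h.a.cs (h.a.le ha)).2 (cen_mul (cen_mul (cen_inv us) ys.symm) us)
    have k1 := pmul (pmul hv (dA _ _ ha as)) (pinv hv)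
    have k2 := dA _ _ (h.a.toMt.cj hu ha) (cen_mul (cen_mul d2 as) (cen_inv d2))
    rw [show v * (u⁻¹ * y * u) * v⁻¹ = v * u⁻¹ * y * (v * u⁻¹)⁻¹ by group] at k1
    rw [show u * (u⁻¹ * y * u) * u⁻¹ = y by group] at k2
    rcases h.b.toMt.eqv2 k1 k2 with o | o
    · exact mul_inv_eq_iff_eq_mul.1 o
    · rcases P.esQ.aes.conj_eq cE.1 hy with o' | o' <;> rw [o'] at o
      exacts [(P.esR.z_ne (mul_eq_right.1 o.symm)).elim, (P.ne (mul_right_cancel o)).elim]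
  have hs := h.b.toMt.zmul hv
  rcases P.mem_V.1 cV with e | e | e | e <;> rw [mul_inv_eq_iff_eq_mul] at e <;> subst e
  · exact ⟨u, hu, by simpa using hv⟩
  · exact ⟨_, h.a.toMt.zmul hu, hv⟩
  · exact ⟨u, hu, by rwa [P.esR.z_mul_z_mul] at hs⟩
  · exact ⟨_, h.a.toMt.zmul hu, by rwa [P.zs_comm, mul_assoc, P.esR.z_mul_z_mul] at hs⟩

end Agree

end Tw

/-- Two matchings whose intersection is a graph over `C(z₁, s₁)`. -/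
structure Sy (Q₁ R₁ : Subgroup X) (z₁ s₁ : X) (Q₂ R₂ H H' : Subgroup G) (z₂ s₂ : G)
    (N Δ N' Δ' : Subgroup (X × G)) : Prop where
  a : Pm Q₁ R₁ z₁ s₁ Q₂ R₂ H z₂ s₂ N Δ
  b : Pm R₁ Q₁ s₁ z₁ R₂ Q₂ H' s₂ z₂ N' Δ'
  dA : ∀ a u, (a, u) ∈ Δ → s₁ * a = a * s₁ → (a, u) ∈ N'
  dB : ∀ a u, (a, u) ∈ Δ' → z₁ * a = a * z₁ → (a, u) ∈ N
  on : ∀ d, z₁ * d = d * z₁ → s₁ * d = d * s₁ → ∃ y, (d, y) ∈ N ∧ (d, y) ∈ N'

theorem Pm.exists_sy [Finite X] [Finite G] (h : Pm Q₁ R₁ z₁ s₁ Q₂ R₂ H z₂ s₂ N Δ) (m : Md Q₁ R₁ z₁ s₁ w) :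
    ∃ H' N' Δ', Sy Q₁ R₁ z₁ s₁ Q₂ R₂ H H' z₂ s₂ N Δ N' Δ' := by
  obtain ⟨_, _, _, t⟩ := h.exists_tw
  obtain ⟨_, _, _, t, ag⟩ := t.step2 m
  obtain ⟨H', N', Δ', t, ag, dA⟩ := t.step5 m.cenE ag
  have on := fun d => t.step6 m.cenE ag dA (d := d)
  refine ⟨H', N', Δ', h, t.b, dA, fun a u hu az => ?_, on⟩
  have k : ∀ a u, (a, u) ∈ Δ' → z₁ * a = a * z₁ → (a, u) ∈ N ∨ (a, s₂ * u) ∈ N := fun a u hu az => by
    obtain ⟨y, y1, y2⟩ := on a az (t.b.es1.z_comm a (t.b.dm _ hu).1)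
    rcases t.b.toMt.eqv2 y2 (t.b.le hu) with e | e <;> rw [e] at y1
    exacts [.inl y1, .inr y1]
  obtain ⟨⟨_, v⟩, ⟨k1, k2⟩, rfl⟩ := m.invB (T := (Δ' ⊓ N).map (MonoidHom.fst X G)) (fun e he => by
    obtain ⟨y, hy⟩ := h.d1 e he.1
    exact ⟨_, ⟨ag _ _ hy he.2, h.le hy⟩, rfl⟩) (fun x hx y hy nx ny => by
      obtain ⟨u, hu⟩ := t.b.d1 x hx.1
      obtain ⟨v, hv⟩ := t.b.d1 y hy.1
      have := pmul ((k x u hu (mem_centralizer_singleton.1 hx.2)).resolve_left fun o => nx ⟨_, ⟨hu, o⟩, rfl⟩)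
        ((k y v hv (mem_centralizer_singleton.1 hy.2)).resolve_left fun o => ny ⟨_, ⟨hv, o⟩, rfl⟩)
      rw [Commute.mul_mul_mul_comm (t.b.es2.z_comm u (t.b.dm _ hu).2).symm, t.b.es2.z_sq, one_mul] at this
      exact ⟨_, ⟨pmul hu hv, this⟩, rfl⟩) (fun d d1 d2 => by
      rintro _ - ⟨⟨x, u⟩, ⟨x1, x2⟩, rfl⟩
      obtain ⟨y, y1, y2⟩ := on d d1 d2
      exact ⟨_, ⟨t.b.toMt.cj y2 x1, pmul (pmul y1 x2) (pinv y1)⟩, rfl⟩)
    ⟨(t.b.dm _ hu).1, mem_centralizer_singleton.2 az⟩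
  exact t.b.toMt.gd.eq k1 hu ▸ k2

end Cfsg.Agent.E6R
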