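import Mathlib
import Cfsg.Agent.E6R.T2A

/-! The graphs over `C(z)` and `N(⟨z, s⟩)`. -/

set_option autoImplicit false

namespace Cfsg.Agent.E6R

open Subgroup Cfsg.Agent.Spor

variable {X G : Type*} [Group X] [Group G]

theorem exists_split {A : Type*} [Group A] [Finite A] {ζ : A} (z2 : ζ * ζ = 1) (zc : ∀ a, ζ * a = a * ζ)
    {P K : Subgroup A} (hP : Odd P.index) (hz : ζ ∈ P) (nz : ζ ∉ K) (k : ∀ a ∈ P, a ∈ K ∨ ζ * a ∈ K) :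
    ∃ T : Subgroup A, ζ ∉ T ∧ ∀ a, a ∈ T ∨ ζ * a ∈ T := by
  let χ := signHom P K fun a ha b hb na nb => by
    have := mul_mem ((k a ha).resolve_left na) ((k b hb).resolve_left nb)
    rwa [Commute.mul_mul_mul_comm (zc a).symm, z2, one_mul] at this
  have e : MonoidHom.transfer χ ζ ≠ 1 := by
    rw [MonoidHom.transfer_eq_pow χ ζ fun n g _ => by
      rw [mul_assoc, (Commute.pow_left (zc g) n).eq, inv_mul_cancel_left], Ne, signHom_eq_one_iff]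
    obtain ⟨n, hn⟩ := hP
    change ζ ^ P.index ∉ K
    rwa [hn, pow_succ, pow_mul, sq, z2, one_pow, one_mul]
  have sq : ∀ a, MonoidHom.transfer χ a * MonoidHom.transfer χ a = 1 := fun a => by
    have : ∀ x, χ x * χ x = 1 := fun x => by
      rw [← map_mul, signHom_eq_one_iff, coe_mul]
      rcases k x x.2 with o | o
      · exact mul_mem o o
      · have := mul_mem o o
        rwa [Commute.mul_mul_mul_comm (zc x).symm, z2, one_mul] at this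
    simp only [MonoidHom.transfer, MonoidHom.coe_mk, OneHom.coe_mk, leftTransversals.diff]
    rw [← Finset.prod_mul_distrib]
    exact Finset.prod_eq_one fun _ _ => this _
  refine ⟨(MonoidHom.transfer χ).ker, e, fun a => or_iff_not_imp_left.2 fun na => ?_⟩
  rw [MonoidHom.mem_ker, map_mul, units_eq_neg_one_of_sq (sq ζ) e, units_eq_neg_one_of_sq (sq a) na]
  simp

theorem cjf {u a : G} (o : a * u = u * a) : u * a * u⁻¹ = a := by rw [← o, mul_inv_cancel_right]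

theorem c3 {t x y u : G} (e1 : t * x * t⁻¹ = y) (e2 : t * y * t⁻¹ = u) (e3 : t * u * t⁻¹ = x) :
    x * (t * t * t) = t * t * t * x := by
  nth_rewrite 1 [← e3, ← e2, ← e1]
  group

theorem s3_act {z s a b : G} (z2 : z * z = 1) (c : z * s = s * z) (az : a * z * a⁻¹ = z)
    (as : a * s * a⁻¹ = z * s) (bz : b * z * b⁻¹ = s * z) (bs : b * s * b⁻¹ = s) :
    a * b * z * (a * b)⁻¹ = s ∧ a * b * s * (a * b)⁻¹ = z * s ∧ a * b * (z * s) * (a * b)⁻¹ = z := by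
  have h1 : a * b * z * (a * b)⁻¹ = s := by
    calc _ = a * (b * z * b⁻¹) * a⁻¹ := by group
      _ = _ := by rw [bz, ← conj_mul, as, az, c, mul_assoc, z2, mul_one]
  have h2 : a * b * s * (a * b)⁻¹ = z * s := by
    calc _ = a * (b * s * b⁻¹) * a⁻¹ := by group
      _ = _ := by rw [bs, as]
  refine ⟨h1, h2, ?_⟩
  have s2 : s * s = 1 := by rw [← h1, conj_mul, z2, mul_one, mul_inv_cancel]
  rw [← conj_mul, h1, h2, ← mul_assoc, ← c, mul_assoc, s2, mul_one]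

variable {Q₁ R₁ : Subgroup X} {z₁ s₁ w : X} {Q₂ R₂ H H' : Subgroup G} {z₂ s₂ : G} {N Δ N' Δ' : Subgroup (X × G)}

namespace Sy

variable (h : Sy Q₁ R₁ z₁ s₁ Q₂ R₂ H H' z₂ s₂ N Δ N' Δ')
include h

theorem symm : Sy R₁ Q₁ s₁ z₁ R₂ Q₂ H' H s₂ z₂ N' Δ' N Δ :=
  ⟨h.b, h.a, h.dB, h.dA, fun d a b => let ⟨y, c, e⟩ := h.on d b a; ⟨y, e, c⟩⟩

theorem gf : Gf (N ⊓ N') := fun y hy => (h.a.k2 y hy.1).elim id fun a => (h.b.k2 y hy.2).elim id fun b =>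
  (h.a.p2.ne (a.symm.trans b)).elim

theorem norm [Finite X] {δ : X × G} (hδ : δ ∈ Δ) : δ ∈ normalizer ((N ⊓ N' : Subgroup (X × G)) : Set (X × G)) := by
  have k : ∀ δ ∈ Δ, ∀ γ ∈ N ⊓ N', δ * γ * δ⁻¹ ∈ N ⊓ N' := fun δ hδ γ hγ => by
    have k1 : δ * (γ * δ⁻¹ * γ⁻¹) ∈ Δ := mul_mem hδ (h.a.nm _ hγ.1 _ (inv_mem hδ))
    have k2 := h.a.p1.comm_Q_C (h.a.dm _ hδ).1
      (mem_centralizer_closure_pair.2 ⟨(h.a.mem _ hγ.1).1, (h.b.mem _ hγ.2).1⟩)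
    have k3 : δ * (γ * δ⁻¹ * γ⁻¹) ∈ N ⊓ N' := ⟨h.a.le k1, h.dA _ _ k1 (by
      simpa only [mul_assoc, Prod.fst_mul, Prod.fst_inv] using mem_centralizer_singleton.1 k2.2)⟩
    simpa only [mul_assoc, inv_mul_cancel, mul_one] using mul_mem k3 hγ
  exact mem_normalizer_iff.2 fun γ => ⟨k δ hδ γ, fun a => by simpa [mul_assoc] using k _ (inv_mem hδ) _ a⟩

theorem sq {δ : X × G} (hδ : δ ∈ Δ) : δ * δ ∈ N ⊓ N' :=
  ⟨h.a.le (mul_mem hδ hδ), h.dA _ _ (mul_mem hδ hδ) (by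
    change s₁ * (δ.1 * δ.1) = δ.1 * δ.1 * s₁
    rcases h.a.es1.sq _ (h.a.dm _ hδ).1 with e | e <;> rw [e]
    exacts [by simp, h.a.p1.zs_comm.symm])⟩

theorem exists_g1 [Finite X] [Finite G] (m : Md Q₁ R₁ z₁ s₁ w) {B : Subgroup X} (hB : Odd B.index)
    (hb : ∀ u ∈ B, z₁ * u = u * z₁ ∧ (u * s₁ * u⁻¹ = s₁ ∨ u * s₁ * u⁻¹ = z₁ * s₁)) :
    ∃ Γ ≤ N, (1, z₂) ∉ Γ ∧ (∀ n ∈ N, n ∈ Γ ∨ (1, z₂) * n ∈ Γ) ∧ N ⊓ N' ≤ Γ ∧ Δ ≤ Γ := by
  have p := m.pair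
  obtain ⟨q, hq, qw, qs⟩ : ∃ q ∈ Q₁, q * w = w * q ∧ q * s₁ ≠ s₁ * q := by
    by_contra! k
    rcases p.esQ.center_centralizer m.wE.1 p.s_mem k with (e | e) | e | e
    · exact p.esR.z_ne e
    · exact p.ne (e.trans (mul_one _)).symm
    · exact m.wV (e ▸ p.s_mem_V)
    · exact m.wV ((mul_mem_cancel_left p.z_mem_V).1 (e ▸ p.s_mem_V))
  obtain ⟨r, hr⟩ := h.a.d1 q hq
  have qc := p.esQ.aes.conj_of_ne hq p.s_mem qs
  obtain ⟨K, hK⟩ := exists_ext2 (N ⊓ N') (q, r) (fun a ha => (mem_normalizer_iff.1 (h.norm hr) a).1 ha) (h.sq hr)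
  have zc : ∀ n ∈ N, (1, z₂) * n = n * (1, z₂) := fun n a => Prod.ext (by simp) (h.a.cz (x := n.1) a)
  have z2 : ((1, z₂) : X × G) * (1, z₂) = 1 := Prod.ext (mul_one 1) h.a.es2.z_sq
  have half : ∀ n ∈ N, s₁ * n.1 = n.1 * s₁ → n ∈ N ⊓ N' ∨ (1, z₂) * n ∈ N ⊓ N' := fun n a e => by
    obtain ⟨y, y1, y2⟩ := h.on n.1 (h.a.mem _ a).1 e
    rcases h.a.toMt.eqv2 y1 (show (n.1, n.2) ∈ N from a) with o | o <;> subst o
    exacts [.inl ⟨y1, y2⟩, .inr ((Prod.ext (one_mul _) rfl : (1, z₂) * n = (n.1, z₂ * n.2)) ▸ ⟨y1, y2⟩)]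
  let f := (MonoidHom.fst X G).comp N.subtype
  obtain ⟨T, t1, t2⟩ := exists_split (ζ := (⟨(1, z₂), h.a.hz⟩ : N)) (Subtype.ext z2)
    (fun a => Subtype.ext (zc a a.2)) (P := B.comap f) (K := K.subgroupOf N) (by
      rw [index_comap]
      refine hB.of_dvd_nat (relIndex_dvd_index_of_le fun u hu => ?_)
      obtain ⟨y, hy⟩ := h.a.on1 u (hb u hu).1
      exact ⟨⟨(u, y), hy⟩, rfl⟩) B.one_mem (fun a => by
      rcases (hK _).1 a with a | a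
      · exact h.a.es2.z_ne (h.gf _ a)
      · exact qs (by simpa using (h.b.mem _ a.2).1.symm)) fun a ha => by
      rcases (hb _ ha).2 with e | e
      · exact (half a a.2 (mul_inv_eq_iff_eq_mul.1 e).symm).imp (fun o => (hK _).2 (.inl o)) fun o => (hK _).2 (.inl o)
      · have m1 := mul_mem (h.a.le hr) a.2
        refine (half _ m1 ?_).imp (fun o => (hK _).2 (.inr o)) fun o => (hK _).2 (.inr ?_)
        · change s₁ * (q * f a) = q * f a * s₁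
          rw [eq_comm, ← mul_inv_eq_iff_eq_mul, show q * f a * s₁ * (q * f a)⁻¹ = q * (f a * s₁ * (f a)⁻¹) * q⁻¹ by
            group, e, ← conj_mul, qc, ← p.esQ.z_comm q hq, mul_inv_cancel_right, p.esQ.z_mul_z_mul]
        · rwa [← mul_assoc, zc _ (h.a.le hr), mul_assoc] at o
  have n1 : (1, z₂) ∉ T.map N.subtype := fun ⟨x, a, e⟩ => t1 ((Subtype.ext e : x = ⟨_, h.a.hz⟩) ▸ a)
  have n2 : ∀ n ∈ N, n ∈ T.map N.subtype ∨ (1, z₂) * n ∈ T.map N.subtype := fun n a =>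
    (t2 ⟨n, a⟩).imp (fun o => ⟨_, o, rfl⟩) fun o => ⟨_, o, rfl⟩
  have le := map_subtype_le T
  generalize T.map N.subtype = Γ at n1 n2 le
  have two : ∀ a ∈ N, ∀ b ∈ N, a ∉ Γ → b ∉ Γ → a * b ∈ Γ := fun a ha b hb na nb => by
    have := mul_mem ((n2 a ha).resolve_left na) ((n2 b hb).resolve_left nb)
    rwa [Commute.mul_mul_mul_comm (zc a ha).symm, z2, one_mul] at this
  have l1 : N ⊓ N' ≤ Γ := fun γ hγ => by
    obtain ⟨⟨_, y⟩, ⟨k1, k2⟩, e⟩ := m.perfD (T := (N ⊓ N' ⊓ Γ).map (MonoidHom.fst X G))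
      (fun x y x1 x2 y1 y2 nx ny => by
        obtain ⟨u, hu⟩ := h.on x x1 x2
        obtain ⟨v, hv⟩ := h.on y y1 y2
        exact ⟨_, ⟨pmul (S := N ⊓ N') hu hv, two _ hu.1 _ hv.1 (fun o => nx ⟨_, ⟨hu, o⟩, rfl⟩)
          fun o => ny ⟨_, ⟨hv, o⟩, rfl⟩⟩, rfl⟩) γ.1 (h.a.mem _ hγ.1).1 (h.b.mem _ hγ.2).1
    obtain rfl : _ = γ.1 := e
    exact (show (γ.1, y) = γ from Prod.ext rfl (h.gf.eq k1 hγ)) ▸ k2
  have lA : ∀ δ ∈ Δ, s₁ * δ.1 = δ.1 * s₁ → δ ∈ Γ := fun δ a e => l1 ⟨h.a.le a, h.dA _ _ a e⟩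
  have qΓ : (q, r) ∈ Γ := by
    obtain ⟨k, k1, k2⟩ := m.wc
    obtain ⟨l, hl⟩ := h.a.on1 k k1
    have a := lA _ (h.a.nm _ (inv_mem hl) _ hr) (by
      change s₁ * (k⁻¹ * q * k⁻¹⁻¹) = k⁻¹ * q * k⁻¹⁻¹ * s₁
      rw [show s₁ = k⁻¹ * w * k⁻¹⁻¹ by rw [← k2]; group, conj_comm, qw])
    by_cases o : (k, l) ∈ Γ
    · simpa [mul_assoc] using mul_mem (mul_mem o a) (inv_mem o)
    · simpa [mul_assoc] using two _ (mul_mem hl (le a)) _ (inv_mem hl) (fun c => o ((mul_mem_cancel_right a).1 c))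
        fun c => o (inv_mem_iff.1 c)
  refine ⟨Γ, le, n1, n2, l1, fun δ a => ?_⟩
  by_cases e : δ.1 * s₁ = s₁ * δ.1
  · exact lA δ a e.symm
  · exact (mul_mem_cancel_left qΓ).1 (lA _ (mul_mem hr a)
      (p.esQ.aes.comm_mul_of_ne hq (h.a.dm _ a).1 p.s_mem qs e).symm)

theorem exists_g2 [Finite X] [Finite G] : ∃ Γ : Subgroup (X × G), Gf Γ ∧ N ⊓ N' ≤ Γ ∧ Δ ≤ Γ ∧ Δ' ≤ Γ ∧
    ∀ p ∈ Γ, p.1 ∈ normalizer (V4 z₁ s₁ : Set X) := by
  have p := h.a.p1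
  have P := h.a.p2
  obtain ⟨q, hq, qs, qc⟩ := p.exists_q
  obtain ⟨q', hq', qs', qc'⟩ := p.symm.exists_q
  obtain ⟨r, hr⟩ := h.a.d1 q hq
  obtain ⟨r', hr'⟩ := h.b.d1 q' hq'
  have qz := cjf (p.esQ.z_comm q hq)
  have qz' := cjf (p.esR.z_comm q' hq')
  obtain ⟨x1, x2, x3⟩ := s3_act p.esQ.z_sq p.zs_comm qz qc qc' qz'
  obtain ⟨y1, y2, y3⟩ := s3_act P.esQ.z_sq P.zs_comm (cjf (P.esQ.z_comm r (h.a.dm _ hr).2))
    (h.a.toMt.gd.eq (qc ▸ h.a.toMt.cj (h.a.le hr) h.a.ss) (pmul h.a.dz h.a.ss))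
    (h.b.toMt.gd.eq (qc' ▸ h.b.toMt.cj (h.b.le hr') h.b.ss) (pmul h.b.dz h.b.ss))
    (cjf (P.esR.z_comm r' (h.b.dm _ hr').2))
  let M := normalizer ((N ⊓ N' : Subgroup (X × G)) : Set (X × G))
  let f := QuotientGroup.mk' ((N ⊓ N').subgroupOf M)
  have fk : ∀ x : M, f x = 1 ↔ x.1 ∈ N ⊓ N' := fun x => QuotientGroup.eq_one_iff x
  let a : M := ⟨(q, r), h.norm hr⟩
  let b : M := ⟨(q', r'), by simpa only [M, inf_comm N N'] using h.symm.norm hr'⟩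
  have a2 : f a * f a = 1 := by rw [← map_mul, fk]; exact h.sq hr
  have b2 : f b * f b = 1 := by rw [← map_mul, fk]; exact ⟨(h.symm.sq hr').2, (h.symm.sq hr').1⟩
  have br : f (a * b * (a * b) * (a * b)) = 1 := by
    obtain ⟨y, hy⟩ := h.on _ (c3 x1 x2 x3) (c3 x2 x3 x1)
    let g : M := ⟨(_, y), le_normalizer (show _ ∈ N ⊓ N' from hy)⟩
    set t := a * b
    set u := g⁻¹ * (t * t * t) with hu
    have fu : f u = f t * f t * f t := by rw [hu, map_mul, map_inv, (fk g).2 hy, inv_one, one_mul, map_mul, map_mul]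
    have u1 : u.1.1 = 1 := inv_mul_cancel _
    have uV : u.1.2 ∈ V4 z₂ s₂ := by
      refine P.mem_V_of_centralizes (cen_mul (cen_inv (h.a.cz hy.1)) (c3 y1 y2 y3)) fun v hv vs => ?_
      obtain ⟨x, hx⟩ := h.a.d2 v hv
      have k1 : (x, v) ∈ N ⊓ N' := ⟨h.a.le hx, h.dA _ _ hx ((h.a.cs (h.a.le hx)).2 vs.symm)⟩
      have k2 := (mem_normalizer_iff.1 u.2 _).1 k1
      refine mul_inv_eq_iff_eq_mul.1 (h.gf.eq ?_ k1)
      convert k2 using 1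
      exact Prod.ext (by simp [u1]) rfl
    have k : r * r' * u.1.2 * (r * r')⁻¹ = u.1.2 := by
      have : f (t * u * t⁻¹ * u⁻¹) = 1 := by simp only [map_mul, map_inv, fu]; group
      refine mul_inv_eq_one.1 (h.gf _ ?_)
      convert (fk _).1 this using 1
      exact Prod.ext (by simp [u1]) rfl
    have u2 : u.1.2 = 1 := by
      rcases P.mem_V.1 uV with e | e | e | e <;> rw [e] at k
      exacts [e, (P.ne (k.symm.trans y1)).elim, (P.esQ.z_ne (mul_eq_right.1 (y2.symm.trans k))).elim,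
        (P.esR.z_ne (mul_eq_left.1 (k.symm.trans y3))).elim]
    rw [map_mul, map_mul, ← fu, show u = 1 from Subtype.ext (Prod.ext u1 u2), map_one]
  have ab : f a * f b * f a = f b * f a * f b := by
    simp only [map_mul] at br
    rw [← mul_inv_eq_one, mul_inv_rev, mul_inv_rev, inv_eq_of_mul_eq_one_right a2, inv_eq_of_mul_eq_one_right b2,
      ← br]
    group
  let Γ := ((closure {f a, f b}).comap f).map M.subtype
  have l0 : N ⊓ N' ≤ Γ := fun γ hγ => ⟨⟨γ, le_normalizer hγ⟩,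
    ker_le_comap f _ ((fk ⟨γ, le_normalizer hγ⟩).2 hγ), rfl⟩
  have la : (q, r) ∈ Γ := ⟨a, subset_closure (by simp), rfl⟩
  have lb : (q', r') ∈ Γ := ⟨b, subset_closure (by simp), rfl⟩
  have wd : ∀ x : M, f x ∈ closure {f a, f b} → ∃ v : M, (v⁻¹ * x).1 ∈ N ⊓ N' ∧
      (v = 1 ∨ v = a ∨ v = b ∨ v = a * b ∨ v = b * a ∨ v = a * b * a) := fun x hx => by
    have k : ∀ v, f x = f v → (v⁻¹ * x).1 ∈ N ⊓ N' := fun v e => (fk _).1 (by rw [map_mul, map_inv, e, inv_mul_cancel])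
    rcases two_invol_words a2 b2 ab hx with e | e | e | e | e | e
    exacts [⟨1, k _ (by rw [e, map_one]), by simp⟩, ⟨_, k _ e, by simp⟩, ⟨_, k _ e, by simp⟩,
      ⟨a * b, k _ (by rw [e, map_mul]), by simp⟩, ⟨b * a, k _ (by rw [e, map_mul]), by simp⟩,
      ⟨a * b * a, k _ (by rw [e, map_mul, map_mul]), by simp⟩]
  refine ⟨Γ, ?_, l0, fun δ hδ => ?_, fun δ hδ => ?_, ?_⟩
  · rintro y ⟨x, hx, e⟩
    obtain ⟨v, hv, o⟩ := wd x hx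
    have e1 : (v⁻¹ * x).1.1 = v.1.1⁻¹ := by
      change v.1.1⁻¹ * x.1.1 = _
      rw [show x.1.1 = 1 from congrArg Prod.fst e, mul_one]
    have c1 := cen_inv (h.a.mem _ hv.1).1
    have c2 := cen_inv (h.b.mem _ hv.2).1
    rw [e1, inv_inv] at c1 c2
    rcases o with rfl | rfl | rfl | rfl | rfl | rfl
    · exact h.gf y (by simpa [← e] using hv)
    · exact (qs c2).elim
    · exact (qs' c1).elim
    · exact (p.ne ((cjf c1).symm.trans x1)).elim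
    · have := cen_mul (a := q' * q) c1 (cen_inv (p.esQ.z_comm q hq))
      rw [mul_inv_cancel_right] at this
      exact (qs' this).elim
    · have := cen_mul (a := q * q' * q) c1 (cen_inv (p.esQ.z_comm q hq))
      rw [mul_inv_cancel_right] at this
      exact (p.ne ((cjf this).symm.trans x1)).elim
  · by_cases e : δ.1 * s₁ = s₁ * δ.1
    · exact l0 ⟨h.a.le hδ, h.dA _ _ hδ e.symm⟩
    · exact (mul_mem_cancel_left la).1 (l0 ⟨h.a.le (mul_mem hr hδ), h.dA _ _ (mul_mem hr hδ)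
        (p.esQ.aes.comm_mul_of_ne hq (h.a.dm _ hδ).1 p.s_mem (Ne.symm qs) e).symm⟩)
  · by_cases e : δ.1 * z₁ = z₁ * δ.1
    · exact l0 ⟨h.dB _ _ hδ e.symm, h.b.le hδ⟩
    · exact (mul_mem_cancel_left lb).1 (l0 ⟨h.dB _ _ (mul_mem hr' hδ)
        (p.esR.aes.comm_mul_of_ne hq' (h.b.dm _ hδ).1 p.z_mem (Ne.symm qs') e).symm, h.b.le (mul_mem hr' hδ)⟩)
  · rintro _ ⟨x, hx, rfl⟩
    obtain ⟨v, hv, o⟩ := wd x hx
    have k1 : (v⁻¹ * x).1.1 ∈ normalizer (V4 z₁ s₁ : Set X) := centralizer_le_normalizer _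
      (mem_centralizer_closure_pair.2 ⟨(h.a.mem _ hv.1).1, (h.b.mem _ hv.2).1⟩)
    have ka := p.Q_le_norm hq
    have kb := p.R_le_norm hq'
    refine (mul_mem_cancel_left (inv_mem (?_ : v.1.1 ∈ _))).1 k1
    rcases o with rfl | rfl | rfl | rfl | rfl | rfl
    exacts [one_mem _, ka, kb, mul_mem ka kb, mul_mem kb ka, mul_mem (mul_mem ka kb) ka]

end Sy

theorem norm_v4 {Q R : Subgroup X} {z s x v : X} (p : ESPair Q R z s) (hx : x ∈ normalizer (V4 z s : Set X))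
    (hv : v ∈ V4 z s) (v1 : v ≠ 1) : x * v * x⁻¹ = z ∨ x * v * x⁻¹ = s ∨ x * v * x⁻¹ = z * s :=
  (p.mem_V.1 ((mem_normalizer_iff.1 hx v).1 hv)).resolve_left fun e => v1 (by simpa using e)

theorem mem_of_norm {Q R T : Subgroup X} {z s x : X} (p : ESPair Q R z s) (hQ : Q ≤ T)
    (hD : ∀ d, z * d = d * z → s * d = d * s → d ∈ T) (hx : x ∈ normalizer (V4 z s : Set X))
    (hz : z * x = x * z) : x ∈ T := by
  obtain ⟨q, hq, -, qc⟩ := p.exists_q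
  rcases norm_v4 p hx p.s_mem_V p.esR.z_ne with e | e | e
  · exact (p.ne (mul_left_cancel (hz.symm.trans (mul_inv_eq_iff_eq_mul.1 e).symm))).elim
  · exact hD x hz (mul_inv_eq_iff_eq_mul.1 e).symm
  · refine (mul_mem_cancel_left (hQ hq)).1 (hD _ (cen_mul (p.esQ.z_comm q hq) hz) ?_)
    rw [eq_comm, ← mul_inv_eq_iff_eq_mul, show q * x * s * (q * x)⁻¹ = q * (x * s * x⁻¹) * q⁻¹ by group, e,
      ← conj_mul, qc, ← p.esQ.z_comm q hq, mul_inv_cancel_right, p.esQ.z_mul_z_mul]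

theorem Mt.exists_am [Finite X] [Finite G] (h : Mt Q₁ z₁ Q₂ H z₂ N Δ) (m : Md Q₁ R₁ z₁ s₁ w)
    (nwc : ∃ g : G, g * z₂ * g⁻¹ ∈ Q₂ ∧ g * z₂ * g⁻¹ ≠ z₂) {B : Subgroup X} (hB : Odd B.index)
    (hb : ∀ u ∈ B, z₁ * u = u * z₁ ∧ (u * s₁ * u⁻¹ = s₁ ∨ u * s₁ * u⁻¹ = z₁ * s₁)) :
    ∃ R₂ s₂ Γ₁ Γ₂, Am Q₁ R₁ z₁ s₁ Q₂ R₂ H z₂ s₂ Γ₁ Γ₂ := by
  obtain ⟨R₂, s₂, k⟩ := h.exists_pm m nwc
  obtain ⟨H', N', Δ', t⟩ := k.exists_sy m
  obtain ⟨Γ₁, a1, a2, a3, a4, a5⟩ := t.exists_g1 m hB hb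
  obtain ⟨Γ₂, b1, b2, b3, b4, b5⟩ := t.exists_g2
  have p := m.pair
  have g1 : Gf Γ₁ := fun y a => (h.k2 y (a1 a)).resolve_right fun e => a2 (e ▸ a)
  have zm : ∀ {x y}, (1, z₂) * (x, y) ∈ Γ₁ → (x, z₂ * y) ∈ Γ₁ := fun a => by simpa using a
  have pl : ∀ {Γ : Subgroup (X × G)} {x}, x ∈ Γ.map (MonoidHom.fst X G) ↔ ∃ y, (x, y) ∈ Γ := fun {Γ x} =>
    ⟨fun ⟨p, a, e⟩ => ⟨p.2, e ▸ a⟩, fun ⟨y, a⟩ => ⟨_, a, rfl⟩⟩
  refine ⟨R₂, s₂, Γ₁, Γ₂, k.p2, h.card_eq ▸ m.card, h.QH, h.hf, g1, b1, fun x a => ?_,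
    fun q a => ⟨(h.mem _ (a1 a)).1, (h.mem _ (a1 a)).2, h.memQ (a1 a)⟩, fun x a => ?_, fun y a => ?_, b5,
    fun x a => ?_, fun x a => ?_, fun y a => ?_, fun q a b => ?_, a5 h.dz, a5 k.ss, fun q a b c => ?_⟩
  · exact (h.k1 x (a1 a)).resolve_right fun e => a2 (by simpa [e, h.es1.z_sq] using mul_mem a (a5 h.dz))
  · obtain ⟨y, b⟩ := h.on1 x a
    exact (a3 _ b).elim (⟨_, ·⟩) fun o => ⟨_, zm o⟩
  · obtain ⟨x, b⟩ := h.on2 y a
    exact (a3 _ b).elim (⟨_, ·⟩) fun o => ⟨z₁ * x, by simpa [h.es2.z_mul_z_mul] using pmul (a5 h.dz) (zm o)⟩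
  · have hQ : Q₁ ≤ Γ₂.map (MonoidHom.fst X G) := fun q hq => pl.2 ((h.d1 q hq).imp fun _ o => b3 o)
    have hR : R₁ ≤ Γ₂.map (MonoidHom.fst X G) := fun q hq => pl.2 ((t.b.d1 q hq).imp fun _ o => b4 o)
    have key := fun x => mem_of_norm (x := x) p hQ fun d d1 d2 => pl.2 ((t.on d d1 d2).imp fun _ o => b2 o)
    have key' : ∀ v ∈ Q₁ ⊔ R₁, v * (x * z₁ * x⁻¹) * v⁻¹ = z₁ → ∃ y, (x, y) ∈ Γ₂ := fun v hv e =>
      pl.1 ((mul_mem_cancel_left (sup_le hQ hR hv)).1 (key _ (mul_mem (p.X_le_norm hv) a) (by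
        nth_rewrite 1 [← e]; group)))
    obtain ⟨σ, hσ, -, σ2, -⟩ := exists_sw p
    obtain ⟨q, hq, -, qc⟩ := p.symm.exists_q
    rcases norm_v4 p a p.z_mem_V p.esQ.z_ne with e | e | e
    · exact key' 1 (one_mem _) (by simpa using e)
    · exact key' σ hσ (e ▸ σ2)
    · exact key' q (mem_sup_right hq) (by
        rw [e, ← conj_mul, qc, cjf (p.esR.z_comm q hq), mul_assoc, p.zs_comm, p.esR.z_mul_z_mul])
  · obtain ⟨y, b⟩ := t.b.d1 x a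
    exact ⟨y, (t.b.dm _ b).2, b4 b⟩
  · obtain ⟨x, b⟩ := t.b.d2 y a
    exact ⟨x, (t.b.dm _ b).1, b4 b⟩
  · obtain ⟨y, c⟩ := pl.1 (mem_of_norm (T := (Γ₁ ⊓ Γ₂).map (MonoidHom.fst X G)) p
      (fun x hx => pl.2 ((h.d1 x hx).imp fun _ o => ⟨a5 o, b3 o⟩))
      (fun d d1 d2 => pl.2 ((t.on d d1 d2).imp fun _ o => ⟨a4 o, b2 o⟩)) b (h.mem _ (a1 a)).1)
    exact (show (q.1, y) = q from Prod.ext rfl (g1.eq c.1 a)) ▸ c.2
  · obtain ⟨y, d⟩ := h.d1 _ b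
    exact h.fus m d ((g1.eq (a5 d) a).symm ▸ c)

end Cfsg.Agent.E6R
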